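import Mathlib

/-!
Groups of order `p ^ 6` given by six generators with fixed relations: an element acting on an
extraspecial group of order `p ^ 5` either with one Jordan block or with two blocks and a
diagonal form `diag (1, ε)`. Two groups of order `p ^ 6` with the same relations are isomorphic.
-/

set_option autoImplicit false

namespace CfsgLib.Fusion.ESReduce

variable {G : Type*} [Group G]

/-- Two blocks: `x` sends `vᵢ` to `vᵢ uᵢ`, and `[vᵢ, uⱼ] = z ^ diag (1, ε)`. -/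
structure TwoBlock (p : ℕ) (ε : ℤ) (x v₁ v₂ u₁ u₂ z : G) : Prop where
  px : x ^ p = 1
  pv₁ : v₁ ^ p = 1
  pv₂ : v₂ ^ p = 1
  pu₁ : u₁ ^ p = 1
  pu₂ : u₂ ^ p = 1
  pz : z ^ p = 1
  xv₁ : x * v₁ = v₁ * u₁ * x
  xv₂ : x * v₂ = v₂ * u₂ * x
  xu₁ : Commute x u₁
  xu₂ : Commute x u₂
  v₁v₂ : Commute v₁ v₂
  u₁u₂ : Commute u₁ u₂
  v₁u₁ : v₁ * u₁ = z * u₁ * v₁
  v₁u₂ : Commute v₁ u₂
  v₂u₁ : Commute v₂ u₁
  v₂u₂ : v₂ * u₂ = z ^ ε * u₂ * v₂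
  zx : Commute z x
  zv₁ : Commute z v₁
  zv₂ : Commute z v₂
  zu₁ : Commute z u₁
  zu₂ : Commute z u₂

/-- One block: `x` sends `vᵢ` to `vᵢ vᵢ₊₁` and fixes `v₃`. -/
structure OneBlock (p : ℕ) (x v₀ v₁ v₂ v₃ z : G) : Prop where
  px : x ^ p = 1
  pv₀ : v₀ ^ p = 1
  pv₁ : v₁ ^ p = 1
  pv₂ : v₂ ^ p = 1
  pv₃ : v₃ ^ p = 1
  pz : z ^ p = 1
  xv₀ : x * v₀ = v₀ * v₁ * x
  xv₁ : x * v₁ = v₁ * v₂ * x
  xv₂ : x * v₂ = v₂ * v₃ * x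
  xv₃ : Commute x v₃
  v₀v₁ : Commute v₀ v₁
  v₀v₂ : v₀ * v₂ = z * v₂ * v₀
  v₀v₃ : v₀ * v₃ = z * v₃ * v₀
  v₁v₂ : v₁ * v₂ = z⁻¹ * v₂ * v₁
  v₁v₃ : Commute v₁ v₃
  v₂v₃ : Commute v₂ v₃
  zx : Commute z x
  zv₀ : Commute z v₀
  zv₁ : Commute z v₁
  zv₂ : Commute z v₂
  zv₃ : Commute z v₃

/-- `G` has order `p ^ 6` and is generated as in `TwoBlock`. -/
def IsTwoBlock (p : ℕ) (ε : ℤ) (G : Type*) [Group G] : Prop :=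
  ∃ x v₁ v₂ u₁ u₂ z : G, TwoBlock p ε x v₁ v₂ u₁ u₂ z ∧ Nat.card G = p ^ 6 ∧
    Subgroup.closure {x, v₁, v₂, u₁, u₂, z} = ⊤

/-- `G` has order `p ^ 6` and is generated as in `OneBlock`. -/
def IsOneBlock (p : ℕ) (G : Type*) [Group G] : Prop :=
  ∃ x v₀ v₁ v₂ v₃ z : G, OneBlock p x v₀ v₁ v₂ v₃ z ∧ Nat.card G = p ^ 6 ∧
    Subgroup.closure {x, v₀, v₁, v₂, v₃, z} = ⊤

end CfsgLib.Fusion.ESReduce
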