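import Cfsg.Agent.Lib.Fusion.ESReduce.Outside
import Cfsg.Agent.Lib.Fusion.ESReduce.Shape

/-!
Choosing generators with the standard relations.
-/

set_option autoImplicit false
set_option linter.style.haveILetI false
set_option linter.unusedVariables false
set_option linter.unusedSectionVars false

universe u

namespace CfsgLib.Fusion.ESReduce

open Cfsg Cfsg.FusionSystem Subgroup CfsgLib.Fusion.ESIndex Module
open scoped commutatorElement

theorem TwoBlock.of_injective {G H : Type*} [Group G] [Group H] (f : G →* H)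
    (hf : Function.Injective f) {p : ℕ} {ε : ℤ} {x v₁ v₂ u₁ u₂ z : G}
    (h : TwoBlock p ε (f x) (f v₁) (f v₂) (f u₁) (f u₂) (f z)) :
    TwoBlock p ε x v₁ v₂ u₁ u₂ z := by
  obtain ⟨h1, h2, h3, h4, h5, h6, h7, h8, h9, h10, h11, h12, h13, h14, h15, h16, h17, h18, h19, h20,
    h21⟩ := h
  simp only [Commute, SemiconjBy, ← map_mul, ← map_pow, ← map_zpow, ← map_one f, hf.eq_iff] at *
  constructor <;> assumption

theorem OneBlock.of_injective {G H : Type*} [Group G] [Group H] (f : G →* H)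
    (hf : Function.Injective f) {p : ℕ} {x v₀ v₁ v₂ v₃ z : G}
    (h : OneBlock p (f x) (f v₀) (f v₁) (f v₂) (f v₃) (f z)) :
    OneBlock p x v₀ v₁ v₂ v₃ z := by
  obtain ⟨h1, h2, h3, h4, h5, h6, h7, h8, h9, h10, h11, h12, h13, h14, h15, h16, h17, h18, h19, h20,
    h21⟩ := h
  simp only [Commute, SemiconjBy, ← map_mul, ← map_pow, ← map_inv, ← map_one f, hf.eq_iff] at *
  constructor <;> assumption

variable {Ω : Type u} [Group Ω] {S Q : Subgroup Ω} {p : ℕ} {z : Ω}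

namespace Frame

variable [Fact p.Prime] [Finite S] [Module (ZMod p) (Vt Q)] (fr : Frame p S Q z)

include fr

/-- Generation from elements whose images span. -/
theorem le_of_span {C : Subgroup Ω} {x : Ω} (hx : x ∈ S) (hxQ : x ∉ Q) (hxC : x ∈ C) {t : ZMod p}
    (ht : t ≠ 0) (hz : ez p z t ∈ C) (s : Set Ω) (hsQ : s ⊆ Q) (hsC : s ⊆ C)
    (hspan : Submodule.span (ZMod p) (pr Q '' s) = ⊤) : S ≤ C := by
  have hzC : ∀ a ∈ zQ Q, a ∈ C := fun a ha => by
    obtain ⟨k, rfl⟩ := exists_pow fr.st (fr.ez_mem t) (fun h => ht (fr.ez_inj (h.trans fr.ez_zero.symm))) ha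
    exact C.pow_mem hz k
  let A : AddSubgroup (Vt Q) :=
    { carrier := {v | ∃ a ∈ Q, a ∈ C ∧ pr Q a = v}
      zero_mem' := ⟨1, Q.one_mem, C.one_mem, pr_one⟩
      add_mem' := by
        rintro _ _ ⟨a, ha, haC, rfl⟩ ⟨b, hb, hbC, rfl⟩
        exact ⟨a * b, Q.mul_mem ha hb, C.mul_mem haC hbC, pr_mul ha hb⟩
      neg_mem' := by
        rintro _ ⟨a, ha, haC, rfl⟩
        exact ⟨a⁻¹, Q.inv_mem ha, C.inv_mem haC, pr_inv ha⟩ }
  have hA : ∀ v, v ∈ A := fun v => by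
    have hle : Submodule.span (ZMod p) (pr Q '' s) ≤ AddSubgroup.toZModSubmodule p A :=
      Submodule.span_le.2 (by rintro _ ⟨a, ha, rfl⟩; exact ⟨a, hsQ ha, hsC ha, rfl⟩)
    exact hle (hspan ▸ Submodule.mem_top)
  have hQC : ∀ a ∈ Q, a ∈ C := fun a ha => by
    obtain ⟨b, hb, hbC, he⟩ := hA (pr Q a)
    obtain ⟨t', rfl⟩ := fr.pr_eq hb ha he
    exact C.mul_mem hbC (hzC _ (fr.ez_mem t'))
  intro g hg
  obtain ⟨q, hq, i, rfl⟩ := fr.decompose hx hxQ hg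
  exact C.mul_mem (hQC q hq) (C.pow_mem hxC i)

theorem N_next {x a : Ω} (hx : x ∈ S) (ha : a ∈ Q) :
    pr Q (a⁻¹ * (x * a * x⁻¹)) = (fr.symp hx).N (pr Q a) := by
  show _ = fr.cj x hx (pr Q a) - pr Q a
  rw [fr.cj_pr hx ha, pr_mul (Q.inv_mem ha) (fr.conj_memQ hx ha), pr_inv ha]
  abel

theorem card_six (h4 : finrank (ZMod p) (Vt Q) = 4) : Nat.card S = p ^ 6 := by
  rw [fr.card_S, fr.card_Q, h4, ← pow_succ]

/-- One Jordan block gives the one-block relations. -/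
theorem oneBlock_of (h4 : finrank (ZMod p) (Vt Q) = 4) {x : Ω} (hx : x ∈ S) (hxQ : x ∉ Q)
    (hxp : x ^ p = 1) (hQp : ∀ a ∈ Q, a ^ p = 1)
    (h1 : finrank (ZMod p) (LinearMap.ker (fr.symp hx).N) = 1)
    (hk : ∀ k ∈ Q, (fr.symp hx).N (pr Q k) = 0 → x * k = k * x) : IsOneBlock p S := by
  haveI := fr.finite_Vt
  set d := fr.symp hx with hd
  have h2 := two_ne_zero_of_odd (p := p) fr.hp
  have hker3 : finrank (ZMod p) (LinearMap.ker (d.N ^ 3)) = 3 :=
    d.finrank_ker_pow h1 3 (by omega)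
  obtain ⟨w, hw⟩ : ∃ w, (d.N ^ 3) w ≠ 0 := by
    by_contra h
    push Not at h
    rw [show d.N ^ 3 = 0 from LinearMap.ext h, LinearMap.ker_zero, finrank_top] at hker3
    omega
  have hN4 : ∀ v, d.N ((d.N ^ 3) v) = 0 := fun v => by
    rw [← Module.End.mul_apply, ← pow_succ', show 3 + 1 = finrank (ZMod p) (Vt Q) by omega,
      d.pow_finrank h1, LinearMap.zero_apply]
  set c := d.ω w ((d.N ^ 3) w) with hc
  have hform : ∀ v, d.ω v = fr.form v := fun _ => rfl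
  set k := -(d.ω w (d.N w)) / (2 * c) with hk0
  set v₀ := w + k • (d.N ^ 2) w with hv₀
  set v₁ := d.N v₀ with hv₁
  set v₂ := d.N v₁ with hv₂
  set v₃ := d.N v₂ with hv₃
  have e1 : v₁ = d.N w + k • (d.N ^ 3) w := by
    rw [hv₁, hv₀, map_add, map_smul, ← Module.End.mul_apply, ← pow_succ']
  have e2 : v₂ = (d.N ^ 2) w := by
    rw [hv₂, e1, map_add, map_smul, hN4, smul_zero, add_zero, pow_two, Module.End.mul_apply]
  have e3 : v₃ = (d.N ^ 3) w := by rw [hv₃, e2, ← Module.End.mul_apply, ← pow_succ']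
  have hN3 : d.N v₃ = 0 := by rw [e3, hN4]
  have h13 : d.ω v₁ v₃ = 0 := by rw [d.skew, hv₁, d.perp hN3, neg_zero]
  have h23 : d.ω v₂ v₃ = 0 := by rw [d.skew, hv₂, d.perp hN3, neg_zero]
  have h03 : d.ω v₀ v₃ = c := by
    rw [hv₀, map_add, LinearMap.add_apply, map_smul, LinearMap.smul_apply, e3]
    rw [← e2, ← e3, h23, smul_zero, add_zero, e3]
  have i02 := d.inv' v₀ v₂
  rw [← hv₁, ← hv₃, h13, h03, add_zero] at i02
  have h12 : d.ω v₁ v₂ = -c := eq_neg_of_add_eq_zero_left i02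
  have i01 := d.inv' v₀ v₁
  rw [← hv₁, ← hv₂, d.alt, zero_add, h12] at i01
  have h02 : d.ω v₀ v₂ = c := by linear_combination i01
  have hc0 : c ≠ 0 := by
    intro hc0'
    refine hw (e3 ▸ d.nondeg v₃ fun b => ?_)
    have hspan : ∀ b, ∃ (a : ZMod p) (r : Vt Q), b = a • v₀ + d.N r := by
      intro b
      have hle : (ZMod p ∙ v₀) ⊔ LinearMap.range d.N = ⊤ := by
        refine Submodule.eq_top_of_finrank_eq ?_
        have hr := LinearMap.finrank_range_add_finrank_ker d.N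
        have hnot : v₀ ∉ LinearMap.range d.N := by
          rintro ⟨r, hr'⟩
          have := congrArg (fun t => (d.N ^ 3) t) hr'
          rw [← Module.End.mul_apply, ← pow_succ, show 3 + 1 = finrank (ZMod p) (Vt Q) by omega,
            d.pow_finrank h1, LinearMap.zero_apply,
            hv₀, map_add, map_smul, ← Module.End.mul_apply, ← pow_add,
            show d.N ^ (3 + 2) = 0 by
              rw [show 3 + 2 = finrank (ZMod p) (Vt Q) + 1 by omega, pow_succ, d.pow_finrank h1,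
                zero_mul],
            LinearMap.zero_apply, smul_zero, add_zero] at this
          exact hw this.symm
        have := Submodule.finrank_lt_finrank_of_lt (lt_of_le_of_ne
          (le_sup_right : LinearMap.range d.N ≤ (ZMod p ∙ v₀) ⊔ LinearMap.range d.N)
          fun h => hnot (h ▸ Submodule.mem_sup_left (Submodule.mem_span_singleton_self v₀)))
        have := Submodule.finrank_le ((ZMod p ∙ v₀) ⊔ LinearMap.range d.N)
        omega
      obtain ⟨y, hy, _, ⟨r, rfl⟩, rfl⟩ := Submodule.mem_sup.1 (hle.ge (Submodule.mem_top (x := b)))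
      obtain ⟨a, rfl⟩ := Submodule.mem_span_singleton.1 hy
      exact ⟨a, r, rfl⟩
    obtain ⟨a, r, rfl⟩ := hspan b
    rw [map_add, map_smul, d.perp hN3, add_zero, d.skew, h03, hc0', neg_zero, smul_zero]
  have h01 : d.ω v₀ v₁ = 0 := by
    have hwc : d.ω w ((d.N ^ 3) w) = c := rfl
    have hw2 : d.ω w ((d.N ^ 2) w) = c := by
      have := h02
      rw [hv₀, e2, map_add, LinearMap.add_apply, map_smul, LinearMap.smul_apply, d.alt, smul_zero,
        add_zero] at this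
      exact this
    have h2w : d.ω ((d.N ^ 2) w) (d.N w) = c := by
      have := h12
      rw [e2, d.skew, neg_inj, e1, map_add, map_smul, ← e3, ← e2, h23, smul_zero, add_zero] at this
      rw [← e2]; exact this
    rw [e1, hv₀]
    simp only [map_add, map_smul, LinearMap.add_apply, LinearMap.smul_apply, smul_eq_mul]
    rw [h2w, hwc, ← e2, ← e3, h23]
    have hkk : k * (2 * c) = -(d.ω w (d.N w)) := div_mul_cancel₀ _ (mul_ne_zero h2 hc0)
    linear_combination hkk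
  obtain ⟨a₀, ha₀, hp₀⟩ := exists_pr v₀
  set a₁ := a₀⁻¹ * (x * a₀ * x⁻¹) with ha₁d
  have ha₁ : a₁ ∈ Q := Q.mul_mem (Q.inv_mem ha₀) (fr.conj_memQ hx ha₀)
  have hp₁ : pr Q a₁ = v₁ := by rw [ha₁d, fr.N_next hx ha₀, hp₀]
  set a₂ := a₁⁻¹ * (x * a₁ * x⁻¹) with ha₂d
  have ha₂ : a₂ ∈ Q := Q.mul_mem (Q.inv_mem ha₁) (fr.conj_memQ hx ha₁)
  have hp₂ : pr Q a₂ = v₂ := by rw [ha₂d, fr.N_next hx ha₁, hp₁]
  set a₃ := a₂⁻¹ * (x * a₂ * x⁻¹) with ha₃d
  have ha₃ : a₃ ∈ Q := Q.mul_mem (Q.inv_mem ha₂) (fr.conj_memQ hx ha₂)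
  have hp₃ : pr Q a₃ = v₃ := by rw [ha₃d, fr.N_next hx ha₂, hp₂]
  set z' := ez p z c with hz'
  have hzz : ∀ g ∈ S, Commute z' g := fun g hg => (fr.ez_comm hg c).symm
  have com : ∀ {a b : Ω}, a ∈ Q → b ∈ Q → d.ω (pr Q a) (pr Q b) = 0 → Commute a b :=
    fun ha hb h => (fr.comm_iff ha hb).2 h
  have swp : ∀ {a b : Ω}, a ∈ Q → b ∈ Q → d.ω (pr Q a) (pr Q b) = c → a * b = z' * b * a :=
    fun {a b} ha hb h => by
      rw [hform] at h
      rw [fr.mul_swap ha hb, h]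
  have hrel : OneBlock p x a₀ a₁ a₂ a₃ z' :=
    { px := hxp
      pv₀ := hQp _ ha₀
      pv₁ := hQp _ ha₁
      pv₂ := hQp _ ha₂
      pv₃ := hQp _ ha₃
      pz := hQp _ (fr.ez_memQ c)
      xv₀ := by rw [ha₁d]; group
      xv₁ := by rw [ha₂d]; group
      xv₂ := by rw [ha₃d]; group
      xv₃ := hk _ ha₃ (by rw [hp₃]; exact hN3)
      v₀v₁ := com ha₀ ha₁ (by rw [hp₀, hp₁]; exact h01)
      v₀v₂ := swp ha₀ ha₂ (by rw [hp₀, hp₂]; exact h02)
      v₀v₃ := swp ha₀ ha₃ (by rw [hp₀, hp₃]; exact h03)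
      v₁v₂ := by
        rw [fr.mul_swap ha₁ ha₂, hz', ← fr.ez_neg, hp₁, hp₂, ← hform, h12]
      v₁v₃ := com ha₁ ha₃ (by rw [hp₁, hp₃]; exact h13)
      v₂v₃ := com ha₂ ha₃ (by rw [hp₂, hp₃]; exact h23)
      zx := hzz _ hx
      zv₀ := hzz _ (fr.memS ha₀)
      zv₁ := hzz _ (fr.memS ha₁)
      zv₂ := hzz _ (fr.memS ha₂)
      zv₃ := hzz _ (fr.memS ha₃) }
  refine ⟨⟨x, hx⟩, ⟨a₀, fr.memS ha₀⟩, ⟨a₁, fr.memS ha₁⟩, ⟨a₂, fr.memS ha₂⟩, ⟨a₃, fr.memS ha₃⟩,
    ⟨z', fr.memS (fr.ez_memQ c)⟩, OneBlock.of_injective S.subtype S.subtype_injective hrel,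
    fr.card_six h4, ?_⟩
  refine Subgroup.map_injective S.subtype_injective
    (le_antisymm (Subgroup.map_mono le_top) ?_)
  rw [← MonoidHom.range_eq_map, Subgroup.range_subtype, MonoidHom.map_closure]
  refine fr.le_of_span hx hxQ (Subgroup.subset_closure ?_) hc0 (Subgroup.subset_closure ?_)
    {a₀, a₁, a₂, a₃} ?_ ?_ ?_
  · exact ⟨_, Set.mem_insert _ _, rfl⟩
  · refine ⟨⟨z', fr.memS (fr.ez_memQ c)⟩, ?_, rfl⟩
    simp
  · simp [Set.insert_subset_iff, ha₀, ha₁, ha₂, ha₃]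
  · intro a ha
    refine Subgroup.subset_closure ?_
    rcases ha with rfl | rfl | rfl | rfl
    · exact ⟨⟨_, fr.memS ha₀⟩, by simp, rfl⟩
    · exact ⟨⟨_, fr.memS ha₁⟩, by simp, rfl⟩
    · exact ⟨⟨_, fr.memS ha₂⟩, by simp, rfl⟩
    · exact ⟨⟨_, fr.memS ha₃⟩, by simp, rfl⟩
  set W := Submodule.span (ZMod p) (pr Q '' ({a₀, a₁, a₂, a₃} : Set Ω)) with hW
  have hmem : v₀ ∈ W ∧ v₁ ∈ W ∧ v₂ ∈ W ∧ v₃ ∈ W :=
    ⟨Submodule.subset_span ⟨a₀, by simp, hp₀⟩, Submodule.subset_span ⟨a₁, by simp, hp₁⟩,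
      Submodule.subset_span ⟨a₂, by simp, hp₂⟩, Submodule.subset_span ⟨a₃, by simp, hp₃⟩⟩
  have hinv : ∀ a ∈ W, d.N a ∈ W := by
    intro a ha
    have hle : W ≤ W.comap d.N := by
      refine Submodule.span_le.2 ?_
      rintro _ ⟨b, hb, rfl⟩
      rcases hb with rfl | rfl | rfl | rfl
      · show d.N (pr Q _) ∈ W; rw [hp₀]; exact hmem.2.1
      · show d.N (pr Q _) ∈ W; rw [hp₁]; exact hmem.2.2.1
      · show d.N (pr Q _) ∈ W; rw [hp₂]; exact hmem.2.2.2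
      · show d.N (pr Q _) ∈ W; rw [hp₃, hN3]; exact W.zero_mem
    exact hle ha
  have hWk := d.invariant_eq h1 hinv (i := finrank (ZMod p) W) rfl
  refine Submodule.eq_top_of_finrank_eq ?_
  by_contra hne
  have hlt : finrank (ZMod p) W ≤ 3 := by
    have := Submodule.finrank_le W
    omega
  have h0 : (d.N ^ finrank (ZMod p) W) v₀ = 0 := LinearMap.mem_ker.1 (hWk ▸ hmem.1)
  have h3' : (d.N ^ 3) v₀ = 0 := by
    rw [← Nat.sub_add_cancel hlt, pow_add, Module.End.mul_apply, h0, map_zero]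
  refine hw ?_
  rw [← e3, hv₃, hv₂, hv₁]
  rw [pow_succ', pow_two, Module.End.mul_apply, Module.End.mul_apply] at h3'
  exact h3'

/-- Two blocks give the two-block relations. -/
theorem twoBlock_of (h4 : finrank (ZMod p) (Vt Q) = 4) {x : Ω} (hx : x ∈ S) (hxQ : x ∉ Q)
    (hxp : x ^ p = 1) (hQp : ∀ a ∈ Q, a ^ p = 1)
    (hRK : LinearMap.range (fr.symp hx).N = LinearMap.ker (fr.symp hx).N)
    (hk : ∀ k ∈ Q, (fr.symp hx).N (pr Q k) = 0 → x * k = k * x) :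
    ∃ ε : ℤ, IsTwoBlock p ε S ∧ (ε : ZMod p) ≠ 0 ∧
      (IsSquare (-(ε : ZMod p)) ↔
        ∃ a, (fr.symp hx).N a ≠ 0 ∧ fr.form a ((fr.symp hx).N a) = 0) := by
  haveI := fr.finite_Vt
  set d := fr.symp hx with hd
  have h2 := two_ne_zero_of_odd (p := p) fr.hp
  have hform : ∀ v, d.ω v = fr.form v := fun _ => rfl
  have hNN : ∀ a, d.N (d.N a) = 0 := fun a =>
    LinearMap.mem_ker.1 (hRK ▸ LinearMap.mem_range_self d.N a)
  have hsym : ∀ a b, d.ω a (d.N b) = d.ω b (d.N a) := fun a b => d.beta_symm (hNN b)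
  have hperp : ∀ a b, d.ω (d.N a) (d.N b) = 0 := fun a b => d.perp (hNN a) b
  have hdim : finrank (ZMod p) (LinearMap.ker d.N) = 2 := by
    have := LinearMap.finrank_range_add_finrank_ker d.N
    rw [hRK] at this
    omega
  obtain ⟨w₁, hw₁⟩ : ∃ w, d.ω w (d.N w) ≠ 0 := by
    by_contra h
    push Not at h
    refine fr.N_ne_zero hx hxQ (LinearMap.ext fun b => ?_)
    refine d.nondeg _ fun a => ?_
    have h' := h (a + b)
    simp only [map_add, LinearMap.add_apply, h a, h b, zero_add, add_zero, hsym b a] at h'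
    rw [d.skew, neg_eq_zero]
    exact (mul_eq_zero.1 (by linear_combination h' : (2 : ZMod p) * d.ω a (d.N b) = 0)).resolve_left h2
  set c := d.ω w₁ (d.N w₁) with hc
  set φ : Vt Q →ₗ[ZMod p] ZMod p := (d.ω w₁).comp d.N with hφ
  obtain ⟨w₂, hw₂k, hw₂⟩ : ∃ w, φ w = 0 ∧ d.N w ≠ 0 := by
    by_contra h
    push Not at h
    have hle : LinearMap.ker φ ≤ LinearMap.ker d.N := fun a ha => h a ha
    have := Submodule.finrank_mono hle
    have := LinearMap.finrank_range_add_finrank_ker φ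
    have := (Submodule.finrank_le (LinearMap.range φ)).trans (Module.finrank_self (ZMod p)).le
    omega
  have h12' : d.ω w₁ (d.N w₂) = 0 := hw₂k
  set v₁ := w₁ with hv₁
  set v₂ := w₂ + (-(d.ω w₁ w₂) / c) • d.N w₁ with hv₂
  set u₁ := d.N v₁ with hu₁
  set u₂ := d.N v₂ with hu₂
  have eu₂ : u₂ = d.N w₂ := by rw [hu₂, hv₂, map_add, map_smul, hNN, smul_zero, add_zero]
  have b11 : d.ω v₁ u₁ = c := rfl
  have b12 : d.ω v₁ u₂ = 0 := by rw [eu₂]; exact h12'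
  have b21 : d.ω v₂ u₁ = 0 := by rw [hu₁, hsym v₂ v₁]; exact b12
  have bvv : d.ω v₁ v₂ = 0 := by
    rw [hv₂, map_add, map_smul, smul_eq_mul, ← hc, div_mul_cancel₀ _ hw₁, add_neg_cancel]
  have huu : d.ω u₁ u₂ = 0 := hperp _ _
  have hind : ∀ s t : ZMod p, s • u₁ + t • u₂ = 0 → s = 0 ∧ t = 0 := by
    intro s t h
    have h' := congrArg (d.ω v₁) h
    simp only [map_add, map_smul, smul_eq_mul, map_zero, b11, b12, mul_zero, add_zero] at h'
    have hs := (mul_eq_zero.1 h').resolve_right hw₁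
    rw [hs, zero_smul, zero_add, smul_eq_zero] at h
    exact ⟨hs, h.resolve_right (eu₂ ▸ hw₂)⟩
  have hker : Submodule.span (ZMod p) {u₁, u₂} = LinearMap.ker d.N := by
    refine Submodule.eq_of_le_of_finrank_le (Submodule.span_le.2 ?_) ?_
    · rintro _ (rfl | rfl) <;> exact hNN _
    · have hli : LinearIndependent (ZMod p) ![u₁, u₂] := LinearIndependent.pair_iff.2 hind
      have := finrank_span_eq_card hli
      rw [Matrix.range_cons, Matrix.range_cons, Matrix.range_empty, Set.union_empty,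
        Set.singleton_union, Fintype.card_fin] at this
      omega
  have hdec : ∀ a, ∃ s t : ZMod p, ∃ k, d.N k = 0 ∧ a = s • v₁ + t • v₂ + k := by
    intro a
    obtain ⟨s, t, hst⟩ := Submodule.mem_span_pair.1 (hker.ge (LinearMap.mem_ker.2 (hNN a)))
    refine ⟨s, t, a - (s • v₁ + t • v₂), ?_, (add_sub_cancel _ _).symm⟩
    rw [map_sub, map_add, map_smul, map_smul, ← hu₁, ← hu₂, hst, sub_self]
  set c₂ := d.ω v₂ u₂ with hc₂
  have hc₂0 : c₂ ≠ 0 := by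
    intro h
    refine hw₂ ?_
    rw [← eu₂]
    refine d.nondeg u₂ fun a => ?_
    obtain ⟨s, t, k, hk', rfl⟩ := hdec a
    rw [map_add, map_add, map_smul, map_smul, d.skew u₂ v₁, b12, d.skew u₂ v₂, ← hc₂, h,
      d.skew u₂ k, hu₂, d.perp hk']
    simp
  have hval : ∀ (s t : ZMod p) (k : Vt Q), d.N k = 0 →
      d.ω (s • v₁ + t • v₂ + k) (d.N (s • v₁ + t • v₂ + k)) = s * s * c + t * t * c₂ := by
    intro s t k hk'
    have hkp : ∀ b, d.ω k (d.N b) = 0 := d.perp hk'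
    rw [map_add d.N, hk', add_zero]
    simp only [map_add, map_smul, LinearMap.add_apply, LinearMap.smul_apply, smul_eq_mul, hkp,
      ← hu₁, ← hu₂]
    rw [b11, b12, b21, ← hc₂, hu₁, hu₂, hkp v₁, hkp v₂]
    ring
  set ε : ℤ := ((c₂ / c).val : ℤ) with hε
  have hεc : (ε : ZMod p) = c₂ / c := by rw [hε, Int.cast_natCast, ZMod.natCast_zmod_val]
  obtain ⟨a₁, ha₁, hp₁⟩ := exists_pr v₁
  obtain ⟨a₂, ha₂, hp₂⟩ := exists_pr v₂
  set b₁ := a₁⁻¹ * (x * a₁ * x⁻¹) with hb₁d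
  have hb₁ : b₁ ∈ Q := Q.mul_mem (Q.inv_mem ha₁) (fr.conj_memQ hx ha₁)
  have hq₁ : pr Q b₁ = u₁ := by rw [hb₁d, fr.N_next hx ha₁, hp₁]
  set b₂ := a₂⁻¹ * (x * a₂ * x⁻¹) with hb₂d
  have hb₂ : b₂ ∈ Q := Q.mul_mem (Q.inv_mem ha₂) (fr.conj_memQ hx ha₂)
  have hq₂ : pr Q b₂ = u₂ := by rw [hb₂d, fr.N_next hx ha₂, hp₂]
  set z' := ez p z c with hz'
  have hzz : ∀ g ∈ S, Commute z' g := fun g hg => (fr.ez_comm hg c).symm
  have com : ∀ {a b : Ω}, a ∈ Q → b ∈ Q → d.ω (pr Q a) (pr Q b) = 0 → Commute a b :=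
    fun ha hb h => (fr.comm_iff ha hb).2 h
  have hrel : TwoBlock p ε x a₁ a₂ b₁ b₂ z' :=
    { px := hxp
      pv₁ := hQp _ ha₁
      pv₂ := hQp _ ha₂
      pu₁ := hQp _ hb₁
      pu₂ := hQp _ hb₂
      pz := hQp _ (fr.ez_memQ c)
      xv₁ := by rw [hb₁d]; group
      xv₂ := by rw [hb₂d]; group
      xu₁ := hk _ hb₁ (by rw [hq₁]; exact hNN _)
      xu₂ := hk _ hb₂ (by rw [hq₂]; exact hNN _)
      v₁v₂ := com ha₁ ha₂ (by rw [hp₁, hp₂]; exact bvv)
      u₁u₂ := com hb₁ hb₂ (by rw [hq₁, hq₂]; exact huu)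
      v₁u₁ := by rw [fr.mul_swap ha₁ hb₁, hp₁, hq₁, ← hform, b11]
      v₁u₂ := com ha₁ hb₂ (by rw [hp₁, hq₂]; exact b12)
      v₂u₁ := com ha₂ hb₁ (by rw [hp₂, hq₁]; exact b21)
      v₂u₂ := by
        rw [fr.mul_swap ha₂ hb₂, hp₂, hq₂, ← hform, ← hc₂, hε, zpow_natCast, hz', fr.ez_pow,
          ZMod.natCast_zmod_val, div_mul_cancel₀ _ hw₁]
      zx := hzz _ hx
      zv₁ := hzz _ (fr.memS ha₁)
      zv₂ := hzz _ (fr.memS ha₂)
      zu₁ := hzz _ (fr.memS hb₁)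
      zu₂ := hzz _ (fr.memS hb₂) }
  refine ⟨ε, ⟨⟨x, hx⟩, ⟨a₁, fr.memS ha₁⟩, ⟨a₂, fr.memS ha₂⟩, ⟨b₁, fr.memS hb₁⟩, ⟨b₂, fr.memS hb₂⟩,
    ⟨z', fr.memS (fr.ez_memQ c)⟩, TwoBlock.of_injective S.subtype S.subtype_injective hrel,
    fr.card_six h4, ?_⟩, by rw [hεc]; exact div_ne_zero hc₂0 hw₁, ?_⟩
  · refine Subgroup.map_injective S.subtype_injective
      (le_antisymm (Subgroup.map_mono le_top) ?_)
    rw [← MonoidHom.range_eq_map, Subgroup.range_subtype, MonoidHom.map_closure]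
    refine fr.le_of_span hx hxQ (Subgroup.subset_closure ?_) hw₁ (Subgroup.subset_closure ?_)
      {a₁, a₂, b₁, b₂} ?_ ?_ ?_
    · exact ⟨_, Set.mem_insert _ _, rfl⟩
    · exact ⟨⟨z', fr.memS (fr.ez_memQ c)⟩, by simp, rfl⟩
    · simp [Set.insert_subset_iff, ha₁, ha₂, hb₁, hb₂]
    · intro a ha
      refine Subgroup.subset_closure ?_
      rcases ha with rfl | rfl | rfl | rfl
      · exact ⟨⟨_, fr.memS ha₁⟩, by simp, rfl⟩
      · exact ⟨⟨_, fr.memS ha₂⟩, by simp, rfl⟩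
      · exact ⟨⟨_, fr.memS hb₁⟩, by simp, rfl⟩
      · exact ⟨⟨_, fr.memS hb₂⟩, by simp, rfl⟩
    rw [eq_top_iff]
    intro a _
    obtain ⟨s, t, k, hk', rfl⟩ := hdec a
    obtain ⟨s', t', rfl⟩ := Submodule.mem_span_pair.1 (hker.ge (LinearMap.mem_ker.2 hk'))
    refine Submodule.add_mem _ (Submodule.add_mem _ ?_ ?_) (Submodule.add_mem _ ?_ ?_) <;>
      refine Submodule.smul_mem _ _ (Submodule.subset_span ?_)
    · exact ⟨a₁, by simp, hp₁⟩
    · exact ⟨a₂, by simp, hp₂⟩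
    · exact ⟨b₁, by simp, hq₁⟩
    · exact ⟨b₂, by simp, hq₂⟩
  rw [hεc]
  constructor
  · rintro ⟨r, hr⟩
    refine ⟨r • v₁ + (1 : ZMod p) • v₂ + 0, fun h => ?_, ?_⟩
    · rw [map_add, map_zero, add_zero, map_add, map_smul, map_smul, ← hu₁, ← hu₂] at h
      exact one_ne_zero (hind _ _ h).2
    · rw [← hform, hval _ _ _ (map_zero _), ← hr]
      field_simp
      ring
  · rintro ⟨a, ha, hz0⟩
    obtain ⟨s, t, k, hk', rfl⟩ := hdec a
    rw [← hform, hval s t k hk'] at hz0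
    have ht : t ≠ 0 := by
      rintro rfl
      simp only [mul_zero, zero_mul, add_zero, mul_eq_zero, or_self, hw₁, or_false] at hz0
      exact ha (by rw [map_add, hk', hz0]; simp)
    refine ⟨s / t, ?_⟩
    field_simp
    linear_combination -hz0

end Frame

end CfsgLib.Fusion.ESReduce
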