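import Cfsg.Agent.Lib.Fusion.ESReduce.Toolbox
import Cfsg.Agent.Lib.Fusion.ESReduce.Build

/-!
The case of an element of `Q`, central modulo the centre, conjugate into the centre.
-/

set_option autoImplicit false
set_option linter.style.haveILetI false
set_option linter.unusedVariables false
set_option linter.unusedSectionVars false

universe u

namespace CfsgLib.Fusion.ESReduce

open Cfsg Cfsg.FusionSystem Subgroup CfsgLib.Fusion.ESIndex Module
open scoped commutatorElement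

variable {Ω : Type u} [Group Ω] {S Q : Subgroup Ω} {p : ℕ} {z : Ω} {F : FusionSystem S}

/-- The element, and the map out of its centralizer. -/
structure BData [Fact p.Prime] [Finite S] [Module (ZMod p) (Vt Q)] (fr : Frame p S Q z)
    (F : FusionSystem S) (u x : Ω) (g : Ω → Ω) : Prop where
  hF : F.IsSaturated p
  hu : u ∈ Q
  hu0 : pr Q u ≠ 0
  hx : x ∈ S
  hxQ : x ∉ Q
  hxu : x * u = u * x
  hg : IsMap F (centralizerIn S (Subgroup.zpowers u)) g
  hgu : g u ∈ zQ Q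

namespace BData

variable [Fact p.Prime] [Finite S] [Module (ZMod p) (Vt Q)] {fr : Frame p S Q z} {u x : Ω}
  {g : Ω → Ω} (h : BData fr F u x g)

include h

theorem memM {a : Ω} :
    a ∈ centralizerIn S (Subgroup.zpowers u) ↔ a ∈ S ∧ a * u = u * a := by
  refine ⟨fun ha => ⟨ha.1, (ha.2 u (Subgroup.mem_zpowers u)).symm⟩, fun ha => ⟨ha.1, fun b hb => ?_⟩⟩
  obtain ⟨k, rfl⟩ := Subgroup.mem_zpowers_iff.1 hb
  exact (Commute.zpow_right (show Commute a u from ha.2) k).eq.symm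

theorem memM_Q {a : Ω} (ha : a ∈ Q) :
    a ∈ centralizerIn S (Subgroup.zpowers u) ↔ fr.form (pr Q u) (pr Q a) = 0 := by
  rw [h.memM]
  exact ⟨fun h' => (fr.comm_iff h.hu ha).1 h'.2.symm,
    fun h' => ⟨fr.memS ha, ((fr.comm_iff h.hu ha).2 h').symm⟩⟩

theorem x_memM : x ∈ centralizerIn S (Subgroup.zpowers u) := h.memM.2 ⟨h.hx, h.hxu⟩

theorem u_memM : u ∈ centralizerIn S (Subgroup.zpowers u) := h.memM.2 ⟨fr.memS h.hu, rfl⟩

theorem zQ_memM {a : Ω} (ha : a ∈ zQ Q) : a ∈ centralizerIn S (Subgroup.zpowers u) :=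
  h.memM.2 ⟨fr.memS (zQ_le fr.st ha), (zQ_central fr.st (fr.memS h.hu) ha).symm⟩

theorem z_memM : z ∈ centralizerIn S (Subgroup.zpowers u) := h.zQ_memM fr.hz

theorem u_notMem : u ∉ zQ Q := fun h' => h.hu0 ((fr.pr_eq_zero h.hu).2 h')

theorem u_ne : u ≠ 1 := fun h' => h.u_notMem (h' ▸ (zQ Q).one_mem)

theorem gu_ne : g u ≠ 1 := fun h' => h.u_ne (h.hg.eq_one h.u_memM h')

theorem u_pow : u ^ p = 1 :=
  h.hg.eq_one (Subgroup.pow_mem _ h.u_memM p) (by rw [h.hg.map_pow h.u_memM, pow_p_zQ fr.st h.hgu])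

theorem gz_notMem : g z ∉ zQ Q := by
  intro h'
  obtain ⟨k, hk⟩ := exists_pow fr.st h' (fun h1 => fr.hz1 (h.hg.eq_one h.z_memM h1)) h.hgu
  rw [← h.hg.map_pow h.z_memM] at hk
  exact h.u_notMem (h.hg.inj h.u_memM (Subgroup.pow_mem _ h.z_memM k) hk ▸ (zQ Q).pow_mem fr.hz k)

theorem gz_pow : g z ^ p = 1 := by rw [← h.hg.map_pow h.z_memM, fr.z_pow, h.hg.map_one]

theorem ez_gz {t : ZMod p} {K : Subgroup Ω} (ht : ez p (g z) t ∈ K) (ht0 : t ≠ 0) : g z ∈ K := by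
  have h1 : ez p (g z) t ^ (t⁻¹).val = g z := by
    have e := h.hg.map_pow (x := ez p z t) (h.zQ_memM (fr.ez_mem t)) (t⁻¹).val
    rw [map_ez h.hg h.z_memM] at e
    rw [← e, fr.ez_pow, ZMod.natCast_zmod_val, inv_mul_cancel₀ ht0, fr.ez_one]
  rw [← h1]
  exact K.pow_mem ht _

/-- Two centralized elements of `Q` staying in `Q` commute. -/
theorem comm_of {a b : Ω} (ha : a ∈ Q) (hb : b ∈ Q)
    (haM : a ∈ centralizerIn S (Subgroup.zpowers u)) (hbM : b ∈ centralizerIn S (Subgroup.zpowers u))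
    (hga : g a ∈ Q) (hgb : g b ∈ Q) : fr.form (pr Q a) (pr Q b) = 0 := by
  by_contra ht
  refine h.gz_notMem (h.ez_gz (t := fr.form (pr Q a) (pr Q b)) (K := zQ Q) ?_ ht)
  rw [← map_ez h.hg h.z_memM, ← fr.comm_eq ha hb]
  have e : g ⁅a, b⁆ = ⁅g a, g b⁆ := map_commutatorElement h.hg.toHom ⟨a, haM⟩ ⟨b, hbM⟩
  rw [e]
  exact fr.commQ hga hgb

theorem w0_dim : finrank (ZMod p) (LinearMap.ker (fr.form (pr Q u))) + 1 =
    finrank (ZMod p) (Vt Q) := by
  haveI := fr.finite_Vt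
  have h1 := LinearMap.finrank_range_add_finrank_ker (fr.form (pr Q u))
  have h2 : finrank (ZMod p) (LinearMap.range (fr.form (pr Q u))) = 1 := by
    refine le_antisymm ((Submodule.finrank_le _).trans (Module.finrank_self (ZMod p)).le)
      (Submodule.one_le_finrank_iff.2 fun hb => h.hu0 ?_)
    exact fr.form_nondeg _ fun b => by rw [LinearMap.range_eq_bot.1 hb, LinearMap.zero_apply]
  omega

theorem gz_memQ : g z ∈ Q := by
  haveI := fr.finite_Vt
  have hne : ∃ a ∈ Q, ∃ b ∈ Q, a ∈ centralizerIn S (Subgroup.zpowers u) ∧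
      b ∈ centralizerIn S (Subgroup.zpowers u) ∧ fr.form (pr Q a) (pr Q b) ≠ 0 := by
    by_contra hall
    push Not at hall
    have h2 := (fr.symp h.hx).two_mul_le (W := LinearMap.ker (fr.form (pr Q u))) fun a ha b hb => by
      obtain ⟨a', ha', rfl⟩ := exists_pr a
      obtain ⟨b', hb', rfl⟩ := exists_pr b
      exact hall a' ha' b' hb' ((h.memM_Q ha').2 ha) ((h.memM_Q hb').2 hb)
    have := h.w0_dim
    have := fr.four_le
    omega
  obtain ⟨a, ha, b, hb, haM, hbM, ht⟩ := hne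
  refine h.ez_gz (t := fr.form (pr Q a) (pr Q b)) (K := Q) ?_ ht
  rw [← map_ez h.hg h.z_memM, ← fr.comm_eq ha hb]
  have e : g ⁅a, b⁆ = ⁅g a, g b⁆ := map_commutatorElement h.hg.toHom ⟨a, haM⟩ ⟨b, hbM⟩
  rw [e, commutatorElement_def]
  exact comm_mem_Q_of fr (h.hg.mem haM) (h.hg.mem hbM)

theorem g_zQ {a : Ω} (ha : a ∈ zQ Q) : g a ∈ Q := by
  obtain ⟨t, rfl⟩ := fr.exists_ez ha
  rw [map_ez h.hg h.z_memM]
  exact Q.pow_mem h.gz_memQ _

theorem eq_pow_of_g {a : Ω} (haM : a ∈ centralizerIn S (Subgroup.zpowers u)) (ha : g a ∈ zQ Q) :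
    ∃ k : ℕ, a = u ^ k := by
  obtain ⟨k, hk⟩ := exists_pow fr.st h.hgu h.gu_ne ha
  rw [← h.hg.map_pow h.u_memM] at hk
  exact ⟨k, h.hg.inj haM (Subgroup.pow_mem _ h.u_memM k) hk⟩

/-- Dimension four, and elements witnessing the shape of the action. -/
theorem four : finrank (ZMod p) (Vt Q) = 4 ∧ ∃ x' v, x' ∈ centralizerIn S (Subgroup.zpowers u) ∧
    x' ∉ Q ∧ g x' ∈ Q ∧ v ∈ Q ∧ v ∈ centralizerIn S (Subgroup.zpowers u) ∧ g v ∈ Q ∧
      ∀ hx' : x' ∈ S, (fr.symp hx').N (pr Q v) ≠ 0 ∧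
        fr.form (pr Q v) ((fr.symp hx').N (pr Q v)) = 0 ∧
        (fr.symp hx').N ((fr.symp hx').N (pr Q v)) = 0 ∧
        (∀ a ∈ Q, a ∈ centralizerIn S (Subgroup.zpowers u) → g a ∈ Q →
          ∀ b ∈ Q, b ∈ centralizerIn S (Subgroup.zpowers u) → g b ∈ Q →
            fr.form (pr Q a) (pr Q b) = 0) := by
  classical
  haveI := fr.finite_Vt
  obtain ⟨θ, hθ, hθQ, hθx, -⟩ := fr.exists_theta h.hx h.hxQ
  set W0 := LinearMap.ker (fr.form (pr Q u)) with hW0
  have hl : ∀ w : W0, lift (w : Vt Q) ∈ centralizerIn S (Subgroup.zpowers u) := fun w =>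
    (h.memM_Q (lift_mem _)).2 (by rw [pr_lift]; exact w.2)
  have hθ0 : ∀ a ∈ Q, a ∈ centralizerIn S (Subgroup.zpowers u) → ∀ b ∈ Q, pr Q a = pr Q b →
      θ (g b) = θ (g a) := fun a ha haM b hb he => by
    obtain ⟨t, rfl⟩ := fr.pr_eq ha hb he
    rw [h.hg.map_mul haM (h.zQ_memM (fr.ez_mem t)), hθ _ (h.hg.mem haM) _
      (h.hg.mem (h.zQ_memM (fr.ez_mem t))),
      (hθQ _ (h.hg.mem (h.zQ_memM (fr.ez_mem t)))).2 (h.g_zQ (fr.ez_mem t)), add_zero]
  let χ : W0 →ₗ[ZMod p] ZMod p := AddMonoidHom.toZModLinearMap p (AddMonoidHom.mk'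
    (fun w => θ (g (lift (w : Vt Q)))) fun a b => by
      rw [← hθ _ (h.hg.mem (hl a)) _ (h.hg.mem (hl b)), ← h.hg.map_mul (hl a) (hl b)]
      exact hθ0 _ (Q.mul_mem (lift_mem _) (lift_mem _)) (Subgroup.mul_mem _ (hl a) (hl b)) _
        (lift_mem _) (by rw [pr_mul (lift_mem _) (lift_mem _), pr_lift, pr_lift, pr_lift]; rfl))
  have hχ : ∀ w : W0, w ∈ LinearMap.ker χ ↔ g (lift (w : Vt Q)) ∈ Q := fun w => by
    rw [LinearMap.mem_ker]
    exact hθQ _ (h.hg.mem (hl w))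
  set L := (LinearMap.ker χ).map W0.subtype with hL
  have hLiso : ∀ a ∈ L, ∀ b ∈ L, fr.form a b = 0 := by
    rintro _ ⟨a, ha, rfl⟩ _ ⟨b, hb, rfl⟩
    show fr.form (a : Vt Q) (b : Vt Q) = 0
    rw [← pr_lift (a : Vt Q), ← pr_lift (b : Vt Q)]
    exact h.comm_of (lift_mem _) (lift_mem _) (hl a) (hl b) ((hχ a).1 ha) ((hχ b).1 hb)
  have hLdim : finrank (ZMod p) L = finrank (ZMod p) (LinearMap.ker χ) :=
    Submodule.finrank_map_subtype_eq _ _
  have h2L := (fr.symp h.hx).two_mul_le hLiso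
  have hχr := LinearMap.finrank_range_add_finrank_ker χ
  have hχ1 := (Submodule.finrank_le (LinearMap.range χ)).trans (Module.finrank_self (ZMod p)).le
  have hW := h.w0_dim
  rw [← hW0] at hW
  have h4 := fr.four_le
  have hm : finrank (ZMod p) (Vt Q) = 4 := by omega
  have hall : ∀ a ∈ Q, a ∈ centralizerIn S (Subgroup.zpowers u) → g a ∈ Q →
      ∀ b ∈ Q, b ∈ centralizerIn S (Subgroup.zpowers u) → g b ∈ Q →
        fr.form (pr Q a) (pr Q b) = 0 := fun a ha haM hga b hb hbM hgb =>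
    h.comm_of ha hb haM hbM hga hgb
  obtain ⟨w, hw⟩ : ∃ w : W0, χ w ≠ 0 := by
    by_contra hz
    push Not at hz
    have : LinearMap.ker χ = ⊤ := eq_top_iff.2 fun a _ => LinearMap.mem_ker.2 (hz a)
    rw [this, finrank_top] at hLdim
    omega
  set j := (-(θ (g x)) / χ w).val with hj
  set x' := x * lift (w : Vt Q) ^ j with hx'
  have hx'M : x' ∈ centralizerIn S (Subgroup.zpowers u) :=
    Subgroup.mul_mem _ h.x_memM (Subgroup.pow_mem _ (hl w) j)
  have hx'Q : x' ∉ Q := fun hq => h.hxQ (by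
    have := Q.mul_mem hq (Q.inv_mem (Q.pow_mem (lift_mem (w : Vt Q)) j))
    rwa [hx', mul_inv_cancel_right] at this)
  have hgx' : g x' ∈ Q := by
    refine (hθQ _ (h.hg.mem hx'M)).1 ?_
    rw [hx', h.hg.map_mul h.x_memM (Subgroup.pow_mem _ (hl w) j), h.hg.map_pow (hl w),
      hθ _ (h.hg.mem h.x_memM) _ (S.pow_mem (h.hg.mem (hl w)) j), fr.theta_pow hθ (h.hg.mem (hl w)),
      hj, ZMod.natCast_zmod_val]
    show _ + _ * χ w = 0
    rw [div_mul_cancel₀ _ hw, add_neg_cancel]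
  refine ⟨hm, ?_⟩
  have hx'S : x' ∈ S := hx'M.1
  -- commutators with `x'` fall into the powers of `u`
  have hcomm : ∀ a ∈ Q, a ∈ centralizerIn S (Subgroup.zpowers u) → g a ∈ Q →
      ∃ k : ℕ, x' * a * x'⁻¹ * a⁻¹ = u ^ k := by
    intro a ha haM hga
    refine h.eq_pow_of_g (Subgroup.mul_mem _ (Subgroup.mul_mem _ (Subgroup.mul_mem _ hx'M haM)
      (Subgroup.inv_mem _ hx'M)) (Subgroup.inv_mem _ haM)) ?_
    have e : g ⁅x', a⁆ = ⁅g x', g a⁆ := map_commutatorElement h.hg.toHom ⟨x', hx'M⟩ ⟨a, haM⟩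
    rw [commutatorElement_def, commutatorElement_def] at e
    rw [e, ← commutatorElement_def]
    exact fr.commQ hgx' hga
  have hNu : ∀ hx₀ : x' ∈ S, (fr.symp hx₀).N (pr Q u) = 0 := fun hx₀ => by
    rw [fr.N_pr hx₀ h.hu, ((h.memM).1 hx'M).2, mul_inv_cancel_right, mul_inv_cancel, pr_one]
  suffices hv : ∃ v ∈ Q, v ∈ centralizerIn S (Subgroup.zpowers u) ∧ g v ∈ Q ∧
      x' * v * x'⁻¹ * v⁻¹ ≠ 1 by
    obtain ⟨v, hv, hvM, hgv, hne⟩ := hv
    refine ⟨x', v, hx'M, hx'Q, hgx', hv, hvM, hgv, fun hx₀ => ?_⟩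
    obtain ⟨k, hk⟩ := hcomm v hv hvM hgv
    have hN : (fr.symp hx₀).N (pr Q v) = k • pr Q u := by rw [fr.N_pr hx₀ hv, hk, pr_pow h.hu]
    refine ⟨fun h0 => hne ?_, ?_, ?_, hall⟩
    · rw [hN, ← Nat.cast_smul_eq_nsmul (ZMod p), smul_eq_zero] at h0
      have hk0 := h0.resolve_right h.hu0
      rw [ZMod.natCast_eq_zero_iff] at hk0
      obtain ⟨c, rfl⟩ := hk0
      rw [hk, pow_mul, h.u_pow, one_pow]
    · rw [hN, map_nsmul, h.comm_of hv h.hu hvM h.u_memM hgv (zQ_le fr.st h.hgu), smul_zero]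
    · rw [hN, map_nsmul, hNu, smul_zero]
  by_contra hno
  push Not at hno
  -- otherwise three independent commuting elements of `Q`
  obtain ⟨v₀, hv₀L, hv₀⟩ : ∃ v ∈ L, v ∉ (ZMod p) ∙ pr Q u := by
    by_contra hc
    push Not at hc
    have := Submodule.finrank_mono (show L ≤ (ZMod p) ∙ pr Q u from hc)
    rw [finrank_span_singleton h.hu0] at this
    omega
  obtain ⟨w₀, hw₀, rfl⟩ := hv₀L
  set v := lift (w₀ : Vt Q) with hvdef
  have hv : v ∈ Q := lift_mem _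
  have hvM : v ∈ centralizerIn S (Subgroup.zpowers u) := hl w₀
  have hgv : g v ∈ Q := (hχ w₀).1 hw₀
  have hxv : x' * v = v * x' := by
    have := hno v hv hvM hgv
    rwa [mul_inv_eq_one, mul_inv_eq_iff_eq_mul] at this
  set T := Submodule.span (ZMod p) ({pr Q (g x'), pr Q (g v), pr Q (g z)} : Set (Vt Q)) with hT
  have hcz : ∀ a ∈ centralizerIn S (Subgroup.zpowers u), fr.form (pr Q (g z)) (pr Q (g a)) = 0 ∨
      g a ∉ Q := fun a ha => by
    by_cases hga : g a ∈ Q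
    · refine Or.inl ((fr.comm_iff h.gz_memQ hga).1 ?_)
      rw [← h.hg.map_mul h.z_memM ha, ← h.hg.map_mul ha h.z_memM, fr.z_comm ha.1]
    · exact Or.inr hga
  have c1 : fr.form (pr Q (g x')) (pr Q (g v)) = 0 := (fr.comm_iff hgx' hgv).1 (by
    rw [← h.hg.map_mul hx'M hvM, ← h.hg.map_mul hvM hx'M, hxv])
  have c2 := (hcz x' hx'M).resolve_right (not_not.2 hgx')
  have c3 := (hcz v hvM).resolve_right (not_not.2 hgv)
  have hTiso : ∀ a ∈ T, ∀ b ∈ T, fr.form a b = 0 := by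
    intro a ha b hb
    have hs : ∀ a' ∈ ({pr Q (g x'), pr Q (g v), pr Q (g z)} : Set (Vt Q)),
        ∀ b' ∈ ({pr Q (g x'), pr Q (g v), pr Q (g z)} : Set (Vt Q)), fr.form a' b' = 0 := by
      have hsk : ∀ a b : Vt Q, fr.form a b = 0 → fr.form b a = 0 := fun a b hab =>
        (fr.symp h.hx).isRefl a b hab
      intro a' ha' b' hb'
      simp only [Set.mem_insert_iff, Set.mem_singleton_iff] at ha' hb'
      rcases ha' with rfl | rfl | rfl <;> rcases hb' with rfl | rfl | rfl <;>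
        first
          | exact fr.form_alt _
          | exact c1
          | exact c2
          | exact c3
          | exact hsk _ _ c1
          | exact hsk _ _ c2
          | exact hsk _ _ c3
    have hle : T ≤ LinearMap.ker (fr.form a) := by
      refine Submodule.span_le.2 fun b' hb' => ?_
      have h1 : T ≤ LinearMap.ker (fr.form.flip b') :=
        Submodule.span_le.2 fun a' ha' => hs a' ha' b' hb'
      exact LinearMap.mem_ker.2 (h1 ha)
    exact LinearMap.mem_ker.1 (hle hb)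
  have hli : LinearIndependent (ZMod p) ![pr Q (g x'), pr Q (g v), pr Q (g z)] := by
    rw [Fintype.linearIndependent_iff]
    intro c hc
    simp only [Fin.sum_univ_three, Matrix.cons_val_zero, Matrix.cons_val_one,
      Matrix.cons_val_two, Matrix.tail_cons, Matrix.head_cons] at hc
    set i := (c 0).val with hi
    set k := (c 1).val with hk
    set l := (c 2).val with hl'
    have hmem : x' ^ i * v ^ k * z ^ l ∈ centralizerIn S (Subgroup.zpowers u) :=
      Subgroup.mul_mem _ (Subgroup.mul_mem _ (Subgroup.pow_mem _ hx'M i) (Subgroup.pow_mem _ hvM k))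
        (Subgroup.pow_mem _ h.z_memM l)
    have hge : g (x' ^ i * v ^ k * z ^ l) = g x' ^ i * g v ^ k * g z ^ l := by
      rw [h.hg.map_mul (Subgroup.mul_mem _ (Subgroup.pow_mem _ hx'M i) (Subgroup.pow_mem _ hvM k))
        (Subgroup.pow_mem _ h.z_memM l), h.hg.map_mul (Subgroup.pow_mem _ hx'M i)
        (Subgroup.pow_mem _ hvM k), h.hg.map_pow hx'M, h.hg.map_pow hvM, h.hg.map_pow h.z_memM]
    have hQ1 := Q.pow_mem hgx' i
    have hQ2 := Q.pow_mem hgv k
    have hQ3 := Q.pow_mem h.gz_memQ l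
    obtain ⟨m, hm'⟩ := h.eq_pow_of_g hmem (by
      rw [hge, ← fr.pr_eq_zero (Q.mul_mem (Q.mul_mem hQ1 hQ2) hQ3), pr_mul (Q.mul_mem hQ1 hQ2) hQ3,
        pr_mul hQ1 hQ2, pr_pow hgx', pr_pow hgv, pr_pow h.gz_memQ, ← Nat.cast_smul_eq_nsmul (ZMod p),
        ← Nat.cast_smul_eq_nsmul (ZMod p), ← Nat.cast_smul_eq_nsmul (ZMod p), hi, hk, hl',
        ZMod.natCast_zmod_val, ZMod.natCast_zmod_val, ZMod.natCast_zmod_val]
      exact hc)
    have hi0 : c 0 = 0 := by
      by_contra h0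
      refine fr.pow_notMem hx'S hx'Q (i := i) (fun hd => h0 ?_) ?_
      · rw [← ZMod.natCast_zmod_val (c 0), ← hi, (ZMod.natCast_eq_zero_iff i p).2 hd]
      · have e : x' ^ i = u ^ m * (z ^ l)⁻¹ * (v ^ k)⁻¹ := by rw [← hm']; group
        rw [e]
        exact Q.mul_mem (Q.mul_mem (Q.pow_mem h.hu m) (Q.inv_mem (Q.pow_mem fr.z_mem l)))
          (Q.inv_mem (Q.pow_mem hv k))
    rw [hi, hi0, ZMod.val_zero, pow_zero, one_mul] at hm'
    have hpe := congrArg (pr Q) hm'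
    rw [pr_mul (Q.pow_mem hv k) (Q.pow_mem fr.z_mem l), pr_pow hv, pr_pow fr.z_mem, pr_pow h.hu,
      fr.pr_z, smul_zero, add_zero, hvdef, pr_lift, ← Nat.cast_smul_eq_nsmul (ZMod p), hk,
      ZMod.natCast_zmod_val] at hpe
    have hk0 : c 1 = 0 := by
      by_contra h0
      refine hv₀ (Submodule.mem_span_singleton.2 ⟨(c 1)⁻¹ * (m : ZMod p), ?_⟩)
      rw [mul_smul, Nat.cast_smul_eq_nsmul, ← hpe, smul_smul, inv_mul_cancel₀ h0, one_smul]
      rfl
    have hc' := hc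
    rw [hi0, hk0, zero_smul, zero_smul, zero_add, zero_add, smul_eq_zero] at hc'
    have hl0 := hc'.resolve_right fun h0 => h.gz_notMem ((fr.pr_eq_zero h.gz_memQ).1 h0)
    intro a
    fin_cases a <;> assumption
  have h3 : finrank (ZMod p) T = 3 := by
    have := finrank_span_eq_card hli
    rw [Fintype.card_fin, Matrix.range_cons, Matrix.range_cons, Matrix.range_cons,
      Matrix.range_empty, Set.union_empty, Set.singleton_union, Set.singleton_union] at this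
    exact this
  have h6 := (fr.symp h.hx).two_mul_le hTiso
  omega

end BData

end CfsgLib.Fusion.ESReduce
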