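import Cfsg.Agent.Lib.Fusion.ESReduce.CaseB

/-!
The first case: exponent `p` and the two possible shapes.
-/

set_option autoImplicit false
set_option linter.style.haveILetI false
set_option linter.unusedVariables false
set_option linter.unusedSectionVars false

universe u

namespace CfsgLib.Fusion.ESReduce

open Cfsg Cfsg.FusionSystem Subgroup CfsgLib.Fusion.ESIndex Module
open scoped commutatorElement

variable {Ω : Type u} [Group Ω] {S Q : Subgroup Ω} {p : ℕ} {z : Ω} {F : FusionSystem S}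

namespace BData

variable [Fact p.Prime] [Finite S] [Module (ZMod p) (Vt Q)] {fr : Frame p S Q z} {u x : Ω}
  {g : Ω → Ω} (h : BData fr F u x g)

include h

theorem u_ker {g' : Ω} (hg' : g' ∈ S) : (fr.symp hg').N (pr Q u) = 0 := by
  refine fr.N_eq_zero_all h.hx h.hxQ ?_ hg'
  rw [fr.N_pr h.hx h.hu, h.hxu, mul_inv_cancel_right, mul_inv_cancel, pr_one]

theorem memM_normal {a b : Ω} (ha : a ∈ S) (hb : b ∈ centralizerIn S (Subgroup.zpowers u)) :
    a * b * a⁻¹ ∈ centralizerIn S (Subgroup.zpowers u) := by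
  refine h.memM.2 ⟨S.mul_mem (S.mul_mem ha hb.1) (S.inv_mem ha), ?_⟩
  have hai := S.inv_mem ha
  have hc : a⁻¹ * u * a * u⁻¹ ∈ zQ Q := by
    have := fr.pr_comm_ker h.hx h.hxQ h.hu
      (by rw [fr.N_pr h.hx h.hu, h.hxu, mul_inv_cancel_right, mul_inv_cancel, pr_one]) hai
    rwa [inv_inv] at this
  obtain ⟨t, ht⟩ := fr.exists_ez hc
  have hau : a⁻¹ * u * a = ez p z t * u := mul_inv_eq_iff_eq_mul.1 ht
  have hbu := (h.memM.1 hb).2
  calc a * b * a⁻¹ * u = a * b * (a⁻¹ * u * a) * a⁻¹ := by group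
    _ = a * (b * ez p z t) * u * a⁻¹ := by rw [hau]; group
    _ = a * ez p z t * (b * u) * a⁻¹ := by rw [fr.ez_comm hb.1 t]; group
    _ = a * ez p z t * u * b * a⁻¹ := by rw [hbu]; group
    _ = a * (a⁻¹ * u * a) * b * a⁻¹ := by rw [hau]; group
    _ = u * (a * b * a⁻¹) := by group

/-- The structure found in the first case. -/
theorem shapes : finrank (ZMod p) (Vt Q) = 4 ∧ ∃ x' v, ∃ hx' : x' ∈ S, x' ∉ Q ∧ x' ^ p = 1 ∧
    x' ∈ centralizerIn S (Subgroup.zpowers u) ∧
    (fr.symp hx').N ^ (p - 1) = 0 ∧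
    (fr.symp hx').N v ≠ 0 ∧ fr.form v ((fr.symp hx').N v) = 0 ∧
    (finrank (ZMod p) (LinearMap.ker (fr.symp hx').N) = 1 ∧ 5 ≤ p ∨
      LinearMap.range (fr.symp hx').N = LinearMap.ker (fr.symp hx').N ∧
        finrank (ZMod p) (LinearMap.ker (fr.symp hx').N) = 2) ∧
    (∀ a ∈ S, a ^ p ∈ zQ Q) ∧ ∀ a ∈ centralizerIn S (Subgroup.zpowers u), a ^ p = 1 := by
  haveI := fr.finite_Vt
  obtain ⟨h4, x', v, hx'M, hx'Q, hgx', hv, hvM, hgv, hall⟩ := h.four
  have hx' : x' ∈ S := hx'M.1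
  obtain ⟨hNv, hiso, hNNv, hL⟩ := hall hx'
  set d := fr.symp hx' with hd
  have hN0 : d.N (pr Q u) = 0 := h.u_ker hx'
  have htypes := d.types_four h4 hNv hiso
  have hrange : LinearMap.range d.N ≤ LinearMap.ker (fr.form (pr Q u)) := by
    rintro _ ⟨b, rfl⟩
    exact d.perp hN0 b
  have hp5 : finrank (ZMod p) (LinearMap.ker d.N) = 1 → 5 ≤ p := by
    intro h1
    have hpp := (Fact.out : p.Prime)
    have hz : d.N ^ p = 0 := fr.cj_sub_pow hx'
    by_contra hlt
    have h3 := d.finrank_ker_pow h1 p (by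
      by_contra hgt
      omega)
    rw [hz, LinearMap.ker_zero, finrank_top, h4] at h3
    have : p = 4 := h3.symm
    rw [this] at hpp
    exact absurd hpp (by decide)
  have hpow : d.N ^ (p - 1) = 0 := by
    rcases htypes with h1 | ⟨hRK, -⟩
    · have := hp5 h1
      rw [show p - 1 = (p - 5) + 4 by omega, pow_add, ← h4, d.pow_finrank h1, mul_zero]
    · have h2 : d.N ^ 2 = 0 := LinearMap.ext fun a => by
        rw [pow_two, Module.End.mul_apply, LinearMap.zero_apply]
        exact LinearMap.mem_ker.1 (hRK.le (LinearMap.mem_range_self d.N a))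
      have := (Fact.out : p.Prime).two_le
      have := fr.hp
      rw [show p - 1 = (p - 3) + 2 by omega, pow_add, h2, mul_zero]
  obtain ⟨θ, hθ, hθQ, hθx, hdec⟩ := fr.exists_theta hx' hx'Q
  -- the `p`th power modulo the centre
  have hprpow : ∀ a ∈ S, pr Q (a ^ p) = (θ a).val • pr Q (x' ^ p) := by
    intro a ha
    obtain ⟨q, hq, hea⟩ := hdec a ha
    obtain ⟨q', hq', he, hpq⟩ := fr.pr_mul_pow hq (S.pow_mem hx' (θ a).val)
    rw [fr.N_pow_eq_zero_all hx' hx'Q hpow (S.pow_mem hx' (θ a).val), LinearMap.zero_apply] at hpq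
    have hxp : (x' ^ (θ a).val) ^ p = (x' ^ p) ^ (θ a).val := by
      rw [← pow_mul, ← pow_mul, mul_comm]
    rw [hea, he, hxp, pr_mul hq' (Q.pow_mem (fr.S_pow_mem hx') _), hpq, zero_add,
      pr_pow (fr.S_pow_mem hx'), ← hea]
  have hxp1 : x' ^ p = 1 := by
    obtain ⟨k, hk⟩ := h.eq_pow_of_g (Subgroup.pow_mem _ hx'M p)
      (by rw [h.hg.map_pow hx'M]; exact pow_mem fr.st hgx')
    by_contra hne
    have hk0 : (k : ZMod p) ≠ 0 := fun h0 => hne (by
      rw [ZMod.natCast_eq_zero_iff] at h0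
      obtain ⟨c, rfl⟩ := h0
      rw [hk, pow_mul, h.u_pow, one_pow])
    have hord : ∀ a ∈ centralizerIn S (Subgroup.zpowers u), a ^ p = 1 → g a ∈ Q := by
      intro a ha hap
      refine (hθQ _ (h.hg.mem ha)).1 ?_
      by_contra hne'
      have h1 := hprpow _ (h.hg.mem ha)
      rw [← h.hg.map_pow ha, hap, h.hg.map_one, pr_one, hk, pr_pow h.hu,
        ← Nat.cast_smul_eq_nsmul (ZMod p), ← Nat.cast_smul_eq_nsmul (ZMod p), ZMod.natCast_zmod_val,
        smul_smul] at h1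
      exact mul_ne_zero hne' hk0 ((smul_eq_zero.1 h1.symm).resolve_right h.hu0)
    have hRiso : ∀ a ∈ (LinearMap.range d.N) ⊔ ((ZMod p) ∙ pr Q v), ∀ b ∈ (LinearMap.range d.N) ⊔ ((ZMod p) ∙ pr Q v),
        fr.form a b = 0 := by
      have hmem : ∀ a ∈ (LinearMap.range d.N) ⊔ ((ZMod p) ∙ pr Q v), ∃ a' ∈ Q,
          a' ∈ centralizerIn S (Subgroup.zpowers u) ∧ g a' ∈ Q ∧ pr Q a' = a := by
        intro a ha
        obtain ⟨r, hr, w, hw, rfl⟩ := Submodule.mem_sup.1 ha
        obtain ⟨c, rfl⟩ := Submodule.mem_span_singleton.1 hw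
        obtain ⟨r', hr', rfl⟩ := exists_pr r
        have hrM : r' ∈ centralizerIn S (Subgroup.zpowers u) := (h.memM_Q hr').2 (hrange hr)
        have hr1 : r' ^ p = 1 := by
          obtain ⟨b, hb⟩ := hr
          rw [fr.pw_spec hr', ← hb, fr.pw_N hx', fr.ez_zero]
        refine ⟨r' * v ^ c.val, Q.mul_mem hr' (Q.pow_mem hv _),
          Subgroup.mul_mem _ hrM (Subgroup.pow_mem _ hvM _), ?_, ?_⟩
        · rw [h.hg.map_mul hrM (Subgroup.pow_mem _ hvM _), h.hg.map_pow hvM]
          exact Q.mul_mem (hord r' hrM hr1) (Q.pow_mem hgv _)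
        · rw [pr_mul hr' (Q.pow_mem hv _), pr_pow hv, ← Nat.cast_smul_eq_nsmul (ZMod p),
            ZMod.natCast_zmod_val]
      intro a ha b hb
      obtain ⟨a', ha', haM, hga, rfl⟩ := hmem a ha
      obtain ⟨b', hb', hbM, hgb, rfl⟩ := hmem b hb
      exact hL a' ha' haM hga b' hb' hbM hgb
    have h2 := d.two_mul_le hRiso
    have hrk := LinearMap.finrank_range_add_finrank_ker d.N
    have hle := Submodule.finrank_mono (le_sup_left : (LinearMap.range d.N) ≤ (LinearMap.range d.N) ⊔ ((ZMod p) ∙ pr Q v))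
    rcases htypes with h1 | ⟨hRK, hd2⟩
    · omega
    · have hlt : finrank (ZMod p) (LinearMap.range d.N) < finrank (ZMod p) ((LinearMap.range d.N) ⊔ ((ZMod p) ∙ pr Q v) : Submodule _ _) :=
        Submodule.finrank_lt_finrank_of_lt (lt_of_le_of_ne le_sup_left fun he => hNv (by
          have hvR : pr Q v ∈ (LinearMap.range d.N) :=
            he.ge (Submodule.mem_sup_right (Submodule.mem_span_singleton_self _))
          rw [hRK] at hvR
          exact hvR))
      omega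
  have hSp : ∀ a ∈ S, a ^ p ∈ zQ Q := fun a ha => by
    rw [← fr.pr_eq_zero (fr.S_pow_mem ha), hprpow a ha, hxp1, pr_one, smul_zero]
  have hMp : ∀ a ∈ centralizerIn S (Subgroup.zpowers u), a ^ p = 1 := by
    intro a ha
    obtain ⟨t, ht⟩ := fr.exists_ez (hSp a ha.1)
    have h1 : g (a ^ p) ∈ zQ Q := by rw [h.hg.map_pow ha]; exact hSp _ (h.hg.mem ha)
    rw [ht, map_ez h.hg h.z_memM] at h1
    rw [ht]
    by_contra hne
    exact h.gz_notMem (h.ez_gz (K := zQ Q) h1 fun h0 => hne (by rw [h0, fr.ez_zero]))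
  exact ⟨h4, x', pr Q v, hx', hx'Q, hxp1, hx'M, hpow, hNv, hiso,
    htypes.imp (fun h1 => ⟨h1, hp5 h1⟩) id, hSp, hMp⟩

/-- An automorphism of `S` inverting `z` and `u` modulo the centre, when `g` keeps the plane. -/
theorem exists_minus {α : ZMod p} {β : ZMod p} (hgz : g z = ez p u α * ez p z β) (hα : α ≠ 0)
    (hMg : ∀ a ∈ centralizerIn S (Subgroup.zpowers u), g a ∈ centralizerIn S (Subgroup.zpowers u)) :
    ∃ ψ, IsMap F S ψ ∧ ψ z = z⁻¹ ∧ ∃ t, ψ u = u⁻¹ * ez p z t := by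
  set M := centralizerIn S (Subgroup.zpowers u) with hM
  obtain ⟨γ, hγ⟩ := fr.exists_ez h.hgu
  have hγ0 : γ ≠ 0 := fun h0 => h.gu_ne (by rw [hγ, h0, fr.ez_zero])
  have hu_add : ∀ s t : ZMod p, ez p u (s + t) = ez p u s * ez p u t := ez_add_of h.u_pow
  have hu0 : ez p u (0 : ZMod p) = 1 := by simp [ez]
  have hu_neg : ∀ s : ZMod p, ez p u (-s) = (ez p u s)⁻¹ := fun s =>
    eq_inv_of_mul_eq_one_left (by rw [← hu_add, neg_add_cancel, hu0])
  -- automorphisms of `M` in the system, with their action on the plane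
  let P2 : ZMod p × ZMod p → Ω := fun c => ez p u c.1 * ez p z c.2
  have hP2M : ∀ c, P2 c ∈ M := fun c =>
    Subgroup.mul_mem _ (Subgroup.pow_mem _ h.u_memM _) (Subgroup.pow_mem _ h.z_memM _)
  have hP2add : ∀ c e, P2 (c + e) = P2 c * P2 e := fun c e => by
    show ez p u (c.1 + e.1) * ez p z (c.2 + e.2) = ez p u c.1 * ez p z c.2 * (ez p u e.1 * ez p z e.2)
    rw [hu_add, fr.ez_add, mul_assoc (ez p u c.1) (ez p u e.1), ← mul_assoc (ez p u e.1),
      show ez p u e.1 * ez p z c.2 = ez p z c.2 * ez p u e.1 from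
        fr.ez_comm (S.pow_mem (fr.memS h.hu) _) c.2, mul_assoc (ez p z c.2), ← mul_assoc]
  have hP2ez : ∀ c t, ez p (P2 c) t = P2 (t • c) := fun c t => by
    have : ∀ n : ℕ, P2 c ^ n = P2 ((n : ZMod p) • c) := by
      intro n
      induction n with
      | zero => rw [pow_zero, Nat.cast_zero, zero_smul]; simp [P2, hu0, fr.ez_zero]
      | succ n ih => rw [pow_succ, ih, ← hP2add, Nat.cast_succ, add_smul, one_smul]
    rw [ez, this, ZMod.natCast_zmod_val]
  let IsAct : (Ω → Ω) → (ZMod p × ZMod p) → (ZMod p × ZMod p) → Prop := fun f a b =>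
    IsMap F M f ∧ (∀ y ∈ M, f y ∈ M) ∧ f u = P2 a ∧ f z = P2 b
  have happ : ∀ f a b, IsAct f a b → ∀ c, f (P2 c) = P2 (c.1 • a + c.2 • b) := by
    intro f a b ⟨hf, hfM, hfu, hfz⟩ c
    show f (ez p u c.1 * ez p z c.2) = _
    rw [hf.map_mul (x := ez p u c.1) (y := ez p z c.2) (Subgroup.pow_mem _ h.u_memM _)
      (Subgroup.pow_mem _ h.z_memM _),
      map_ez hf h.u_memM, map_ez hf h.z_memM, hfu, hfz, hP2ez, hP2ez, ← hP2add]
  have hcomp : ∀ f₁ a₁ b₁ f₂ a₂ b₂, IsAct f₁ a₁ b₁ → IsAct f₂ a₂ b₂ →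
      IsAct (fun y => f₂ (f₁ y)) (a₁.1 • a₂ + a₁.2 • b₂) (b₁.1 • a₂ + b₁.2 • b₂) := by
    intro f₁ a₁ b₁ f₂ a₂ b₂ h₁ h₂
    refine ⟨h₁.1.comp h₂.1 h₁.2.1, fun y hy => h₂.2.1 _ (h₁.2.1 y hy), ?_, ?_⟩
    · show f₂ (f₁ u) = _
      rw [h₁.2.2.1, happ _ _ _ h₂]
    · show f₂ (f₁ z) = _
      rw [h₁.2.2.2, happ _ _ _ h₂]
  have hu1 : P2 (1, 0) = u := by simp [P2, ez_one_of, fr.ez_zero]
  have hz1 : P2 (0, 1) = z := by simp [P2, hu0, fr.ez_one]
  obtain ⟨v0, hv0, hv0u⟩ : ∃ a ∈ Q, fr.form (pr Q a) (pr Q u) = 1 := by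
    have hne : ∃ b, fr.form b (pr Q u) ≠ 0 := by
      by_contra hc
      push Not at hc
      exact h.hu0 (fr.form_nondeg _ fun b => (fr.symp h.hx).isRefl _ _ (hc b))
    obtain ⟨b, hb⟩ := hne
    obtain ⟨a, ha, hab⟩ := exists_pr ((fr.form b (pr Q u))⁻¹ • b)
    exact ⟨a, ha, by rw [hab, map_smul, LinearMap.smul_apply, smul_eq_mul, inv_mul_cancel₀ hb]⟩
  have hact_conj : ∀ k : ZMod p, IsAct (fun y => ez p v0 k * y * (ez p v0 k)⁻¹) (1, k) (0, 1) := by
    intro k
    have hk : ez p v0 k ∈ Q := Q.pow_mem hv0 _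
    refine ⟨isMap_conj F inf_le_left (fr.memS hk), fun y hy => h.memM_normal (fr.memS hk) hy, ?_, ?_⟩
    · show ez p v0 k * u * (ez p v0 k)⁻¹ = ez p u 1 * ez p z k
      rw [fr.mul_swap hk h.hu, mul_assoc _ (ez p v0 k), mul_inv_cancel, mul_one, ez_one_of]
      have e : fr.form (pr Q (ez p v0 k)) (pr Q u) = k := by
        rw [show pr Q (ez p v0 k) = k.val • pr Q v0 from pr_pow hv0 _,
          ← Nat.cast_smul_eq_nsmul (ZMod p), ZMod.natCast_zmod_val, map_smul, LinearMap.smul_apply,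
          hv0u, smul_eq_mul, mul_one]
      rw [e, fr.ez_comm (fr.memS h.hu)]
    · show ez p v0 k * z * (ez p v0 k)⁻¹ = P2 (0, 1)
      rw [hz1, fr.z_comm (fr.memS hk), mul_inv_cancel_right]
  -- the given map, then cleared of its diagonal part
  have hg1 : IsAct g (0, γ) (α, β) := ⟨h.hg, hMg, by simp [P2, hu0, hγ], hgz⟩
  have hg2 := hcomp _ _ _ _ _ _ hg1 (hact_conj (-β / α))
  have eg : (α • ((1 : ZMod p), -β / α) + β • ((0 : ZMod p), (1 : ZMod p))) = (α, (0 : ZMod p)) := by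
    ext <;> simp [mul_div_cancel₀ _ hα]
  simp only [zero_smul, zero_add] at hg2
  rw [eg, show γ • ((0 : ZMod p), (1 : ZMod p)) = (0, γ) by ext <;> simp] at hg2
  obtain ⟨g', hg'⟩ : ∃ g', IsAct g' (0, γ) (α, 0) := ⟨_, hg2⟩
  -- its inverse
  haveI : Finite M := finite_of_le inf_le_left
  have himg : img M g' = M := eq_of_le_of_card_le (fun y hy => by
    obtain ⟨y', hy', rfl⟩ := hg'.1.mem_img.1 hy
    exact hg'.2.1 y' hy') hg'.1.card_img.ge
  obtain ⟨g'', hg'', hgg, -, hi''⟩ := hg'.1.exists_inv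
  rw [himg] at hg'' hi''
  have hg''a : IsAct g'' (0, α⁻¹) (γ⁻¹, 0) := by
    refine ⟨hg'', fun y hy => hi''.le (hg''.apply_mem_img hy), ?_, ?_⟩
    · have e := happ _ _ _ hg' (0, α⁻¹)
      simp only [zero_smul, zero_add, Prod.smul_mk, smul_eq_mul, inv_mul_cancel₀ hα, mul_zero, hu1] at e
      rw [← e]
      exact hgg _ (hP2M _)
    · have e := happ _ _ _ hg' (γ⁻¹, 0)
      simp only [zero_smul, add_zero, Prod.smul_mk, smul_eq_mul, inv_mul_cancel₀ hγ0, mul_zero, hz1] at e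
      rw [← e]
      exact hgg _ (hP2M _)
  -- the opposite transvection and the involution
  have hlow : IsAct (fun y => g' (ez p v0 (-(γ / α)) * g'' y * (ez p v0 (-(γ / α)))⁻¹)) (1, 0)
      (-1, 1) := by
    have := hcomp _ _ _ _ _ _ (hcomp _ _ _ _ _ _ hg''a (hact_conj (-(γ / α)))) hg'
    simp only [Prod.smul_mk, smul_eq_mul, zero_mul, mul_zero, mul_one, zero_add, add_zero,
      Prod.mk_add_mk] at this
    convert this using 2 <;> field_simp
  have hW := hcomp _ _ _ _ _ _ (hcomp _ _ _ _ _ _ (hact_conj 1) hlow) (hact_conj 1)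
  simp only [Prod.smul_mk, smul_eq_mul, zero_mul, mul_zero, mul_one, one_mul, zero_add, add_zero,
    Prod.mk_add_mk, add_neg_cancel, neg_mul, mul_neg, neg_add_cancel] at hW
  have hW2 := hcomp _ _ _ _ _ _ hW hW
  simp only [Prod.smul_mk, smul_eq_mul, zero_mul, mul_zero, mul_one, one_mul, zero_add, add_zero,
    Prod.mk_add_mk, neg_mul, mul_neg, neg_zero] at hW2
  obtain ⟨w, hw⟩ : ∃ w, IsAct w (-1, 0) (0, -1) := ⟨_, hW2⟩
  have hwi : img M w = M := eq_of_le_of_card_le (fun y hy => by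
    obtain ⟨y', hy', rfl⟩ := hw.1.mem_img.1 hy
    exact hw.2.1 y' hy') hw.1.card_img.ge
  set hh : MulAut M := hw.1.toAut hwi with hhdef
  have hwu : w u = u⁻¹ := by
    rw [hw.2.2.1]; show ez p u (-1) * ez p z 0 = _
    rw [hu_neg, ez_one_of, fr.ez_zero, mul_one]
  have hwz : w z = z⁻¹ := by
    rw [hw.2.2.2]; show ez p u 0 * ez p z (-1) = _
    rw [fr.ez_neg, fr.ez_one, hu0, one_mul]
  -- the maps trivial on the plane up to the centre
  let uM : M := ⟨u, h.u_memM⟩
  let zM : M := ⟨z, h.z_memM⟩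
  let R : Subgroup (MulAut M) :=
    { carrier := {r | r zM = zM ∧ ∃ t : ℕ, r uM = uM * zM ^ t}
      one_mem' := ⟨rfl, 0, by simp⟩
      mul_mem' := by
        rintro r s ⟨hr, t, ht⟩ ⟨hs, t', ht'⟩
        refine ⟨by rw [MulAut.mul_apply, hs, hr], t + t', ?_⟩
        rw [MulAut.mul_apply, ht', map_mul, map_pow, hr, ht, pow_add, mul_assoc]
      inv_mem' := by
        rintro r ⟨hr, t, ht⟩
        have hzp : zM ^ p = 1 := Subtype.ext fr.z_pow
        have hi : r⁻¹ zM = zM := by rw [← hr, MulAut.inv_apply_self, hr]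
        refine ⟨hi, t * (p - 1), r.injective ?_⟩
        rw [MulAut.apply_inv_self, map_mul, map_pow, hr, ht, mul_assoc, ← pow_add]
        have : t + t * (p - 1) = p * t := by
          have := (Fact.out : p.Prime).pos
          cases p with
          | zero => omega
          | succ k => simp only [Nat.add_sub_cancel]; ring
        rw [this, pow_mul, hzp, one_pow, mul_one] }
  have hT : autInducedBy S M ≤ R := by
    intro r hr
    obtain ⟨a, ha, har⟩ := mem_autInducedBy_iff.1 hr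
    refine ⟨Subtype.ext (by rw [har]; show a * z * a⁻¹ = z; rw [fr.z_comm ha, mul_inv_cancel_right]), ?_⟩
    obtain ⟨t, ht⟩ := fr.exists_ez (fr.pr_comm_ker h.hx h.hxQ h.hu
      (by rw [fr.N_pr h.hx h.hu, h.hxu, mul_inv_cancel_right, mul_inv_cancel, pr_one]) ha)
    refine ⟨t.val, Subtype.ext ?_⟩
    rw [har]
    show a * u * a⁻¹ = u * z ^ t.val
    rw [mul_inv_eq_iff_eq_mul.1 ht, ← fr.ez_comm (fr.memS h.hu)]
    rfl
  have hhu : hh uM = uM⁻¹ := Subtype.ext (by rw [hhdef, IsMap.toAut_apply]; exact hwu)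
  have hhz : hh zM = zM⁻¹ := Subtype.ext (by rw [hhdef, IsMap.toAut_apply]; exact hwz)
  have hiu : hh⁻¹ uM = uM⁻¹ := hh.injective (by rw [MulAut.apply_inv_self, map_inv, hhu, inv_inv])
  have hiz : hh⁻¹ zM = zM⁻¹ := hh.injective (by rw [MulAut.apply_inv_self, map_inv, hhz, inv_inv])
  have hn : ∀ r ∈ R, hh * r * hh⁻¹ ∈ R := by
    rintro r ⟨hr, t, ht⟩
    refine ⟨?_, t, ?_⟩
    · rw [MulAut.mul_apply, MulAut.mul_apply, hiz, map_inv, hr, map_inv, hhz, inv_inv]
    · rw [MulAut.mul_apply, MulAut.mul_apply, hiu, map_inv, ht, map_inv, map_mul, map_pow, hhu, hhz,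
        mul_inv_rev, inv_inv, inv_pow, inv_inv]
      have hc : Commute zM uM := Subtype.ext (fr.z_comm (fr.memS h.hu)).symm
      exact (hc.pow_left t).eq
  have hfn : F.IsFullyNormalized M := by
    refine ⟨inf_le_left, fun R' _ => ?_⟩
    have : normalizerIn S M = S := inf_eq_left.2 fun a ha => by
      refine Subgroup.mem_normalizer_fintype fun y hy => h.memM_normal ha hy
    rw [this]
    exact Subgroup.card_le_of_le inf_le_left
  have hnS : normalizerIn S M = S := inf_eq_left.2 fun a ha => by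
    refine Subgroup.mem_normalizer_fintype fun y hy => h.memM_normal ha hy
  obtain ⟨r, ⟨hr, t, ht⟩, -, ψ, hψ, -, hψx⟩ :=
    exists_adjust fr.st.hS h.hF hfn (hw.1.toAut_mem hwi) R hT hn
  rw [hnS] at hψ
  refine ⟨ψ, hψ, ?_, -(t : ZMod p), ?_⟩
  · have := hψx zM
    rw [MulAut.mul_apply, hhz, map_inv, hr] at this
    exact this
  · have := hψx uM
    rw [MulAut.mul_apply, hhu, map_inv, ht] at this
    rw [show (u : Ω) = ((uM : M) : Ω) from rfl, this]
    show ((uM * zM ^ t)⁻¹ : Ω) = _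
    rw [mul_inv_rev, fr.ez_neg, fr.ez_natCast]
    have hc : Commute (u : Ω) (z ^ t) := (Commute.pow_right (fr.z_comm (fr.memS h.hu)) t)
    exact ((hc.inv_inv).eq).symm

/-- The first case. -/
theorem caseB_main :
    5 ≤ p ∧ IsOneBlock p S ∨ ∃ ε : ℤ, IsTwoBlock p ε S ∧ (ε : ZMod p) ≠ 0 ∧ IsSquare (-(ε : ZMod p)) := by
  haveI := fr.finite_Vt
  haveI := fr.finQ
  obtain ⟨h4, x', v, hx', hx'Q, hxp, hx'M, hpow, hNv, hiso, htypes, hSp, hMp⟩ := h.shapes
  set d := fr.symp hx' with hd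
  set M := centralizerIn S (Subgroup.zpowers u) with hM
  have hrk : finrank (ZMod p) (LinearMap.ker d.N) + 2 ≤ finrank (ZMod p) (Vt Q) := by
    rcases htypes with ⟨h1, -⟩ | ⟨-, h2⟩ <;> omega
  have hpwW : ∀ w, fr.form (pr Q u) w = 0 → fr.pw w = 0 := by
    intro w hw
    obtain ⟨a, ha, rfl⟩ := exists_pr w
    refine fr.ez_inj ?_
    rw [← fr.pw_spec ha, hMp a ((h.memM_Q ha).2 hw), fr.ez_zero]
  have hpw : fr.pw = 0 := by
    by_contra hne
    have hker : LinearMap.ker fr.pw = LinearMap.ker (fr.form (pr Q u)) := by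
      refine (Submodule.eq_of_le_of_finrank_le (fun w hw => hpwW w hw) ?_).symm
      have := LinearMap.finrank_range_add_finrank_ker fr.pw
      have := h.w0_dim
      have : 1 ≤ finrank (ZMod p) (LinearMap.range fr.pw) :=
        Submodule.one_le_finrank_iff.2 fun hb => hne (LinearMap.range_eq_bot.1 hb)
      omega
    -- the image of `M` lies in `Q M`
    have hin : ∀ a ∈ Q, a ^ p = 1 → a ∈ M := fun a ha hap => by
      refine (h.memM_Q ha).2 ?_
      have : pr Q a ∈ LinearMap.ker fr.pw := fr.ez_inj (by rw [← fr.pw_spec ha, hap, fr.ez_zero])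
      rw [hker] at this
      exact this
    have hgz1 : g z ∈ M := hin _ h.gz_memQ h.gz_pow
    obtain ⟨θ, hθ, hθQ, hθx, hdec⟩ := fr.exists_theta hx' hx'Q
    -- the centralizer of `g z` inside `Q`
    let T : Submodule (ZMod p) (Vt Q) := AddSubgroup.toZModSubmodule p
      { carrier := {w | ∃ a ∈ M, g a ∈ Q ∧ pr Q (g a) = w}
        zero_mem' := ⟨1, Subgroup.one_mem _, by rw [h.hg.map_one]; exact Q.one_mem, by rw [h.hg.map_one]; exact pr_one⟩
        add_mem' := by
          rintro _ _ ⟨a, ha, hga, rfl⟩ ⟨b, hb, hgb, rfl⟩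
          refine ⟨a * b, Subgroup.mul_mem _ ha hb, ?_, ?_⟩
          · rw [h.hg.map_mul ha hb]; exact Q.mul_mem hga hgb
          · rw [h.hg.map_mul ha hb, pr_mul hga hgb]
        neg_mem' := by
          rintro _ ⟨a, ha, hga, rfl⟩
          refine ⟨a⁻¹, Subgroup.inv_mem _ ha, ?_, ?_⟩
          · rw [h.hg.map_inv ha]; exact Q.inv_mem hga
          · rw [h.hg.map_inv ha, pr_inv hga] }
    have hTu : T ≤ LinearMap.ker (fr.form (pr Q u)) := by
      rintro _ ⟨a, ha, hga, rfl⟩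
      exact (h.memM_Q hga).1 (hin _ hga (by rw [← h.hg.map_pow ha, hMp a ha, h.hg.map_one]))
    have hTz : T ≤ LinearMap.ker (fr.form (pr Q (g z))) := by
      rintro _ ⟨a, ha, hga, rfl⟩
      refine LinearMap.mem_ker.2 ((fr.comm_iff h.gz_memQ hga).1 ?_)
      rw [← h.hg.map_mul h.z_memM ha, ← h.hg.map_mul ha h.z_memM, fr.z_comm ha.1]
    -- `T` has dimension at least three
    haveI : Finite M := finite_of_le inf_le_left
    have hT3 : 3 ≤ finrank (ZMod p) T := by
      haveI : Finite T := Finite.of_injective _ Subtype.val_injective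
      classical
      have hsub : ∀ a b : M, θ (g a) = θ (g b) → g ((a : Ω)⁻¹ * b) ∈ Q := fun a b he => by
        have hga := h.hg.mem a.2
        refine (hθQ _ (h.hg.mem (Subgroup.mul_mem _ (Subgroup.inv_mem _ a.2) b.2))).1 ?_
        rw [h.hg.map_mul (Subgroup.inv_mem _ a.2) b.2, h.hg.map_inv a.2,
          hθ _ (S.inv_mem hga) _ (h.hg.mem b.2), ← he, ← hθ _ (S.inv_mem hga) _ hga, inv_mul_cancel]
        exact (hθQ 1 S.one_mem).2 Q.one_mem
      let K0 : Subgroup Ω :=
        { carrier := {a | a ∈ M ∧ g a ∈ Q}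
          one_mem' := ⟨Subgroup.one_mem _, by rw [h.hg.map_one]; exact Q.one_mem⟩
          mul_mem' := fun ha hb => ⟨Subgroup.mul_mem _ ha.1 hb.1, by
            rw [h.hg.map_mul ha.1 hb.1]; exact Q.mul_mem ha.2 hb.2⟩
          inv_mem' := fun ha => ⟨Subgroup.inv_mem _ ha.1, by
            rw [h.hg.map_inv ha.1]; exact Q.inv_mem ha.2⟩ }
      haveI : Finite K0 := finite_of_le (fun a ha => ha.1.1)
      have h1 : Nat.card M ≤ Nat.card (ZMod p) * Nat.card K0 := by
        let rep : ZMod p → M := fun i => if hex : ∃ a : M, θ (g a) = i then hex.choose else 1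
        have hrep : ∀ a : M, θ (g (rep (θ (g a)))) = θ (g a) := fun a => by
          have hex : ∃ b : M, θ (g b) = θ (g a) := ⟨a, rfl⟩
          simp only [rep, dif_pos hex]
          exact hex.choose_spec
        rw [← Nat.card_prod]
        refine Nat.card_le_card_of_injective (fun a : M => ((θ (g a) : ZMod p),
          (⟨((rep (θ (g a)) : M) : Ω)⁻¹ * a, Subgroup.mul_mem _ (Subgroup.inv_mem _ (rep _).2) a.2,
            hsub _ a (hrep a)⟩ : K0))) fun a b he => ?_
        have e1 : θ (g a) = θ (g b) := congrArg Prod.fst he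
        have e2 := congrArg (fun c => (c.2 : Ω)) he
        simp only [e1] at e2
        exact Subtype.ext (mul_left_cancel e2)
      have h2 : Nat.card K0 ≤ Nat.card T * Nat.card (zQ Q) := by
        haveI : Finite (zQ Q) := finite_of_le (zQ_le fr.st)
        rw [← Nat.card_prod]
        refine Nat.card_le_card_of_injective (fun a : K0 =>
          ((⟨pr Q (g a), a, a.2.1, a.2.2, rfl⟩ : T),
            (⟨(lift (pr Q (g a)))⁻¹ * g a, (fr.pr_eq_zero (Q.mul_mem (Q.inv_mem (lift_mem _)) a.2.2)).1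
              (by rw [pr_mul (Q.inv_mem (lift_mem _)) a.2.2, pr_inv (lift_mem _), pr_lift,
                neg_add_cancel])⟩ : zQ Q))) fun a b he => ?_
        have e1 : pr Q (g a) = pr Q (g b) := congrArg (fun c => (c.1 : Vt Q)) he
        have e2 := congrArg (fun c => (c.2 : Ω)) he
        simp only [e1] at e2
        exact Subtype.ext (h.hg.inj a.2.1 b.2.1 (mul_left_cancel e2))
      have h3 : p ^ 5 ≤ Nat.card M := by
        let W0 := LinearMap.ker (fr.form (pr Q u))
        have hW : p ^ finrank (ZMod p) W0 = Nat.card W0 := by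
          rw [Module.natCard_eq_pow_finrank (K := ZMod p) (V := W0), Nat.card_zmod]
        have hinj : Function.Injective (fun c : ZMod p × (W0 × ZMod p) =>
            (⟨ez p x' c.1 * (lift (c.2.1 : Vt Q) * ez p z c.2.2),
              Subgroup.mul_mem _ (Subgroup.pow_mem _ hx'M _) (Subgroup.mul_mem _
                ((h.memM_Q (lift_mem _)).2 (by rw [pr_lift]; exact c.2.1.2))
                (h.zQ_memM (fr.ez_mem _)))⟩ : M)) := by
          intro a b he
          have he' : ez p x' a.1 * (lift (a.2.1 : Vt Q) * ez p z a.2.2) =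
              ez p x' b.1 * (lift (b.2.1 : Vt Q) * ez p z b.2.2) := congrArg Subtype.val he
          have hQa : ∀ c : ZMod p × (W0 × ZMod p), lift (c.2.1 : Vt Q) * ez p z c.2.2 ∈ Q :=
            fun c => Q.mul_mem (lift_mem _) (fr.ez_memQ _)
          have hθc : ∀ c : ZMod p × (W0 × ZMod p),
              θ (ez p x' c.1 * (lift (c.2.1 : Vt Q) * ez p z c.2.2)) = c.1 := fun c => by
            rw [hθ (ez p x' c.1) (S.pow_mem hx' _) _ (fr.memS (hQa c)), (hθQ _ (fr.memS (hQa c))).2 (hQa c),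
              add_zero, ez, fr.theta_pow hθ hx', hθx, mul_one, ZMod.natCast_zmod_val]
          have h1' : a.1 = b.1 := by rw [← hθc a, he', hθc b]
          rw [h1', mul_right_inj] at he'
          have h2' : (a.2.1 : Vt Q) = b.2.1 := by
            have := congrArg (pr Q) he'
            rwa [pr_mul (lift_mem _) (fr.ez_memQ _), pr_mul (lift_mem _) (fr.ez_memQ _), pr_lift,
              pr_lift, fr.pr_ez, fr.pr_ez, add_zero, add_zero] at this
          rw [h2', mul_right_inj] at he'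
          exact Prod.ext h1' (Prod.ext (Subtype.ext h2') (fr.ez_inj he'))
        have := Nat.card_le_card_of_injective _ hinj
        rw [Nat.card_prod, Nat.card_prod, Nat.card_zmod, ← hW] at this
        refine le_trans (le_of_eq ?_) this
        have := h.w0_dim
        rw [show finrank (ZMod p) W0 = 3 by show finrank (ZMod p) (LinearMap.ker _) = 3; omega]
        ring
      rw [Nat.card_zmod] at h1
      rw [card_zQ fr.st, Module.natCard_eq_pow_finrank (K := ZMod p) (V := T), Nat.card_zmod] at h2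
      have h5 : p ^ 5 ≤ p ^ (finrank (ZMod p) T + 2) :=
        h3.trans (h1.trans ((Nat.mul_le_mul_left p h2).trans (le_of_eq (by ring))))
      have := (Nat.pow_le_pow_iff_right (Fact.out : p.Prime).one_lt).1 h5
      omega
    have hTW : T = LinearMap.ker (fr.form (pr Q u)) := by
      refine Submodule.eq_of_le_of_finrank_le hTu ?_
      have := h.w0_dim
      omega
    -- so `g z` is in the plane
    have hgzspan : ∃ α : ZMod p, pr Q (g z) = α • pr Q u := by
      have hle : (ZMod p) ∙ pr Q u ≤ d.ω.orthogonal T := by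
        rw [Submodule.span_singleton_le_iff_mem]
        intro w hw
        exact d.isRefl _ _ (hTu hw)
      have hdim := d.finrank_perp T
      have heq : (ZMod p) ∙ pr Q u = d.ω.orthogonal T := by
        refine Submodule.eq_of_le_of_finrank_le hle ?_
        rw [finrank_span_singleton h.hu0]
        omega
      have : pr Q (g z) ∈ d.ω.orthogonal T := fun w hw => d.isRefl _ _ (hTz hw)
      rw [← heq] at this
      obtain ⟨α, hα⟩ := Submodule.mem_span_singleton.1 this
      exact ⟨α, hα.symm⟩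
    obtain ⟨α, hα⟩ := hgzspan
    have hqu : pr Q (ez p u α) = α • pr Q u := by
      rw [show pr Q (ez p u α) = α.val • pr Q u from pr_pow h.hu _, ← Nat.cast_smul_eq_nsmul (ZMod p),
        ZMod.natCast_zmod_val]
    obtain ⟨β, hβ⟩ := fr.pr_eq (a := ez p u α) (Q.pow_mem h.hu _) h.gz_memQ (hqu.trans hα.symm)
    have hα0 : α ≠ 0 := fun h0 => h.gz_notMem ((fr.pr_eq_zero h.gz_memQ).1 (by rw [hα, h0, zero_smul]))
    -- `g` preserves `M`
    have hMg : ∀ a ∈ M, g a ∈ M := by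
      intro a ha
      refine h.memM.2 ⟨h.hg.mem ha, ?_⟩
      have hcz : g a * g z = g z * g a := by
        rw [← h.hg.map_mul ha h.z_memM, ← h.hg.map_mul h.z_memM ha, fr.z_comm ha.1]
      have hc : Commute (g a) (ez p u α) := by
        have e : ez p u α = g z * (ez p z β)⁻¹ := by rw [hβ, mul_inv_cancel_right]
        rw [e]
        exact Commute.mul_right hcz
          (show Commute (g a) (ez p z β) from fr.ez_comm (h.hg.mem ha) β).inv_right
      have : (ez p u α) ^ (α⁻¹).val = u := by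
        rw [ez, ← pow_mul]
        have hmod : (((α.val * (α⁻¹).val : ℕ)) : ZMod p) = ((1 : ℕ) : ZMod p) := by
          rw [Nat.cast_mul, ZMod.natCast_zmod_val, ZMod.natCast_zmod_val, mul_inv_cancel₀ hα0,
            Nat.cast_one]
        have ho : orderOf u = p := orderOf_eq_prime h.u_pow h.u_ne
        conv_rhs => rw [← pow_one u]
        rw [pow_eq_pow_iff_modEq, ho, ← ZMod.natCast_eq_natCast_iff]
        exact hmod
      rw [← this]
      exact hc.pow_right _
    obtain ⟨ψ, hψ, hψz, t, hψu⟩ := h.exists_minus hβ hα0 hMg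
    -- `ψ` preserves `Q`
    have hψS : img S ψ = S := eq_of_le_of_card_le hψ.img_le hψ.card_img.ge
    have hψzQ : ∀ a ∈ zQ Q, ψ a ∈ zQ Q := fun a ha => by
      obtain ⟨k, rfl⟩ := exists_pow fr.st fr.hz fr.hz1 ha
      rw [hψ.map_pow (fr.memS fr.z_mem), hψz]
      exact Subgroup.pow_mem _ ((zQ Q).inv_mem fr.hz) k
    have hmQ := hψ.mono fr.st.hQS
    have hQψ : img Q ψ = Q := by
      refine fr.Q_unique hx' hx'Q hrk hmQ.img_le hmQ.card_img fun a ha b hb => ?_
      obtain ⟨a', ha', rfl⟩ := hmQ.mem_img.1 ha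
      obtain ⟨b', hb', rfl⟩ := hmQ.mem_img.1 hb
      have hc := commutator_mem fr.st ha' hb'
      rw [← hψ.map_conj (fr.memS ha') (fr.memS hb'), ← hψ.map_inv (fr.memS hb'),
        ← hψ.map_mul (S.mul_mem (S.mul_mem (fr.memS ha') (fr.memS hb')) (S.inv_mem (fr.memS ha')))
          (S.inv_mem (fr.memS hb'))]
      exact hψzQ _ hc
    obtain ⟨a, ha, hav⟩ : ∃ a ∈ Q, fr.form (pr Q a) (pr Q u) = 1 := by
      have hne' : ∃ b, fr.form b (pr Q u) ≠ 0 := by
        by_contra hc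
        push Not at hc
        exact h.hu0 (fr.form_nondeg _ fun b => d.isRefl _ _ (hc b))
      obtain ⟨b, hb⟩ := hne'
      obtain ⟨a, ha, hab⟩ := exists_pr ((fr.form b (pr Q u))⁻¹ • b)
      exact ⟨a, ha, by rw [hab, map_smul, LinearMap.smul_apply, smul_eq_mul, inv_mul_cancel₀ hb]⟩
    have hψa : ψ a ∈ Q := hQψ.le (hmQ.apply_mem_img ha)
    have hψuQ : ψ u ∈ Q := hQψ.le (hmQ.apply_mem_img h.hu)
    have e : ⁅ψ a, ψ u⁆ = ψ ⁅a, u⁆ :=
      (map_commutatorElement hψ.toHom ⟨a, fr.memS ha⟩ ⟨u, fr.memS h.hu⟩).symm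
    have hzi : z⁻¹ = ez p z (-1) := by rw [fr.ez_neg, fr.ez_one]
    rw [fr.comm_eq hψa hψuQ, fr.comm_eq ha h.hu, hav, fr.ez_one, hψz, hzi,
      hψu, pr_mul (Q.inv_mem h.hu) (fr.ez_memQ t), fr.pr_ez, add_zero, pr_inv h.hu, map_neg] at e
    have hform : fr.form (pr Q (ψ a)) (pr Q u) = 1 := neg_inj.1 (fr.ez_inj e)
    have hsame : fr.pw (pr Q (ψ a)) = fr.pw (pr Q a) := by
      rw [← sub_eq_zero, ← map_sub]
      refine hpwW _ ?_
      have hsk : fr.form (pr Q (ψ a) - pr Q a) (pr Q u) = 0 := by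
        rw [map_sub, LinearMap.sub_apply, hform, hav, sub_self]
      exact d.isRefl _ _ hsk
    have hpa : fr.pw (pr Q a) = 0 := by
      have h1 := fr.pw_spec hψa
      rw [hsame, ← hψ.map_pow (fr.memS ha), fr.pw_spec ha, map_ez hψ (fr.memS fr.z_mem), hψz,
        hzi] at h1
      have h2 : ez p z (-(fr.pw (pr Q a))) = ez p z (fr.pw (pr Q a)) := by
        rw [← h1]; show _ = ez p z (-1) ^ _; rw [fr.ez_pow, ZMod.natCast_zmod_val, mul_neg_one]
      have h3 := fr.ez_inj h2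
      exact (mul_eq_zero.1 (by linear_combination -h3 : (2 : ZMod p) * fr.pw (pr Q a) = 0)).resolve_left
        (two_ne_zero_of_odd fr.hp)
    refine hne (LinearMap.ext fun w => ?_)
    have hw : w - fr.form w (pr Q u) • pr Q a ∈ LinearMap.ker fr.pw := by
      rw [hker]
      refine LinearMap.mem_ker.2 (d.isRefl _ _ ?_)
      show fr.form _ _ = 0
      rw [map_sub, map_smul, LinearMap.sub_apply, LinearMap.smul_apply, hav, smul_eq_mul, mul_one,
        sub_self]
    rw [LinearMap.mem_ker, map_sub, map_smul, hpa, smul_zero, sub_zero] at hw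
    exact hw
  have hQp : ∀ a ∈ Q, a ^ p = 1 := fun a ha => by
    rw [fr.pw_spec ha, hpw, LinearMap.zero_apply, fr.ez_zero]
  -- normalize `x'`
  obtain ⟨q, hq, hqk, hqf⟩ := fr.exists_commuting hx' hx'Q
  have hqM : q ∈ M := by
    refine (h.memM_Q hq).2 (d.isRefl _ _ ?_)
    exact hqf u h.hu (h.u_ker hx') ((h.memM).1 hx'M).2
  have hqx : q * x' ∈ S := S.mul_mem (fr.memS hq) hx'
  have hqxQ : q * x' ∉ Q := fun hc => hx'Q (by
    have := Q.mul_mem (Q.inv_mem hq) hc
    rwa [inv_mul_cancel_left] at this)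
  have hcj : (fr.symp hqx).N = d.N := by
    show fr.cj (q * x') hqx - 1 = fr.cj x' hx' - 1
    rw [fr.cj_mul (fr.memS hq) hx', fr.cj_of_memQ hq, one_mul]
  have hp' : (q * x') ^ p = 1 := hMp _ (Subgroup.mul_mem _ hqM hx'M)
  have hk' : ∀ k ∈ Q, (fr.symp hqx).N (pr Q k) = 0 → q * x' * k = k * (q * x') := fun k hk hN =>
    hqk k hk (by rw [← hcj]; exact hN)
  rcases htypes with ⟨h1, h5⟩ | ⟨hRK, h2⟩
  · exact Or.inl ⟨h5, fr.oneBlock_of h4 hqx hqxQ hp' hQp (by rw [hcj]; exact h1) hk'⟩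
  · obtain ⟨ε, hε, hε0, hiff⟩ := fr.twoBlock_of h4 hqx hqxQ hp' hQp (by rw [hcj]; exact hRK) hk'
    exact Or.inr ⟨ε, hε, hε0, hiff.2 ⟨v, by rw [hcj]; exact hNv, by rw [hcj]; exact hiso⟩⟩

end BData

/-- `CaseB` forces one of the two shapes. -/
theorem caseB_shape [Fact p.Prime] [Finite S] [Module (ZMod p) (Vt Q)] (fr : Frame p S Q z)
    (hF : F.IsSaturated p) (hB : CaseB fr F) :
    5 ≤ p ∧ IsOneBlock p S ∨ ∃ ε : ℤ, IsTwoBlock p ε S ∧ (ε : ZMod p) ≠ 0 ∧ IsSquare (-(ε : ZMod p)) := by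
  obtain ⟨u, hu, hu', ⟨x, hx, hxQ, hN⟩, f, hf, hfu⟩ := hB
  have hu1 : u ≠ 1 := fun h => hu' (h ▸ (zQ Q).one_mem)
  have hu0 : pr Q u ≠ 0 := fun h => hu' ((fr.pr_eq_zero hu).1 h)
  obtain ⟨g, hg, hgu⟩ := fr.exists_extend_centralizer hF hu1 hf hfu
  obtain ⟨t, ht⟩ := fr.exists_ez (fr.pr_comm_ker hx hxQ hu hN hx)
  obtain ⟨b, hb, hbv⟩ : ∃ a ∈ Q, fr.form (pr Q a) (pr Q u) = -t := by
    have hne : ∃ b, fr.form b (pr Q u) ≠ 0 := by
      by_contra hc
      push Not at hc
      exact hu0 (fr.form_nondeg _ fun b => (fr.symp hx).isRefl _ _ (hc b))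
    obtain ⟨b, hb⟩ := hne
    obtain ⟨a, ha, hab⟩ := exists_pr ((-t / fr.form b (pr Q u)) • b)
    exact ⟨a, ha, by rw [hab, map_smul, LinearMap.smul_apply, smul_eq_mul, div_mul_cancel₀ _ hb]⟩
  refine BData.caseB_main (fr := fr) (u := u) (x := b * x) (g := g)
    { hF := hF, hu := hu, hu0 := hu0, hx := S.mul_mem (fr.memS hb) hx
      hxQ := fun hc => hxQ (by
        have := Q.mul_mem (Q.inv_mem hb) hc
        rwa [inv_mul_cancel_left] at this)
      hxu := ?_, hg := hg.mono le_sup_right, hgu := hgu ▸ hfu }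
  have h1 : x * u * x⁻¹ = ez p z t * u := mul_inv_eq_iff_eq_mul.1 ht
  calc b * x * u = b * (x * u * x⁻¹) * x := by group
    _ = ez p z t * (b * u) * x := by rw [h1, ← mul_assoc b, fr.ez_comm (fr.memS hb)]; group
    _ = ez p z t * ez p z (-t) * u * b * x := by rw [fr.mul_swap hb hu, hbv]; group
    _ = u * (b * x) := by rw [← fr.ez_add, add_neg_cancel, fr.ez_zero, one_mul, mul_assoc]

end CfsgLib.Fusion.ESReduce
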