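import Cfsg.Agent.Lib.Fusion.ESReduce.Shape

/-!
Six elements satisfying the relations of `TwoBlock` or `OneBlock` generate a group of order at most `p ^ 6`;
transport to Sylow subgroups.
-/

set_option autoImplicit false
set_option linter.unusedSectionVars false

namespace CfsgLib.Fusion.ESReduce

variable {G H : Type*} [Group G] [Group H] {p : ℕ}

theorem conj_mem_closure [Finite G] {S : Set G} {g : G} (h : ∀ s ∈ S, g * s * g⁻¹ ∈ Subgroup.closure S) :
    g ∈ Subgroup.normalizer (Subgroup.closure S : Set G) := by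
  have h1 : (Subgroup.closure S).map (MulAut.conj g).toMonoidHom ≤ Subgroup.closure S := by
    rw [MonoidHom.map_closure, Subgroup.closure_le]
    rintro _ ⟨s, hs, rfl⟩
    simpa using h s hs
  have h2 : (Subgroup.closure S).map (MulAut.conj g).toMonoidHom = Subgroup.closure S := by
    refine Subgroup.eq_of_le_of_card_ge h1 (le_of_eq ?_)
    exact Nat.card_congr ((Subgroup.equivMapOfInjective _ _ (MulAut.conj g).injective).toEquiv)
  refine Subgroup.mem_normalizer_iff.2 fun x => ⟨fun hx => ?_, fun hx => ?_⟩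
  · exact h1 ⟨x, hx, by simp⟩
  · rw [← h2] at hx
    obtain ⟨y, hy, hxy⟩ := hx
    have : y = x := by simpa using hxy
    exact this ▸ hy

/-- one more normalising generator of order `p` -/
theorem step_closure [Finite G] [hp : Fact p.Prime] {S : Set G} {g : G} (hg : g ^ p = 1)
    (hS : IsPGroup p (Subgroup.closure S))
    (h : ∀ s ∈ S, g * s * g⁻¹ ∈ Subgroup.closure S) :
    IsPGroup p (Subgroup.closure (insert g S)) ∧
      Nat.card (Subgroup.closure (insert g S)) ≤ Nat.card (Subgroup.closure S) * p := by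
  have hn := conj_mem_closure h
  have hle : Subgroup.zpowers g ≤ Subgroup.normalizer (Subgroup.closure S : Set G) := by
    rwa [Subgroup.zpowers_le]
  have heq : Subgroup.closure (insert g S) = Subgroup.zpowers g ⊔ Subgroup.closure S := by
    rw [Set.insert_eq, Subgroup.closure_union, ← Subgroup.zpowers_eq_closure]
  rw [heq]
  refine ⟨?_, ?_⟩
  · have hz : IsPGroup p (Subgroup.zpowers g) := fun x => ⟨1, Subtype.ext (by
      obtain ⟨k, hk⟩ := Subgroup.mem_zpowers_iff.1 x.2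
      rw [pow_one, Subgroup.coe_pow, ← hk, Subgroup.coe_one, ← zpow_natCast, ← zpow_mul, mul_comm, zpow_mul,
        zpow_natCast, hg, one_zpow])⟩
    exact hz.to_sup_of_normal_right' hS hle
  · have hset := Subgroup.coe_mul_of_left_le_normalizer_right (Subgroup.zpowers g) (Subgroup.closure S) hle
    have hz : Nat.card (Subgroup.zpowers g) ≤ p := by
      rw [Nat.card_zpowers]
      exact orderOf_le_of_pow_eq_one hp.out.pos hg
    have h2 : Nat.card ↥(Subgroup.zpowers g ⊔ Subgroup.closure S) ≤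
        Nat.card ((Subgroup.zpowers g : Set G) ×ˢ (Subgroup.closure S : Set G) : Set (G × G)) := by
      refine Nat.card_le_card_of_surjective
        (fun q => ⟨q.1.1 * q.1.2, mul_mem (Subgroup.mem_sup_left q.2.1) (Subgroup.mem_sup_right q.2.2)⟩) fun x => ?_
      have hx : (x : G) ∈ ((Subgroup.zpowers g ⊔ Subgroup.closure S : Subgroup G) : Set G) := x.2
      rw [hset] at hx
      obtain ⟨a, ha, b, hb, hab⟩ := hx
      exact ⟨⟨(a, b), ha, hb⟩, Subtype.ext hab⟩
    rw [Nat.card_congr (Equiv.Set.prod _ _), Nat.card_prod] at h2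
    refine h2.trans ?_
    rw [mul_comm (Nat.card (Subgroup.closure S))]
    exact Nat.mul_le_mul_right _ hz

theorem conj_of_commute {g a : G} {S : Set G} (h : Commute g a) (ha : a ∈ S) :
    g * a * g⁻¹ ∈ Subgroup.closure S := by
  rw [h.eq, mul_inv_cancel_right]
  exact Subgroup.subset_closure ha

theorem conj_of_eq {g a b : G} {S : Set G} (h : g * a = b * g) (hb : b ∈ Subgroup.closure S) :
    g * a * g⁻¹ ∈ Subgroup.closure S := by
  rw [h, mul_inv_cancel_right]
  exact hb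

theorem closure_bot_pGroup [hp : Fact p.Prime] : IsPGroup p (Subgroup.closure (∅ : Set G)) ∧
    Nat.card (Subgroup.closure (∅ : Set G)) = 1 := by
  rw [Subgroup.closure_empty]
  exact ⟨IsPGroup.of_bot, Subgroup.card_bot⟩

theorem TwoBlock.closure_le [Finite G] [hp : Fact p.Prime] {ε : ℤ} {x v₁ v₂ u₁ u₂ z : G}
    (h : TwoBlock p ε x v₁ v₂ u₁ u₂ z) :
    IsPGroup p (Subgroup.closure {x, v₁, v₂, u₁, u₂, z}) ∧
      Nat.card (Subgroup.closure {x, v₁, v₂, u₁, u₂, z}) ≤ p ^ 6 := by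
  obtain ⟨g0, c0⟩ := closure_bot_pGroup (G := G) (p := p)
  obtain ⟨g1, c1⟩ := step_closure (g := z) h.pz g0 (by simp)
  rw [LawfulSingleton.insert_empty_eq] at g1 c1
  have mem : ∀ {a : G} {S : Set G}, a ∈ S → a ∈ Subgroup.closure S := fun ha => Subgroup.subset_closure ha
  obtain ⟨g2, c2⟩ := step_closure (g := u₂) h.pu₂ g1 (by
    simp only [Set.mem_singleton_iff, forall_eq]
    exact conj_of_commute h.zu₂.symm rfl)
  obtain ⟨g3, c3⟩ := step_closure (g := u₁) h.pu₁ g2 (by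
    simp only [Set.mem_insert_iff, Set.mem_singleton_iff, forall_eq_or_imp, forall_eq]
    exact ⟨conj_of_commute h.u₁u₂ (by simp), conj_of_commute h.zu₁.symm (by simp)⟩)
  obtain ⟨g4, c4⟩ := step_closure (g := v₂) h.pv₂ g3 (by
    simp only [Set.mem_insert_iff, Set.mem_singleton_iff, forall_eq_or_imp, forall_eq]
    exact ⟨conj_of_commute h.v₂u₁ (by simp),
      conj_of_eq h.v₂u₂ (mul_mem (zpow_mem (mem (by simp)) _) (mem (by simp))),
      conj_of_commute h.zv₂.symm (by simp)⟩)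
  obtain ⟨g5, c5⟩ := step_closure (g := v₁) h.pv₁ g4 (by
    simp only [Set.mem_insert_iff, Set.mem_singleton_iff, forall_eq_or_imp, forall_eq]
    exact ⟨conj_of_commute h.v₁v₂ (by simp),
      conj_of_eq h.v₁u₁ (mul_mem (mem (by simp)) (mem (by simp))), conj_of_commute h.v₁u₂ (by simp),
      conj_of_commute h.zv₁.symm (by simp)⟩)
  obtain ⟨g6, c6⟩ := step_closure (g := x) h.px g5 (by
    simp only [Set.mem_insert_iff, Set.mem_singleton_iff, forall_eq_or_imp, forall_eq]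
    exact ⟨conj_of_eq h.xv₁ (mul_mem (mem (by simp)) (mem (by simp))),
      conj_of_eq h.xv₂ (mul_mem (mem (by simp)) (mem (by simp))), conj_of_commute h.xu₁ (by simp),
      conj_of_commute h.xu₂ (by simp), conj_of_commute h.zx.symm (by simp)⟩)
  refine ⟨g6, c6.trans ?_⟩
  calc _ ≤ (((((1 * p) * p) * p) * p) * p) * p := by
        have hm : ∀ {a b c : ℕ}, a ≤ b * p → b ≤ c → a ≤ c * p := fun h1 h2 =>
          h1.trans (Nat.mul_le_mul_right _ h2)
        exact Nat.mul_le_mul_right _ (hm c5 (hm c4 (hm c3 (hm c2 (c0 ▸ c1)))))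
    _ = p ^ 6 := by ring

theorem OneBlock.closure_le [Finite G] [hp : Fact p.Prime] {x v₀ v₁ v₂ v₃ z : G}
    (h : OneBlock p x v₀ v₁ v₂ v₃ z) :
    IsPGroup p (Subgroup.closure {x, v₀, v₁, v₂, v₃, z}) ∧
      Nat.card (Subgroup.closure {x, v₀, v₁, v₂, v₃, z}) ≤ p ^ 6 := by
  obtain ⟨g0, c0⟩ := closure_bot_pGroup (G := G) (p := p)
  obtain ⟨g1, c1⟩ := step_closure (g := z) h.pz g0 (by simp)
  rw [LawfulSingleton.insert_empty_eq] at g1 c1
  have mem : ∀ {a : G} {S : Set G}, a ∈ S → a ∈ Subgroup.closure S := fun ha => Subgroup.subset_closure ha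
  obtain ⟨g2, c2⟩ := step_closure (g := v₃) h.pv₃ g1 (by
    simp only [Set.mem_singleton_iff, forall_eq]
    exact conj_of_commute h.zv₃.symm rfl)
  obtain ⟨g3, c3⟩ := step_closure (g := v₂) h.pv₂ g2 (by
    simp only [Set.mem_insert_iff, Set.mem_singleton_iff, forall_eq_or_imp, forall_eq]
    exact ⟨conj_of_commute h.v₂v₃ (by simp), conj_of_commute h.zv₂.symm (by simp)⟩)
  obtain ⟨g4, c4⟩ := step_closure (g := v₁) h.pv₁ g3 (by
    simp only [Set.mem_insert_iff, Set.mem_singleton_iff, forall_eq_or_imp, forall_eq]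
    exact ⟨conj_of_eq h.v₁v₂ (mul_mem (inv_mem (mem (by simp))) (mem (by simp))),
      conj_of_commute h.v₁v₃ (by simp), conj_of_commute h.zv₁.symm (by simp)⟩)
  obtain ⟨g5, c5⟩ := step_closure (g := v₀) h.pv₀ g4 (by
    simp only [Set.mem_insert_iff, Set.mem_singleton_iff, forall_eq_or_imp, forall_eq]
    exact ⟨conj_of_commute h.v₀v₁ (by simp),
      conj_of_eq h.v₀v₂ (mul_mem (mem (by simp)) (mem (by simp))),
      conj_of_eq h.v₀v₃ (mul_mem (mem (by simp)) (mem (by simp))), conj_of_commute h.zv₀.symm (by simp)⟩)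
  obtain ⟨g6, c6⟩ := step_closure (g := x) h.px g5 (by
    simp only [Set.mem_insert_iff, Set.mem_singleton_iff, forall_eq_or_imp, forall_eq]
    exact ⟨conj_of_eq h.xv₀ (mul_mem (mem (by simp)) (mem (by simp))),
      conj_of_eq h.xv₁ (mul_mem (mem (by simp)) (mem (by simp))),
      conj_of_eq h.xv₂ (mul_mem (mem (by simp)) (mem (by simp))), conj_of_commute h.xv₃ (by simp),
      conj_of_commute h.zx.symm (by simp)⟩)
  refine ⟨g6, c6.trans ?_⟩
  calc _ ≤ (((((1 * p) * p) * p) * p) * p) * p := by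
        have hm : ∀ {a b c : ℕ}, a ≤ b * p → b ≤ c → a ≤ c * p := fun h1 h2 =>
          h1.trans (Nat.mul_le_mul_right _ h2)
        exact Nat.mul_le_mul_right _ (hm c5 (hm c4 (hm c3 (hm c2 (c0 ▸ c1)))))
    _ = p ^ 6 := by ring

/-! ### Transport -/

theorem TwoBlock.map {ε : ℤ} {x v₁ v₂ u₁ u₂ z : G} (h : TwoBlock p ε x v₁ v₂ u₁ u₂ z) (f : G →* H) :
    TwoBlock p ε (f x) (f v₁) (f v₂) (f u₁) (f u₂) (f z) := by
  obtain ⟨a1, a2, a3, a4, a5, a6, b1, b2, c1, c2, c3, c4, d1, c5, c6, d2, e1, e2, e3, e4, e5⟩ := h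
  refine ⟨?_, ?_, ?_, ?_, ?_, ?_, ?_, ?_, c1.map f, c2.map f, c3.map f, c4.map f, ?_, c5.map f, c6.map f, ?_,
    e1.map f, e2.map f, e3.map f, e4.map f, e5.map f⟩ <;>
    simp only [← map_pow, ← map_zpow, ← map_mul, a1, a2, a3, a4, a5, a6, b1, b2, d1, d2, map_one]

theorem OneBlock.map {x v₀ v₁ v₂ v₃ z : G} (h : OneBlock p x v₀ v₁ v₂ v₃ z) (f : G →* H) :
    OneBlock p (f x) (f v₀) (f v₁) (f v₂) (f v₃) (f z) := by
  obtain ⟨a1, a2, a3, a4, a5, a6, b1, b2, b3, c1, c2, d1, d2, d3, c3, c4, e1, e2, e3, e4, e5⟩ := h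
  refine ⟨?_, ?_, ?_, ?_, ?_, ?_, ?_, ?_, ?_, c1.map f, c2.map f, ?_, ?_, ?_, c3.map f, c4.map f, e1.map f,
    e2.map f, e3.map f, e4.map f, e5.map f⟩ <;>
    simp only [← map_pow, ← map_inv, ← map_mul, a1, a2, a3, a4, a5, a6, b1, b2, b3, d1, d2, d3, map_one]

theorem map_six (f : G →* H) (x a b c d z : G) :
    (Subgroup.closure {x, a, b, c, d, z}).map f = Subgroup.closure {f x, f a, f b, f c, f d, f z} := by
  rw [MonoidHom.map_closure]
  simp only [Set.image_insert_eq, Set.image_singleton]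

theorem IsTwoBlock.of_equiv {ε : ℤ} (h : IsTwoBlock p ε G) (e : G ≃* H) : IsTwoBlock p ε H := by
  obtain ⟨x, v₁, v₂, u₁, u₂, z, hh, hc, hcl⟩ := h
  refine ⟨_, _, _, _, _, _, hh.map e.toMonoidHom, (Nat.card_congr e.toEquiv).symm.trans hc, ?_⟩
  rw [← map_six, hcl, Subgroup.map_top_of_surjective _ e.surjective]

theorem IsOneBlock.of_equiv (h : IsOneBlock p G) (e : G ≃* H) : IsOneBlock p H := by
  obtain ⟨x, v₀, v₁, v₂, v₃, z, hh, hc, hcl⟩ := h
  refine ⟨_, _, _, _, _, _, hh.map e.toMonoidHom, (Nat.card_congr e.toEquiv).symm.trans hc, ?_⟩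
  rw [← map_six, hcl, Subgroup.map_top_of_surjective _ e.surjective]

/-- A subgroup generated by six such elements, all inside it. -/
theorem isTwoBlock_subgroup {ε : ℤ} {P : Subgroup G} {x v₁ v₂ u₁ u₂ z : G}
    (h : TwoBlock p ε x v₁ v₂ u₁ u₂ z) (hgen : Subgroup.closure {x, v₁, v₂, u₁, u₂, z} = P)
    (hc : Nat.card P = p ^ 6) : IsTwoBlock p ε P := by
  subst hgen
  have m : ∀ {g : G}, g ∈ ({x, v₁, v₂, u₁, u₂, z} : Set G) → g ∈ Subgroup.closure {x, v₁, v₂, u₁, u₂, z} :=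
    fun hg => Subgroup.subset_closure hg
  refine ⟨⟨x, m (by simp)⟩, ⟨v₁, m (by simp)⟩, ⟨v₂, m (by simp)⟩, ⟨u₁, m (by simp)⟩, ⟨u₂, m (by simp)⟩,
    ⟨z, m (by simp)⟩, ?_, hc, ?_⟩
  · obtain ⟨a1, a2, a3, a4, a5, a6, b1, b2, c1, c2, c3, c4, d1, c5, c6, d2, e1, e2, e3, e4, e5⟩ := h
    exact ⟨Subtype.ext a1, Subtype.ext a2, Subtype.ext a3, Subtype.ext a4, Subtype.ext a5, Subtype.ext a6,
      Subtype.ext b1, Subtype.ext b2, Subtype.ext c1.eq, Subtype.ext c2.eq, Subtype.ext c3.eq, Subtype.ext c4.eq,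
      Subtype.ext d1, Subtype.ext c5.eq, Subtype.ext c6.eq, Subtype.ext d2, Subtype.ext e1.eq, Subtype.ext e2.eq,
      Subtype.ext e3.eq, Subtype.ext e4.eq, Subtype.ext e5.eq⟩
  · apply Subgroup.map_injective (Subgroup.subtype_injective _)
    rw [map_six, ← MonoidHom.range_eq_map, Subgroup.range_subtype]
    rfl

/-- A subgroup generated by six such elements, all inside it. -/
theorem isOneBlock_subgroup {P : Subgroup G} {x v₀ v₁ v₂ v₃ z : G}
    (h : OneBlock p x v₀ v₁ v₂ v₃ z) (hgen : Subgroup.closure {x, v₀, v₁, v₂, v₃, z} = P)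
    (hc : Nat.card P = p ^ 6) : IsOneBlock p P := by
  subst hgen
  have m : ∀ {g : G}, g ∈ ({x, v₀, v₁, v₂, v₃, z} : Set G) → g ∈ Subgroup.closure {x, v₀, v₁, v₂, v₃, z} :=
    fun hg => Subgroup.subset_closure hg
  refine ⟨⟨x, m (by simp)⟩, ⟨v₀, m (by simp)⟩, ⟨v₁, m (by simp)⟩, ⟨v₂, m (by simp)⟩, ⟨v₃, m (by simp)⟩,
    ⟨z, m (by simp)⟩, ?_, hc, ?_⟩
  · obtain ⟨a1, a2, a3, a4, a5, a6, b1, b2, b3, c1, c2, d1, d2, d3, c3, c4, e1, e2, e3, e4, e5⟩ := h
    exact ⟨Subtype.ext a1, Subtype.ext a2, Subtype.ext a3, Subtype.ext a4, Subtype.ext a5, Subtype.ext a6,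
      Subtype.ext b1, Subtype.ext b2, Subtype.ext b3, Subtype.ext c1.eq, Subtype.ext c2.eq, Subtype.ext d1,
      Subtype.ext d2, Subtype.ext d3, Subtype.ext c3.eq, Subtype.ext c4.eq, Subtype.ext e1.eq, Subtype.ext e2.eq,
      Subtype.ext e3.eq, Subtype.ext e4.eq, Subtype.ext e5.eq⟩
  · apply Subgroup.map_injective (Subgroup.subtype_injective _)
    rw [map_six, ← MonoidHom.range_eq_map, Subgroup.range_subtype]
    rfl

/-- From a Sylow subgroup to every Sylow subgroup. -/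
theorem isTwoBlock_sylow [Finite G] [Fact p.Prime] {ε : ℤ} (P₀ P : Sylow p G)
    (h : IsTwoBlock p ε (P₀ : Subgroup G)) : IsTwoBlock p ε (P : Subgroup G) :=
  h.of_equiv (P₀.equiv P)

/-- From a Sylow subgroup to every Sylow subgroup. -/
theorem isOneBlock_sylow [Finite G] [Fact p.Prime] (P₀ P : Sylow p G)
    (h : IsOneBlock p (P₀ : Subgroup G)) : IsOneBlock p (P : Subgroup G) :=
  h.of_equiv (P₀.equiv P)

end CfsgLib.Fusion.ESReduce
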