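import Cfsg.Agent.Lib.Fusion.ESReduce.Linear

/-!
Linear groups on `K × U × K` containing the maps `a t` and an element exchanging the two outer
lines, when no image of the last basis vector lands in `0 × (U \ 0) × K`.
-/

set_option autoImplicit false
set_option linter.unusedSectionVars false
set_option linter.unusedVariables false

namespace CfsgLib.Fusion.ESReduce.Triple

open Module

theorem three_key : ∀ a b : ZMod 3, a ≠ 0 → b ≠ 0 → a ≠ b → 4 * (1 * 1) = (a - b) * a → False := by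
  decide

variable {p : ℕ} [Fact p.Prime] {U : Type*} [AddCommGroup U] [Module (ZMod p) U]

/-- The space. -/
abbrev Sp (p : ℕ) (U : Type*) := ZMod p × U × ZMod p

/-- The data. -/
structure Data (p : ℕ) [Fact p.Prime] (U : Type*) [AddCommGroup U] [Module (ZMod p) U] where
  G : Subgroup (Sp p U ≃ₗ[ZMod p] Sp p U)
  β : LinearMap.BilinForm (ZMod p) U
  φ : U → ZMod p
  a : U → Sp p U ≃ₗ[ZMod p] Sp p U
  g : Sp p U ≃ₗ[ZMod p] Sp p U
  symm : ∀ s t, β s t = β t s
  φ_add : ∀ s t, φ (s + t) = φ s + φ t + β s t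
  φ_zero : ∀ s, φ s = 0 → s = 0
  a_mem : ∀ t, a t ∈ G
  a_apply : ∀ t v, a t v = (v.1, v.2.1 + v.1 • t, v.2.2 + β t v.2.1 + v.1 * φ t)
  g_mem : g ∈ G
  g_z : g (0, 0, 1) = (1, 0, 0)
  g_hyp : ∀ v : Sp p U, (g v).2.2 = 0 ↔ v.1 = 0
  noB : ∀ h ∈ G, (h (0, 0, 1)).1 = 0 → (h (0, 0, 1)).2.1 = 0

namespace Data

variable [FiniteDimensional (ZMod p) U] (D : Data p U)

/-- The middle component of `g` on the middle space. -/
def gu : U →ₗ[ZMod p] U :=
  (LinearMap.fst (ZMod p) U (ZMod p)).comp ((LinearMap.snd (ZMod p) (ZMod p) (U × ZMod p)).comp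
    (D.g.toLinearMap.comp ((LinearMap.inr (ZMod p) (ZMod p) (U × ZMod p)).comp
      (LinearMap.inl (ZMod p) U (ZMod p)))))

theorem g_mid (t : U) : D.g (0, t, 0) = ((D.g (0, t, 0)).1, D.gu t, 0) := by
  refine Prod.ext rfl (Prod.ext rfl ?_)
  exact (D.g_hyp _).2 rfl

theorem g_split (t : U) (c : ZMod p) :
    D.g (0, t, c) = ((D.g (0, t, 0)).1 + c, D.gu t, 0) := by
  have h : ((0, t, c) : Sp p U) = (0, t, 0) + c • (0, 0, 1) := by ext <;> simp
  rw [h, map_add, map_smul, D.g_z, D.g_mid]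
  ext <;> simp

theorem gu_bij : Function.Bijective D.gu := by
  have hinj : Function.Injective D.gu := by
    refine LinearMap.ker_eq_bot.1 (LinearMap.ker_eq_bot'.2 fun t ht => ?_)
    have h : D.g (0, t, -(D.g (0, t, 0)).1) = D.g 0 := by
      rw [D.g_split, ht, map_zero]
      ext <;> simp
    exact congrArg (fun v : Sp p U => v.2.1) (D.g.injective h)
  exact ⟨hinj, LinearMap.injective_iff_surjective.1 hinj⟩

/-- The opposite maps. -/
theorem exists_b : ∃ (L : LinearMap.BilinForm (ZMod p) U) (χ : U → ZMod p),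
    (∀ s t, L s t = L t s) ∧ (∀ s t, χ (s + t) = χ s + χ t + L s t) ∧ (∀ s, χ s = 0 → s = 0) ∧
      (D.β = 0 → L = 0) ∧
      ∀ s, ∃ b ∈ D.G, ∀ v : Sp p U,
        b v = (v.1 + L s v.2.1 + v.2.2 * χ s, v.2.1 + v.2.2 • s, v.2.2) := by
  obtain ⟨y, hy⟩ := D.g.surjective (0, 0, 1)
  have hy1 : y.1 ≠ 0 := fun h => by
    have := (D.g_hyp y).2 h
    rw [hy] at this
    exact one_ne_zero this
  let e := LinearEquiv.ofBijective D.gu D.gu_bij
  have he : ∀ t, D.gu (e.symm t) = t := fun t => e.apply_symm_apply t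
  let g₁ : U →ₗ[ZMod p] ZMod p := (LinearMap.fst (ZMod p) (ZMod p) (U × ZMod p)).comp
    (D.g.toLinearMap.comp ((LinearMap.inr (ZMod p) (ZMod p) (U × ZMod p)).comp
      (LinearMap.inl (ZMod p) U (ZMod p))))
  have hg₁ : ∀ t, (D.g (0, t, 0)).1 = g₁ t := fun t => rfl
  let L : LinearMap.BilinForm (ZMod p) U := y.1⁻¹ • D.β.compl₁₂ e.symm.toLinearMap e.symm.toLinearMap
  have hL : ∀ s t, L s t = y.1⁻¹ * D.β (e.symm s) (e.symm t) := fun s t => rfl
  let T : U → U := fun s => y.1⁻¹ • e.symm s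
  let χ : U → ZMod p := fun s => y.1 * g₁ (T s) + D.β (T s) y.2.1 + y.1 * D.φ (T s)
  have hb : ∀ s, ∃ b ∈ D.G, ∀ v : Sp p U,
      b v = (v.1 + L s v.2.1 + v.2.2 * χ s, v.2.1 + v.2.2 • s, v.2.2) := by
    intro s
    refine ⟨D.g * D.a (T s) * D.g⁻¹, D.G.mul_mem (D.G.mul_mem D.g_mem (D.a_mem _))
      (D.G.inv_mem D.g_mem), fun v => ?_⟩
    have hv : v = D.g (0, e.symm v.2.1, v.1 - g₁ (e.symm v.2.1)) + v.2.2 • D.g y := by
      rw [D.g_split, hy, he, hg₁]
      ext <;> simp
    have hinv : D.g⁻¹ v = (0, e.symm v.2.1, v.1 - g₁ (e.symm v.2.1)) + v.2.2 • y := by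
      conv_lhs => rw [hv, ← map_smul, ← map_add]
      exact D.g.symm_apply_apply _
    show D.g (D.a (T s) (D.g⁻¹ v)) = _
    rw [hinv, map_add (D.a (T s)), map_smul (D.a (T s)), D.a_apply, D.a_apply, map_add D.g,
      map_smul D.g]
    have e2 : ((y.1, y.2.1 + y.1 • T s, y.2.2 + D.β (T s) y.2.1 + y.1 * D.φ (T s)) : Sp p U) =
        y + (0, y.1 • T s, D.β (T s) y.2.1 + y.1 * D.φ (T s)) := by
      ext <;> simp [add_assoc]
    simp only [zero_smul, add_zero, zero_mul]
    rw [e2, map_add, hy, D.g_split (e.symm v.2.1), D.g_split (y.1 • T s), he, map_smul D.gu, show D.gu (T s) = y.1⁻¹ • s by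
      rw [map_smul, he], hg₁, hg₁, map_smul g₁, smul_smul, mul_inv_cancel₀ hy1, one_smul]
    refine Prod.ext ?_ (Prod.ext ?_ ?_)
    · simp only [Prod.fst_add, Prod.smul_fst, smul_eq_mul, hL, χ, T, map_smul, LinearMap.smul_apply]
      ring
    · simp
    · simp
  have hχ : ∀ s t, χ (s + t) = χ s + χ t + L s t := by
    intro s t
    have hT : T (s + t) = T s + T t := by simp [T, smul_add]
    simp only [χ, hT, map_add, LinearMap.add_apply, D.φ_add, hL]
    simp only [T, map_smul, LinearMap.smul_apply, smul_eq_mul]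
    field_simp
    ring
  refine ⟨L, χ, fun s t => by rw [hL, hL, D.symm], hχ, fun s hs => ?_, fun h0 => ?_, hb⟩
  · obtain ⟨b, hbG, hbv⟩ := hb s
    have h1 := hbv (0, 0, 1)
    simp only [map_zero, zero_add, one_mul, one_smul, hs] at h1
    have := D.noB b hbG (by rw [h1])
    rwa [h1] at this
  · refine LinearMap.ext fun s => LinearMap.ext fun t => ?_
    rw [hL, h0]
    simp

/-- A line cannot carry a zero form. -/
theorem false_of_zero (hp : p ≠ 2) (h1 : finrank (ZMod p) U = 1) (h0 : D.β = 0) : False := by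
  obtain ⟨L, χ, -, hχ, hχ0, hL, hb⟩ := D.exists_b
  have hL' := hL h0
  haveI : Nontrivial U := Module.nontrivial_of_finrank_pos (R := ZMod p) (by omega)
  obtain ⟨t, ht⟩ := exists_ne (0 : U)
  set μ := D.φ t with hμd
  have hμ : μ ≠ 0 := fun h => ht (D.φ_zero t h)
  let χl : U →ₗ[ZMod p] ZMod p := AddMonoidHom.toZModLinearMap p
    (AddMonoidHom.mk' χ fun s u => by rw [hχ, hL']; simp)
  obtain ⟨s, hs⟩ : ∃ s, χ s = -μ⁻¹ := by
    refine ⟨(-μ⁻¹ / χ t) • t, ?_⟩
    show χl _ = _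
    rw [map_smul, smul_eq_mul]
    exact div_mul_cancel₀ _ fun h => ht (hχ0 t h)
  obtain ⟨b, hbG, hbv⟩ := hb s
  set w := D.a t * b * D.a t with hw
  have hwG : w ∈ D.G := D.G.mul_mem (D.G.mul_mem (D.a_mem t) hbG) (D.a_mem t)
  have happ : ∀ v, w v = D.a t (b (D.a t v)) := fun v => rfl
  have e : w (w (0, 0, 1)) = ((0 : ZMod p), (-(2 * μ⁻¹)) • t, -1) := by
    simp only [happ, D.a_apply, hbv, h0, hL', hs, ← hμd, LinearMap.zero_apply, zero_smul, zero_add,
      add_zero, mul_one, one_mul, zero_mul]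
    refine Prod.ext ?_ (Prod.ext ?_ ?_) <;> simp only
    · field_simp
      ring
    · simp only [smul_smul, add_smul, neg_smul, neg_mul, mul_neg]
      match_scalars <;> field_simp <;> ring
    · field_simp
      ring
  have h2 := D.noB (w * w) (D.G.mul_mem hwG hwG) (by show (w (w _)).1 = 0; rw [e])
  change (w (w _)).2.1 = 0 at h2
  rw [e] at h2
  rcases smul_eq_zero.1 h2 with h | h
  · exact mul_ne_zero (two_ne_zero_of_odd hp) (inv_ne_zero hμ) (neg_eq_zero.1 h)
  · exact ht h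

/-- With an anisotropic plane, the product of two reflections. -/
theorem exists_minus (hp : p ≠ 2) (h2 : 2 ≤ finrank (ZMod p) U) :
    ∃ h ∈ D.G, ∃ c : ZMod p, c ≠ 0 ∧ h (0, 0, 1) = (0, 0, c) ∧ h (1, 0, 0) = (c⁻¹, 0, 0) ∧
      ∀ u, h (0, u, 0) = (0, -u, 0) := by
  have htwo := two_ne_zero_of_odd (p := p) hp
  obtain ⟨hdim, hani, hφ⟩ := quad_single_zero hp D.β D.symm D.φ D.φ_add D.φ_zero h2
  obtain ⟨L, χ, hLs, hχ, hχ0, -, hb⟩ := D.exists_b
  obtain ⟨-, hLani, hχh⟩ := quad_single_zero hp L hLs χ hχ hχ0 h2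
  have hφ' : ∀ s, D.φ s = D.β s s / 2 := fun s => by rw [← hφ, mul_div_cancel_left₀ _ htwo]
  have hχ' : ∀ s, χ s = L s s / 2 := fun s => by rw [← hχh, mul_div_cancel_left₀ _ htwo]
  -- the two forms agree
  have hdiag : ∀ s, L s s = D.β s s := by
    intro s
    by_contra hne
    have hs : s ≠ 0 := fun h => hne (by rw [h]; simp)
    set β := D.β s s with hβ
    set l := L s s with hl
    have hβ0 : β ≠ 0 := fun h => hs (hani s h)
    have hl0 : l ≠ 0 := fun h => hs (hLani s h)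
    set κ := l - β with hκ
    have hκ0 : κ ≠ 0 := sub_ne_zero.2 hne
    obtain ⟨m, hm0, hm⟩ : ∃ m : ZMod p, m ≠ 0 ∧ 4 * (m * m) ≠ κ * l := by
      by_cases h1 : 4 * ((1 : ZMod p) * 1) = κ * l
      · refine ⟨2, htwo, fun h => ?_⟩
        have h12 : (2 * 2 * (2 + 1) : ZMod p) = 0 := by linear_combination h - h1
        have h3 := (mul_eq_zero.1 h12).resolve_left (mul_ne_zero htwo htwo)
        -- the characteristic is `3`
        have hp3 : p = 3 := by
          have h3' : ((3 : ℕ) : ZMod p) = 0 := by push_cast; linear_combination h3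
          rw [ZMod.natCast_eq_zero_iff] at h3'
          exact (Nat.prime_dvd_prime_iff_eq Fact.out Nat.prime_three).1 h3'
        subst hp3
        have key := @three_key
        exact key l β hl0 hβ0 hne h1
      · exact ⟨1, one_ne_zero, h1⟩
    have hden : m * m - κ * l / 4 ≠ 0 := fun h => hm (by
      have h4 : (4 : ZMod p) ≠ 0 := by
        rw [show (4 : ZMod p) = 2 * 2 by norm_num]
        exact mul_ne_zero htwo htwo
      field_simp at h
      linear_combination h)
    set i := κ / (m * m - κ * l / 4) with hi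
    have hi0 : i ≠ 0 := div_ne_zero hκ0 hden
    have hid : i * (m * m - κ * l / 4) = κ := div_mul_cancel₀ _ hden
    -- the images of the last basis vector on the line of `s`
    obtain ⟨b₁, hb₁, hb₁v⟩ := hb s
    have hy : ∀ j : ZMod p, ∃ h ∈ D.G, h (0, 0, 1) =
        (l / 2 + j * l * (1 + i * (l / 2)) + (1 + i * β + i * i * β / 2 * (l / 2)) * (j * j * l / 2),
          (1 + i * (l / 2) + j * (1 + i * β + i * i * β / 2 * (l / 2))) • s,
          1 + i * β + i * i * β / 2 * (l / 2)) := by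
      intro j
      obtain ⟨b₂, hb₂, hb₂v⟩ := hb (j • s)
      refine ⟨b₂ * D.a (i • s) * b₁, D.G.mul_mem (D.G.mul_mem hb₂ (D.a_mem _)) hb₁, ?_⟩
      show b₂ (D.a (i • s) (b₁ (0, 0, 1))) = _
      simp only [hb₁v, D.a_apply, hb₂v, hφ', hχ', map_zero, LinearMap.zero_apply, zero_add, add_zero,
        one_mul, one_smul, map_smul, map_add, LinearMap.smul_apply, smul_eq_mul, ← hl, ← hβ]
      refine Prod.ext ?_ (Prod.ext ?_ ?_) <;> simp only
      · ring
      · module
      · ring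
    set U₀ := 1 + i * (l / 2) with hU₀
    set Z₀ := 1 + i * β + i * i * β / 2 * (l / 2) with hZ₀
    have h4 : (4 : ZMod p) ≠ 0 := by
      rw [show (4 : ZMod p) = 2 * 2 by norm_num]
      exact mul_ne_zero htwo htwo
    have hD : U₀ * U₀ - Z₀ = (i * m) * (i * m) := by
      have e : U₀ * U₀ - Z₀ = i * κ + i * i * (κ * l / 4) := by
        rw [hU₀, hZ₀, hκ]
        field_simp
        ring
      rw [e]
      linear_combination (-i) * hid
    have him : i * m ≠ 0 := mul_ne_zero hi0 hm0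
    obtain ⟨j, hj, hju⟩ : ∃ j, l / 2 + j * l * U₀ + Z₀ * (j * j * l / 2) = 0 ∧ U₀ + j * Z₀ ≠ 0 := by
      by_cases hZ : Z₀ = 0
      · have hU : U₀ ≠ 0 := fun h => mul_ne_zero him him (by rw [← hD, h, hZ]; ring)
        refine ⟨-1 / (2 * U₀), ?_, by rw [hZ, mul_zero, add_zero]; exact hU⟩
        rw [hZ]
        field_simp
        ring
      · refine ⟨(-U₀ + i * m) / Z₀, ?_, by rw [div_mul_cancel₀ _ hZ, add_neg_cancel_left]; exact him⟩
        field_simp
        linear_combination (-l) * hD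
    obtain ⟨h, hh, hv⟩ := hy j
    have := D.noB h hh (by rw [hv]; exact hj)
    rw [hv] at this
    exact hju ((smul_eq_zero.1 this).resolve_right hs)
  have hLβ : ∀ s t, L s t = D.β s t := by
    intro s t
    have h := hdiag (s + t)
    simp only [map_add, LinearMap.add_apply, hdiag s, hdiag t, hLs t s, D.symm t s] at h
    exact mul_left_cancel₀ htwo (by linear_combination h)
  -- the reflections
  have hrefl : ∀ s, s ≠ 0 → ∃ w ∈ D.G, ∀ v : Sp p U, w v =
      (v.2.2 * (2 / D.β s s), v.2.1 - (2 * D.β s v.2.1 / D.β s s) • s, v.1 * (D.β s s / 2)) := by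
    intro s hs
    set c := D.β s s with hc
    have hc0 : c ≠ 0 := fun h => hs (hani s h)
    obtain ⟨b, hbG, hbv⟩ := hb ((-2 / c) • s)
    refine ⟨D.a s * b * D.a s, D.G.mul_mem (D.G.mul_mem (D.a_mem s) hbG) (D.a_mem s), fun v => ?_⟩
    show D.a s (b (D.a s v)) = _
    simp only [D.a_apply, hbv, hφ', hχ', hLβ, map_add, map_smul, LinearMap.smul_apply, smul_eq_mul,
      ← hc]
    refine Prod.ext ?_ (Prod.ext ?_ ?_) <;> simp only
    · field_simp
      ring
    · match_scalars <;> field_simp <;> ring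
    · field_simp
      ring
  haveI : Nontrivial U := Module.nontrivial_of_finrank_pos (R := ZMod p) (by omega)
  obtain ⟨s₁, hs₁⟩ := exists_ne (0 : U)
  obtain ⟨⟨s₂, hs₂k⟩, hs₂0⟩ : ∃ x : LinearMap.ker (D.β s₁), x ≠ 0 := by
    haveI : Nontrivial (LinearMap.ker (D.β s₁)) := Module.nontrivial_of_finrank_pos (R := ZMod p) (by
      have := LinearMap.finrank_range_add_finrank_ker (D.β s₁)
      have := (Submodule.finrank_le (LinearMap.range (D.β s₁))).trans (Module.finrank_self (ZMod p)).le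
      omega)
    exact exists_ne 0
  have hs₂ : s₂ ≠ 0 := fun h => hs₂0 (Subtype.ext h)
  have h12 : D.β s₁ s₂ = 0 := LinearMap.mem_ker.1 hs₂k
  have h21 : D.β s₂ s₁ = 0 := (D.symm _ _).trans h12
  set c₁ := D.β s₁ s₁ with hc₁
  set c₂ := D.β s₂ s₂ with hc₂
  have hc₁0 : c₁ ≠ 0 := fun h => hs₁ (hani _ h)
  have hc₂0 : c₂ ≠ 0 := fun h => hs₂ (hani _ h)
  obtain ⟨w₁, hw₁, e₁⟩ := hrefl s₁ hs₁
  obtain ⟨w₂, hw₂, e₂⟩ := hrefl s₂ hs₂
  refine ⟨w₁ * w₂, D.G.mul_mem hw₁ hw₂, c₁ / c₂, div_ne_zero hc₁0 hc₂0, ?_, ?_, fun u => ?_⟩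
  · show w₁ (w₂ _) = _
    simp only [e₂, e₁, map_zero, map_sub, map_smul, ← hc₁, ← hc₂]
    simp
    field_simp
  · show w₁ (w₂ _) = _
    simp only [e₂, e₁, map_zero, map_sub, map_smul, ← hc₁, ← hc₂]
    simp
    field_simp
  · have hspan : Submodule.span (ZMod p) {s₁, s₂} = ⊤ := by
      refine Submodule.eq_top_of_finrank_eq ?_
      have hli : LinearIndependent (ZMod p) ![s₁, s₂] := LinearIndependent.pair_iff.2 fun s t h => by
        have h' := congrArg (D.β s₁) h
        simp only [map_add, map_smul, smul_eq_mul, h12, mul_zero, add_zero, map_zero, ← hc₁] at h'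
        have hs0 := (mul_eq_zero.1 h').resolve_right hc₁0
        rw [hs0, zero_smul, zero_add, smul_eq_zero] at h
        exact ⟨hs0, h.resolve_right hs₂⟩
      have := finrank_span_eq_card hli
      rw [Matrix.range_cons, Matrix.range_cons, Matrix.range_empty, Set.union_empty,
        Set.singleton_union, Fintype.card_fin] at this
      omega
    obtain ⟨x, y, rfl⟩ := Submodule.mem_span_pair.1 (hspan.ge (Submodule.mem_top (x := u)))
    show w₁ (w₂ _) = _
    simp only [e₂, e₁, map_add, map_sub, map_smul, smul_eq_mul, h12, h21, ← hc₁, ← hc₂]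
    refine Prod.ext (by simp) (Prod.ext ?_ (by simp))
    simp only
    match_scalars <;> field_simp <;> ring

end Data

end CfsgLib.Fusion.ESReduce.Triple
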