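import Cfsg.Agent.Lib.Fusion.ESReduce.Essential
import Cfsg.Agent.Lib.Fusion.ESReduce.Triple

/-!
Coordinates on the elementary abelian essential subgroup `E = C_S(x)`, and the alternatives.
-/

set_option autoImplicit false
set_option linter.style.haveILetI false
set_option linter.unusedVariables false
set_option linter.unusedSectionVars false

universe u

namespace CfsgLib.Fusion.ESReduce

open Cfsg Cfsg.FusionSystem Subgroup CfsgLib.Fusion.ESIndex Module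
open scoped commutatorElement

variable {Ω : Type u} [Group Ω] {S Q : Subgroup Ω} {p : ℕ} {z : Ω} {F : FusionSystem S}

/-- The essential subgroup with a chosen image `x` of `z`. -/
structure GData [Fact p.Prime] [Finite S] [Module (ZMod p) (Vt Q)] (fr : Frame p S Q z)
    (F : FusionSystem S) (E : Subgroup Ω) (γ : MulAut E) (x : Ω) : Prop extends EData fr F E where
  hγ : γ ∈ F.autGroup E
  hx : ∀ hz : z ∈ E, ((γ ⟨z, hz⟩ : E) : Ω) = x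
  hxn : x ∉ zQ Q
  good : ∀ q ∈ Q, q * x = x * q → q ∈ E

theorem exists_GData [Fact p.Prime] [Finite S] [Module (ZMod p) (Vt Q)] (fr : Frame p S Q z)
    (hF : F.IsSaturated p) (hO : F.core = ⊥) (hB : ¬ CaseB fr F) :
    ∃ E γ x, GData fr F E γ x := by
  obtain ⟨E, hE, hEQ, α, hα, hz, hαz⟩ := fr.exists_moving hF hO
  have h : EData fr F E := ⟨hF, hB, hE, hEQ⟩
  obtain ⟨γ, hγ, hγz, hgood⟩ := h.exists_good hα hαz
  exact ⟨E, γ, _, h, hγ, fun _ => rfl, hγz, hgood⟩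

namespace GData

variable [Fact p.Prime] [Finite S] [Module (ZMod p) (Vt Q)] {fr : Frame p S Q z} {E : Subgroup Ω}
  {γ : MulAut E} {x : Ω} (h : GData fr F E γ x)

include h

theorem hγz : ((γ ⟨z, h.z_memE⟩ : E) : Ω) ∉ zQ Q := by rw [h.hx]; exact h.hxn

theorem x_memE : x ∈ E := h.hx h.z_memE ▸ (γ _).2

theorem x_notMem : x ∉ Q := h.hx h.z_memE ▸ h.notMemQ h.hγ h.hγz

theorem x_memS : x ∈ S := h.hES h.x_memE

theorem comm : ∀ a ∈ E, ∀ b ∈ E, a * b = b * a := h.abelian h.hγ h.hγz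

theorem pow_p : ∀ a ∈ E, a ^ p = 1 := h.exponent h.hγ h.hγz

theorem mem_iff {a : Ω} : a ∈ E ↔ a ∈ S ∧ a * x = x * a := by
  refine ⟨fun ha => ⟨h.hES ha, h.comm a ha x h.x_memE⟩, fun ⟨ha, hax⟩ => ?_⟩
  obtain ⟨q, hq, i, rfl⟩ := fr.decompose h.x_memS h.x_notMem ha
  have hqx : q * x = x * q := by
    have h1 : q * x * x ^ i = x * q * x ^ i := by
      calc q * x * x ^ i = q * (x * x ^ i) := mul_assoc _ _ _
        _ = q * (x ^ i * x) := by rw [(Commute.self_pow x i).eq]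
        _ = x * q * x ^ i := by rw [← mul_assoc, hax]; group
    exact mul_right_cancel h1
  exact E.mul_mem (h.good q hq hqx) (E.pow_mem h.x_memE i)

theorem exists_ker {a : Ω} (haE : a ∈ E) (haQ : a ∈ Q) : (fr.symp h.x_memS).N (pr Q a) = 0 := by
  rw [fr.N_pr h.x_memS haQ, ← h.comm a haE x h.x_memE, mul_inv_cancel_right, mul_inv_cancel, pr_one]

/-- The image of `E ∩ Q` in the space. -/
noncomputable def U : Submodule (ZMod p) (Vt Q) :=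
  let _ := h
  AddSubgroup.toZModSubmodule p
  { carrier := {v | ∃ a ∈ E, a ∈ Q ∧ pr Q a = v}
    zero_mem' := ⟨1, E.one_mem, Q.one_mem, pr_one⟩
    add_mem' := by
      rintro _ _ ⟨a, ha, haQ, rfl⟩ ⟨b, hb, hbQ, rfl⟩
      exact ⟨a * b, E.mul_mem ha hb, Q.mul_mem haQ hbQ, pr_mul haQ hbQ⟩
    neg_mem' := by
      rintro _ ⟨a, ha, haQ, rfl⟩
      exact ⟨a⁻¹, E.inv_mem ha, Q.inv_mem haQ, pr_inv haQ⟩ }

theorem mem_U {a : Ω} (ha : a ∈ Q) : pr Q a ∈ h.U ↔ a ∈ E := by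
  refine ⟨fun ⟨b, hb, hbQ, he⟩ => ?_, fun hE => ⟨a, hE, ha, rfl⟩⟩
  obtain ⟨t, rfl⟩ := fr.pr_eq hbQ ha he
  exact E.mul_mem hb (h.zmem (fr.ez_mem t))

theorem U_le : h.U ≤ LinearMap.ker (fr.symp h.x_memS).N := by
  rintro _ ⟨a, ha, haQ, rfl⟩
  exact h.exists_ker ha haQ

theorem U_iso : ∀ a ∈ h.U, ∀ b ∈ h.U, fr.form a b = 0 := by
  rintro _ ⟨a, ha, haQ, rfl⟩ _ ⟨b, hb, hbQ, rfl⟩
  exact (fr.comm_iff haQ hbQ).1 (h.comm a ha b hb)

/-- The exponent modulo `Q` with respect to `x`. -/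
noncomputable def θ : Ω → ZMod p := (fr.exists_theta h.x_memS h.x_notMem).choose

theorem θ_mul {a b : Ω} (ha : a ∈ E) (hb : b ∈ E) : h.θ (a * b) = h.θ a + h.θ b :=
  (fr.exists_theta h.x_memS h.x_notMem).choose_spec.1 a (h.hES ha) b (h.hES hb)

theorem θ_iff {a : Ω} (ha : a ∈ E) : h.θ a = 0 ↔ a ∈ Q :=
  (fr.exists_theta h.x_memS h.x_notMem).choose_spec.2.1 a (h.hES ha)

theorem θ_x : h.θ x = 1 := (fr.exists_theta h.x_memS h.x_notMem).choose_spec.2.2.1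

/-- The second character. -/
noncomputable def ζ (a : E) : ZMod p :=
  h.θ ((γ⁻¹ a : E) : Ω) / h.θ ((γ⁻¹ ⟨z, h.z_memE⟩ : E) : Ω)

theorem ζ_mul (a b : E) : h.ζ (a * b) = h.ζ a + h.ζ b := by
  rw [ζ, map_mul, Subgroup.coe_mul, h.θ_mul (γ⁻¹ a).2 (γ⁻¹ b).2, add_div]
  rfl

theorem den_ne : h.θ ((γ⁻¹ ⟨z, h.z_memE⟩ : E) : Ω) ≠ 0 := by
  intro h0
  have hQ := (h.θ_iff (γ⁻¹ _).2).1 h0
  obtain ⟨k, hk⟩ := exists_pow fr.st fr.hz fr.hz1 (h.image_mem ((F.autGroup E).inv_mem h.hγ) hQ)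
  have e : γ⁻¹ ⟨z, h.z_memE⟩ = (⟨z, h.z_memE⟩ : E) ^ k := Subtype.ext hk
  have := congrArg (fun c => ((γ c : E) : Ω)) e
  simp only [MulAut.apply_inv_self, map_pow, Subgroup.coe_pow, h.hx] at this
  have hk0 : ¬ p ∣ k := by
    rintro ⟨c, rfl⟩
    rw [pow_mul, h.pow_p x h.x_memE, one_pow] at this
    exact fr.hz1 this
  exact fr.pow_notMem h.x_memS h.x_notMem hk0 (this ▸ fr.z_mem)

theorem ζ_z : h.ζ ⟨z, h.z_memE⟩ = 1 := div_self h.den_ne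

theorem ζ_iff (a : E) : h.ζ a = 0 ↔ ((γ⁻¹ a : E) : Ω) ∈ Q := by
  rw [ζ, div_eq_zero_iff, or_iff_left h.den_ne, h.θ_iff (γ⁻¹ a).2]

theorem ζ_x : h.ζ ⟨x, h.x_memE⟩ = 0 := by
  rw [h.ζ_iff, show (⟨x, h.x_memE⟩ : E) = γ ⟨z, h.z_memE⟩ from Subtype.ext (h.hx _).symm,
    MulAut.inv_apply_self]
  exact fr.z_mem

theorem ζ_one : h.ζ 1 = 0 := by
  have := h.ζ_mul 1 1
  rw [mul_one] at this
  exact left_eq_add.1 this

theorem ζ_pow (a : E) (n : ℕ) : h.ζ (a ^ n) = n * h.ζ a := by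
  induction n with
  | zero => rw [pow_zero, h.ζ_one, Nat.cast_zero, zero_mul]
  | succ n ih => rw [pow_succ, h.ζ_mul, ih]; push_cast; ring

theorem θ_pow {a : Ω} (ha : a ∈ E) (n : ℕ) : h.θ (a ^ n) = n * h.θ a :=
  fr.theta_pow (fr.exists_theta h.x_memS h.x_notMem).choose_spec.1 (h.hES ha) n

theorem middle_mem (a : E) : (a : Ω) * (x ^ (h.θ a).val)⁻¹ ∈ E :=
  E.mul_mem a.2 (E.inv_mem (E.pow_mem h.x_memE _))

theorem middle_memQ (a : E) : (a : Ω) * (x ^ (h.θ a).val)⁻¹ ∈ Q := by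
  obtain ⟨q, hq, he⟩ := (fr.exists_theta h.x_memS h.x_notMem).choose_spec.2.2.2 a (h.hES a.2)
  have : (a : Ω) * (x ^ (h.θ a).val)⁻¹ = q := mul_inv_eq_iff_eq_mul.2 he
  rw [this]
  exact hq

/-- The coordinates. -/
noncomputable def cd (a : E) : Triple.Sp p h.U :=
  (h.θ a, ⟨pr Q ((a : Ω) * (x ^ (h.θ a).val)⁻¹), _, h.middle_mem a, h.middle_memQ a, rfl⟩, h.ζ a)

theorem x_pow_congr {i j : ℕ} (hij : (i : ZMod p) = j) : x ^ i = x ^ j := by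
  rw [ZMod.natCast_eq_natCast_iff] at hij
  exact pow_eq_pow_iff_modEq.2 (hij.of_dvd (orderOf_dvd_of_pow_eq_one (h.pow_p x h.x_memE)))

theorem cd_mul (a b : E) : h.cd (a * b) = h.cd a + h.cd b := by
  refine Prod.ext (h.θ_mul a.2 b.2) (Prod.ext (Subtype.ext ?_) (h.ζ_mul a b))
  show pr Q _ = pr Q _ + pr Q _
  rw [← pr_mul (h.middle_memQ a) (h.middle_memQ b)]
  congr 1
  have hx : x ^ (h.θ (a * b : E)).val = x ^ (h.θ a).val * x ^ (h.θ b).val := by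
    rw [← pow_add]
    refine h.x_pow_congr ?_
    rw [Nat.cast_add, ZMod.natCast_zmod_val, ZMod.natCast_zmod_val, ZMod.natCast_zmod_val]
    exact h.θ_mul a.2 b.2
  rw [hx, Subgroup.coe_mul]
  have c1 : Commute (b : Ω) (x ^ (h.θ a).val)⁻¹ :=
    ((show Commute (b : Ω) x from h.comm b b.2 x h.x_memE).pow_right _).inv_right
  have c2 : Commute (x ^ (h.θ b).val)⁻¹ (x ^ (h.θ a).val)⁻¹ := ((Commute.refl x).pow_pow _ _).inv_inv
  calc (a : Ω) * b * (x ^ (h.θ a).val * x ^ (h.θ b).val)⁻¹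
      = a * b * ((x ^ (h.θ b).val)⁻¹ * (x ^ (h.θ a).val)⁻¹) := by rw [mul_inv_rev]
    _ = a * (b * (x ^ (h.θ a).val)⁻¹) * (x ^ (h.θ b).val)⁻¹ := by rw [c2.eq]; group
    _ = a * ((x ^ (h.θ a).val)⁻¹ * b) * (x ^ (h.θ b).val)⁻¹ := by rw [c1.eq]
    _ = a * (x ^ (h.θ a).val)⁻¹ * (b * (x ^ (h.θ b).val)⁻¹) := by group

theorem cd_bij : Function.Bijective h.cd := by
  constructor
  · intro a b hab
    have hinj : ∀ c : E, h.cd c = h.cd 1 → c = 1 := by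
      intro c hc
      have h1 : h.θ (c : Ω) = 0 := by
        have := congrArg Prod.fst hc
        rw [show (h.cd c).1 = h.θ (c : Ω) from rfl, show (h.cd 1).1 = h.θ (1 : Ω) from rfl,
          (h.θ_iff E.one_mem).2 Q.one_mem] at this
        exact this
      have h2 : pr Q (c : Ω) = 0 := by
        have := congrArg (fun v : Triple.Sp p h.U => (v.2.1 : Vt Q)) hc
        simpa [cd, h1, (h.θ_iff E.one_mem).2 Q.one_mem, pr_one] using this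
      have h3 : h.ζ c = 0 := (congrArg (fun v : Triple.Sp p h.U => v.2.2) hc).trans h.ζ_one
      obtain ⟨k, hk⟩ := exists_pow fr.st fr.hz fr.hz1 ((fr.pr_eq_zero ((h.θ_iff c.2).1 h1)).1 h2)
      have hc' : c = (⟨z, h.z_memE⟩ : E) ^ k := Subtype.ext hk
      rw [hc', h.ζ_pow, h.ζ_z, mul_one, ZMod.natCast_eq_zero_iff] at h3
      obtain ⟨m, rfl⟩ := h3
      rw [hc']
      exact Subtype.ext (by rw [Subgroup.coe_pow, pow_mul, fr.z_pow, one_pow]; rfl)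
    have e : h.cd (a * b⁻¹) = h.cd 1 := by
      have h1 := h.cd_mul (a * b⁻¹) b
      rw [inv_mul_cancel_right, hab] at h1
      have h2 := h.cd_mul 1 b
      rw [one_mul] at h2
      exact add_right_cancel (h1.symm.trans h2)
    exact mul_inv_eq_one.1 (hinj _ e)
  · intro v
    obtain ⟨a, haE, haQ, ha⟩ := v.2.1.2
    set k := (v.2.2 - h.ζ ⟨a, haE⟩).val with hk
    refine ⟨⟨a, haE⟩ * ⟨z, h.z_memE⟩ ^ k * ⟨x, h.x_memE⟩ ^ v.1.val, ?_⟩
    have hθ : h.θ ((⟨a, haE⟩ * ⟨z, h.z_memE⟩ ^ k * ⟨x, h.x_memE⟩ ^ v.1.val : E) : Ω) = v.1 := by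
      simp only [Subgroup.coe_mul, Subgroup.coe_pow]
      rw [h.θ_mul (E.mul_mem haE (E.pow_mem h.z_memE k)) (E.pow_mem h.x_memE _),
        (h.θ_iff (E.mul_mem haE (E.pow_mem h.z_memE k))).2 (Q.mul_mem haQ (Q.pow_mem fr.z_mem k)),
        h.θ_pow h.x_memE, h.θ_x, zero_add, mul_one, ZMod.natCast_zmod_val]
    refine Prod.ext hθ (Prod.ext (Subtype.ext ?_) ?_)
    · show pr Q _ = _
      rw [hθ]
      simp only [Subgroup.coe_mul, Subgroup.coe_pow]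
      rw [mul_inv_cancel_right, pr_mul haQ (Q.pow_mem fr.z_mem k), pr_pow fr.z_mem, fr.pr_z,
        smul_zero, add_zero, ha]
    · show h.ζ _ = _
      rw [h.ζ_mul, h.ζ_mul, h.ζ_pow, h.ζ_pow, h.ζ_z, h.ζ_x, hk, ZMod.natCast_zmod_val]
      ring

/-- The coordinates as an equivalence. -/
noncomputable def cdEquiv : E ≃ Triple.Sp p h.U := Equiv.ofBijective _ h.cd_bij

theorem cd_symm_add (v w : Triple.Sp p h.U) :
    h.cdEquiv.symm (v + w) = h.cdEquiv.symm v * h.cdEquiv.symm w :=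
  h.cd_bij.1 (by
    rw [h.cd_mul]
    show h.cdEquiv _ = h.cdEquiv _ + h.cdEquiv _
    rw [Equiv.apply_symm_apply, Equiv.apply_symm_apply, Equiv.apply_symm_apply])

/-- An automorphism, in coordinates. -/
noncomputable def act : MulAut E →* (Triple.Sp p h.U ≃ₗ[ZMod p] Triple.Sp p h.U) where
  toFun β :=
    LinearEquiv.ofBijective (AddMonoidHom.toZModLinearMap p (AddMonoidHom.mk'
        (fun v => h.cd (β (h.cdEquiv.symm v))) fun v w => by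
          rw [h.cd_symm_add, map_mul, h.cd_mul]))
      (h.cd_bij.comp (β.bijective.comp h.cdEquiv.symm.bijective))
  map_one' := LinearEquiv.ext fun v => h.cdEquiv.apply_symm_apply v
  map_mul' α β := LinearEquiv.ext fun v => by
    show h.cd ((α * β) _) = h.cd (α (h.cdEquiv.symm (h.cdEquiv (β _))))
    rw [Equiv.symm_apply_apply]
    rfl

theorem act_apply (β : MulAut E) (a : E) : h.act β (h.cd a) = h.cd (β a) := by
  show h.cd (β (h.cdEquiv.symm (h.cdEquiv a))) = _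
  rw [Equiv.symm_apply_apply]

theorem cd_z : h.cd ⟨z, h.z_memE⟩ = (0, 0, 1) := by
  have hθ : h.θ z = 0 := (h.θ_iff h.z_memE).2 fr.z_mem
  refine Prod.ext hθ (Prod.ext (Subtype.ext ?_) h.ζ_z)
  show pr Q _ = 0
  simp only [hθ, ZMod.val_zero, pow_zero, inv_one, mul_one, fr.pr_z]

theorem cd_x : h.cd ⟨x, h.x_memE⟩ = (1, 0, 0) := by
  refine Prod.ext h.θ_x (Prod.ext (Subtype.ext ?_) h.ζ_x)
  show pr Q _ = 0
  simp only [h.θ_x, ZMod.val_one, pow_one, mul_inv_cancel, pr_one]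

theorem cd_Q (a : E) (ha : (a : Ω) ∈ Q) : (h.cd a).1 = 0 ∧ ((h.cd a).2.1 : Vt Q) = pr Q (a : Ω) := by
  have hθ : h.θ (a : Ω) = 0 := (h.θ_iff a.2).2 ha
  refine ⟨hθ, ?_⟩
  show pr Q _ = _
  simp only [hθ, ZMod.val_zero, pow_zero, inv_one, mul_one]

/-- Conjugating `x` by an element of `Q`. -/
theorem conj_mem_iff {q : Ω} (hq : q ∈ Q) :
    q * x * q⁻¹ ∈ E ↔ (fr.symp h.x_memS).N (pr Q q) ∈ h.U := by
  rw [fr.N_pr h.x_memS hq, h.mem_U (fr.comm_memQ h.x_memS hq)]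
  have e : x * q * x⁻¹ * q⁻¹ = x * (q * x * q⁻¹)⁻¹ := by group
  rw [e, E.mul_mem_cancel_left h.x_memE, inv_mem_iff]

theorem conj_normalize {q : Ω} (hq : q ∈ Q) (hN : (fr.symp h.x_memS).N (pr Q q) ∈ h.U) :
    q ∈ Subgroup.normalizer (E : Set Ω) := by
  haveI := h.finE
  refine Subgroup.mem_normalizer_fintype fun e he => ?_
  obtain ⟨e₁, he₁, hq₁, i, rfl⟩ := h.decomposeE h.x_memE h.x_notMem he
  rw [show q * (e₁ * x ^ i) * q⁻¹ = (q * e₁ * q⁻¹ * e₁⁻¹) * e₁ * (q * x * q⁻¹) ^ i by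
    rw [conj_pow]; group]
  exact E.mul_mem (E.mul_mem (h.zmem (commutator_mem fr.st hq hq₁)) he₁)
    (E.pow_mem ((h.conj_mem_iff hq).2 hN) i)

/-- Only `Q ∩ E` conjugates `x` into the image of `E ∩ Q`. -/
theorem star {q : Ω} (hq : q ∈ Q) (hqx : q * x * q⁻¹ ∈ E) (h0 : h.ζ ⟨q * x * q⁻¹, hqx⟩ = 0) :
    q ∈ E := by
  have hn := h.conj_normalize hq ((h.conj_mem_iff hq).1 hqx)
  set κ : MulAut E := E.normalizerMonoidHom ⟨q, hn⟩ with hκ
  have hκm : κ ∈ F.autGroup E :=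
    autInducedBy_le_autGroup h.hES (mem_autInducedBy_iff.2 ⟨q, fr.memS hq, fun _ => rfl⟩)
  have e1 : (γ⁻¹ * κ * γ) ⟨z, h.z_memE⟩ = γ⁻¹ ⟨q * x * q⁻¹, hqx⟩ := by
    rw [MulAut.mul_apply, MulAut.mul_apply]
    congr 1
    refine Subtype.ext ?_
    show q * ((γ ⟨z, h.z_memE⟩ : E) : Ω) * q⁻¹ = _
    rw [h.hx]
  have hm : γ⁻¹ * κ * γ ∈ F.autGroup E :=
    (F.autGroup E).mul_mem ((F.autGroup E).mul_mem ((F.autGroup E).inv_mem h.hγ) hκm) h.hγ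
  have h2 := h.image_mem hm (by rw [e1]; exact (h.ζ_iff _).1 h0)
  rw [e1] at h2
  obtain ⟨k, hk⟩ := exists_pow fr.st fr.hz fr.hz1 h2
  have e2 : (⟨q * x * q⁻¹, hqx⟩ : E) = ⟨x, h.x_memE⟩ ^ k := by
    rw [← MulAut.apply_inv_self E γ ⟨q * x * q⁻¹, hqx⟩,
      show γ⁻¹ (⟨q * x * q⁻¹, hqx⟩ : E) = (⟨z, h.z_memE⟩ : E) ^ k from Subtype.ext hk, map_pow]
    congr 1
    exact Subtype.ext (h.hx _)
  have e3 : q * x * q⁻¹ = x ^ k := congrArg Subtype.val e2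
  have hk1 : ((1 : ℕ) : ZMod p) = k := by
    have := congrArg h.θ e3
    have hcm : q * x * q⁻¹ * x⁻¹ ∈ E := E.mul_mem hqx (E.inv_mem h.x_memE)
    have hcQ : q * x * q⁻¹ * x⁻¹ ∈ Q := comm_mem_Q_of fr (fr.memS hq) h.x_memS
    rw [show q * x * q⁻¹ = (q * x * q⁻¹ * x⁻¹) * x by group, h.θ_mul hcm h.x_memE,
      (h.θ_iff hcm).2 hcQ, h.θ_pow h.x_memE, h.θ_x, mul_one, zero_add] at this
    rw [Nat.cast_one]
    exact this
  refine h.good q hq ?_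
  rw [← h.x_pow_congr hk1, pow_one, mul_inv_eq_iff_eq_mul] at e3
  exact e3

open Classical in
/-- The quadratic function. -/
noncomputable def f (v : Vt Q) : ZMod p :=
  if hv : lift v * x * (lift v)⁻¹ ∈ E then h.ζ ⟨_, hv⟩ else 0

theorem f_eq {q : Ω} (hq : q ∈ Q) (hqx : q * x * q⁻¹ ∈ E) :
    h.f (pr Q q) = h.ζ ⟨q * x * q⁻¹, hqx⟩ := by
  have e : lift (pr Q q) * x * (lift (pr Q q))⁻¹ = q * x * q⁻¹ := by
    obtain ⟨t, ht⟩ := fr.pr_eq hq (lift_mem (pr Q q)) (pr_lift _).symm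
    rw [ht, mul_assoc q, ← fr.ez_comm h.x_memS, ← mul_assoc q]
    group
  rw [f, dif_pos (by rw [e]; exact hqx)]
  congr 1
  exact Subtype.ext e

theorem conj_split {q c : Ω} (hq : q ∈ Q) (hc : c ∈ E) (hcQ : c ∈ Q) :
    q * c * q⁻¹ = ez p z (fr.form (pr Q q) (pr Q c)) * c := by
  rw [fr.mul_swap hq hcQ, mul_inv_cancel_right]

theorem ζ_ez (t : ZMod p) : h.ζ ⟨ez p z t, h.zmem (fr.ez_mem t)⟩ = t := by
  rw [show (⟨ez p z t, h.zmem (fr.ez_mem t)⟩ : E) = ⟨z, h.z_memE⟩ ^ t.val from rfl, h.ζ_pow, h.ζ_z,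
    mul_one, ZMod.natCast_zmod_val]

theorem d_pr {q : Ω} (hq : q ∈ Q) (hN : (fr.symp h.x_memS).N (pr Q q) ∈ h.U) :
    x⁻¹ * (q * x * q⁻¹) ∈ E ∧ x⁻¹ * (q * x * q⁻¹) ∈ Q ∧
      pr Q (x⁻¹ * (q * x * q⁻¹)) = -((fr.symp h.x_memS).N (pr Q q)) := by
  have hE : x⁻¹ * (q * x * q⁻¹) ∈ E := E.mul_mem (E.inv_mem h.x_memE) ((h.conj_mem_iff hq).2 hN)
  have hQ : x⁻¹ * (q * x * q⁻¹) ∈ Q := by
    rw [show x⁻¹ * (q * x * q⁻¹) = (x⁻¹ * q * x) * q⁻¹ by group]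
    refine Q.mul_mem ?_ (Q.inv_mem hq)
    simpa using fr.conj_memQ (S.inv_mem h.x_memS) hq
  refine ⟨hE, hQ, ?_⟩
  have hd := h.exists_ker hE hQ
  rw [fr.N_pr h.x_memS hQ] at hd
  set d := x⁻¹ * (q * x * q⁻¹) with hdd
  have e : x * q * x⁻¹ * q⁻¹ = (x * d * x⁻¹)⁻¹ := by rw [hdd]; group
  rw [fr.N_pr h.x_memS hq, e, ← h.comm d hE x h.x_memE, mul_inv_cancel_right, pr_inv hQ, neg_neg]

theorem f_add (a b : Vt Q) (ha : (fr.symp h.x_memS).N a ∈ h.U) (hb : (fr.symp h.x_memS).N b ∈ h.U) :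
    h.f (a + b) = h.f a + h.f b - fr.form a ((fr.symp h.x_memS).N b) := by
  obtain ⟨q₁, hq₁, rfl⟩ := exists_pr a
  obtain ⟨q₂, hq₂, rfl⟩ := exists_pr b
  obtain ⟨hdE, hdQ, hd⟩ := h.d_pr hq₂ hb
  have hE1 := (h.conj_mem_iff hq₁).2 ha
  have hE2 := (h.conj_mem_iff hq₂).2 hb
  set d := x⁻¹ * (q₂ * x * q₂⁻¹) with hdd
  set c := ez p z (fr.form (pr Q q₁) (pr Q d)) with hc
  have hcE : c ∈ E := h.zmem (fr.ez_mem _)
  have e : q₁ * q₂ * x * (q₁ * q₂)⁻¹ = q₁ * x * q₁⁻¹ * (c * d) := by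
    rw [← h.conj_split hq₁ hdE hdQ, hdd]
    group
  have hmem : q₁ * q₂ * x * (q₁ * q₂)⁻¹ ∈ E := by
    rw [e]; exact E.mul_mem hE1 (E.mul_mem hcE hdE)
  rw [← pr_mul hq₁ hq₂, h.f_eq (Q.mul_mem hq₁ hq₂) hmem, h.f_eq hq₁ hE1, h.f_eq hq₂ hE2,
    show (⟨_, hmem⟩ : E) = ⟨_, hE1⟩ * (⟨c, hcE⟩ * ⟨d, hdE⟩) from Subtype.ext e, h.ζ_mul, h.ζ_mul,
    show h.ζ ⟨c, hcE⟩ = fr.form (pr Q q₁) (pr Q d) from h.ζ_ez _,
    show (⟨q₂ * x * q₂⁻¹, hE2⟩ : E) = ⟨x, h.x_memE⟩ * ⟨d, hdE⟩ from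
      Subtype.ext (show q₂ * x * q₂⁻¹ = x * d by rw [hdd, mul_inv_cancel_left]), h.ζ_mul, h.ζ_x, hd, map_neg]
  ring

theorem f_U : ∀ a ∈ h.U, h.f a = 0 := by
  rintro _ ⟨a, ha, haQ, rfl⟩
  have e : a * x * a⁻¹ = x := by rw [h.comm a ha x h.x_memE, mul_inv_cancel_right]
  rw [h.f_eq haQ (by rw [e]; exact h.x_memE)]
  exact (congrArg h.ζ (Subtype.ext e)).trans h.ζ_x

theorem f_zero (a : Vt Q) (ha : (fr.symp h.x_memS).N a ∈ h.U) (h0 : h.f a = 0) : a ∈ h.U := by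
  obtain ⟨q, hq, rfl⟩ := exists_pr a
  rw [h.f_eq hq ((h.conj_mem_iff hq).2 ha)] at h0
  exact (h.mem_U hq).2 (h.star hq _ h0)

/-- The automorphism induced by `q`, in coordinates. -/
theorem act_conj {q : Ω} (hq : q ∈ Q) (hN : (fr.symp h.x_memS).N (pr Q q) ∈ h.U) :
    ∃ κ ∈ autInducedBy S E, (∀ e : E, ((κ e : E) : Ω) = q * e * q⁻¹) ∧
      ∀ v : Triple.Sp p h.U, h.act κ v =
        (v.1, v.2.1 + v.1 • ⟨-((fr.symp h.x_memS).N (pr Q q)), h.U.neg_mem hN⟩,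
          v.2.2 + fr.form (pr Q q) v.2.1 + v.1 * h.f (pr Q q)) := by
  have hn := h.conj_normalize hq hN
  set κ : MulAut E := E.normalizerMonoidHom ⟨q, hn⟩ with hκ
  refine ⟨κ, mem_autInducedBy_iff.2 ⟨q, fr.memS hq, fun _ => rfl⟩, fun e => rfl, fun v => ?_⟩
  obtain ⟨e, rfl⟩ := h.cd_bij.2 v
  rw [h.act_apply]
  obtain ⟨hdE, hdQ, hd⟩ := h.d_pr hq hN
  set i := (h.θ (e : Ω)).val with hi
  set e₀ : E := ⟨_, h.middle_mem e⟩ with he₀
  have hsplit : e = e₀ * ⟨x, h.x_memE⟩ ^ i := Subtype.ext (by simp [he₀, hi])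
  have hqx := (h.conj_mem_iff hq).2 hN
  have himg : κ e = ⟨ez p z (fr.form (pr Q q) (pr Q (e₀ : Ω))), h.zmem (fr.ez_mem _)⟩ * e₀ *
      (⟨x, h.x_memE⟩ * ⟨_, hdE⟩) ^ i := by
    conv_lhs => rw [hsplit, map_mul, map_pow]
    congr 1
    · exact Subtype.ext (h.conj_split hq e₀.2 (h.middle_memQ e))
    · congr 1
      refine Subtype.ext ?_
      show q * x * q⁻¹ = x * (x⁻¹ * (q * x * q⁻¹))
      rw [mul_inv_cancel_left]
  have hpow : ∀ (a : E) (n : ℕ), h.cd (a ^ n) = (n : ZMod p) • h.cd a := by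
    intro a n
    induction n with
    | zero =>
      rw [pow_zero, Nat.cast_zero, zero_smul]
      have := h.cd_mul 1 1
      rw [one_mul] at this
      exact left_eq_add.1 this
    | succ n ih => rw [pow_succ, h.cd_mul, ih, Nat.cast_succ, add_smul, one_smul]
  have he0 := h.cd_Q e₀ (h.middle_memQ e)
  have hfq : h.f (pr Q q) = h.ζ ⟨_, hdE⟩ := by
    rw [h.f_eq hq hqx, show (⟨q * x * q⁻¹, hqx⟩ : E) = ⟨x, h.x_memE⟩ * ⟨_, hdE⟩ from
      Subtype.ext (mul_inv_cancel_left x _).symm, h.ζ_mul, h.ζ_x, zero_add]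
  have hcd_c : h.cd ⟨ez p z (fr.form (pr Q q) (pr Q (e₀ : Ω))), h.zmem (fr.ez_mem _)⟩ =
      (0, 0, fr.form (pr Q q) (pr Q (e₀ : Ω))) := by
    obtain ⟨h1, h2⟩ := h.cd_Q ⟨ez p z (fr.form (pr Q q) (pr Q (e₀ : Ω))), h.zmem (fr.ez_mem _)⟩
      (fr.ez_memQ _)
    refine Prod.ext h1 (Prod.ext (Subtype.ext (h2.trans ?_)) (h.ζ_ez _))
    exact fr.pr_ez _
  have hcd_d : h.cd ⟨_, hdE⟩ = (0, ⟨-((fr.symp h.x_memS).N (pr Q q)), h.U.neg_mem hN⟩, h.f (pr Q q)) := by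
    obtain ⟨h1, h2⟩ := h.cd_Q ⟨_, hdE⟩ hdQ
    exact Prod.ext h1 (Prod.ext (Subtype.ext (h2.trans hd)) hfq.symm)
  have hmid : (h.cd e).2.1 = (h.cd e₀).2.1 := Subtype.ext he0.2.symm
  have hform : fr.form (pr Q q) (pr Q (e₀ : Ω)) = fr.form (pr Q q) ((h.cd e).2.1 : Vt Q) := rfl
  rw [himg, h.cd_mul, h.cd_mul, hcd_c, hpow, h.cd_mul, h.cd_x, hcd_d, hi, ZMod.natCast_zmod_val, hform]
  have hθe : (h.cd e).1 = h.θ (e : Ω) := rfl
  have hζe : (h.cd e).2.2 = h.ζ e := rfl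
  have hζ' : h.ζ e = h.ζ e₀ := by rw [hsplit, h.ζ_mul, h.ζ_pow, h.ζ_x, mul_zero, add_zero]
  have hζ0 : (h.cd e₀).2.2 = h.ζ e₀ := rfl
  refine Prod.ext ?_ (Prod.ext ?_ ?_)
  · simp [he0.1, hθe]
  · simp [hmid, hθe]
  · simp [hθe, hζe, hζ', hζ0]
    ring

/-- The alternatives. -/
theorem alternatives :
    (h.U = ⊥ ∧ finrank (ZMod p) (LinearMap.ker (fr.symp h.x_memS).N) = 1) ∨
      (h.U = LinearMap.ker (fr.symp h.x_memS).N ∧
        (finrank (ZMod p) (LinearMap.ker (fr.symp h.x_memS).N) = 1 ∨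
          (finrank (ZMod p) (Vt Q) = 4 ∧
            LinearMap.range (fr.symp h.x_memS).N = LinearMap.ker (fr.symp h.x_memS).N ∧
            finrank (ZMod p) (LinearMap.ker (fr.symp h.x_memS).N) = 2 ∧
            (∀ a, fr.form a ((fr.symp h.x_memS).N a) = 0 → (fr.symp h.x_memS).N a = 0) ∧
            ∀ a, 2 * h.f a = -fr.form a ((fr.symp h.x_memS).N a)))) := by
  haveI := fr.finite_Vt
  haveI : Nontrivial (Vt Q) := Module.nontrivial_of_finrank_pos (R := ZMod p) (by have := fr.four_le; omega)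
  exact (fr.symp h.x_memS).dichotomy fr.hp (fr.N_ne_zero h.x_memS h.x_notMem) h.U h.U_le h.U_iso h.f
    h.f_add h.f_U h.f_zero

/-- The linear data when `U` is the whole kernel and lifts through `N`. -/
theorem exists_triple (hU : h.U = LinearMap.ker (fr.symp h.x_memS).N) :
    ∃ D : Triple.Data p h.U, D.G = (F.autGroup E).map h.act ∧
      (∀ t : h.U, ∃ v, (fr.symp h.x_memS).N v = -(t : Vt Q) ∧ D.φ t = h.f v ∧
        ∀ u : h.U, D.β t u = fr.form v u) := by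
  classical
  haveI := fr.finite_Vt
  set d := fr.symp h.x_memS with hd
  have hker_range : LinearMap.ker d.N ≤ LinearMap.range d.N := by
    intro u hu
    rw [d.range_eq]
    exact fun a ha => h.U_iso a (hU ▸ ha) u (hU ▸ hu)
  obtain ⟨σ, hσ⟩ := d.N.rangeRestrict.exists_rightInverse_of_surjective d.N.range_rangeRestrict
  let τ : h.U →ₗ[ZMod p] Vt Q := -(σ.comp (Submodule.inclusion (hU.le.trans hker_range)))
  have hτ : ∀ t : h.U, d.N (τ t) = -(t : Vt Q) := fun t => by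
    show d.N (-(σ (Submodule.inclusion _ t))) = _
    rw [map_neg]
    exact congrArg Neg.neg (congrArg Subtype.val (LinearMap.congr_fun hσ _))
  have hmem : ∀ t : h.U, d.N (τ t) ∈ h.U := fun t => by rw [hτ]; exact h.U.neg_mem t.2
  have hconj : ∀ t : h.U, ∃ κ ∈ F.autGroup E, ∀ v : Triple.Sp p h.U, h.act κ v =
      (v.1, v.2.1 + v.1 • t, v.2.2 + fr.form (τ t) v.2.1 + v.1 * h.f (τ t)) := by
    intro t
    obtain ⟨κ, hκ, -, hκv⟩ := h.act_conj (lift_mem (τ t)) (by rw [pr_lift]; exact hmem t)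
    refine ⟨κ, autInducedBy_le_autGroup h.hES hκ, fun v => ?_⟩
    rw [hκv v]
    refine Prod.ext rfl (Prod.ext ?_ ?_)
    · show _ + _ = _ + _
      congr 2
      exact Subtype.ext (by show -(d.N (pr Q (lift (τ t)))) = _; rw [pr_lift, hτ, neg_neg])
    · simp only [pr_lift]
  choose κ hκG hκv using hconj
  refine ⟨{ G := (F.autGroup E).map h.act
            β := fr.form.compl₁₂ τ h.U.subtype
            φ := fun t => h.f (τ t)
            a := fun t => h.act (κ t)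
            g := h.act γ
            symm := fun s t => ?_, φ_add := fun s t => ?_, φ_zero := fun s hs => ?_
            a_mem := fun t => ⟨κ t, hκG t, rfl⟩
            a_apply := fun t v => hκv t v
            g_mem := ⟨γ, h.hγ, rfl⟩
            g_z := ?_, g_hyp := fun v => ?_, noB := ?_ }, rfl, fun t => ⟨τ t, hτ t, rfl, fun u => rfl⟩⟩
  · show fr.form (τ s) (t : Vt Q) = fr.form (τ t) (s : Vt Q)
    have h1 := d.beta_symm (a := τ s) (b := τ t) (by rw [hτ, map_neg]; simpa using hU.le t.2)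
    rw [hτ, hτ, map_neg, map_neg, neg_inj] at h1
    exact h1
  · show h.f (τ (s + t)) = h.f (τ s) + h.f (τ t) + fr.form (τ s) (t : Vt Q)
    rw [map_add, h.f_add _ _ (hmem s) (hmem t), hτ t, map_neg, sub_neg_eq_add]
  · have h1 := h.f_zero _ (hmem s) hs
    have h2 : d.N (τ s) = 0 := hU.le h1
    rw [hτ, neg_eq_zero] at h2
    exact Subtype.ext h2
  · rw [← h.cd_z, h.act_apply, show γ ⟨z, h.z_memE⟩ = ⟨x, h.x_memE⟩ from Subtype.ext (h.hx _), h.cd_x]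
  · obtain ⟨e, rfl⟩ := h.cd_bij.2 v
    rw [h.act_apply]
    show h.ζ (γ e) = 0 ↔ h.θ (e : Ω) = 0
    rw [h.ζ_iff, MulAut.inv_apply_self, h.θ_iff e.2]
  · rintro _ ⟨β, hβ, rfl⟩ h1
    rw [← h.cd_z, h.act_apply] at h1 ⊢
    have hQ : ((β ⟨z, h.z_memE⟩ : E) : Ω) ∈ Q := (h.θ_iff (β _).2).1 h1
    refine Subtype.ext ?_
    rw [(h.cd_Q _ hQ).2, (fr.pr_eq_zero hQ).2 (h.image_mem hβ hQ)]
    rfl

end GData

end CfsgLib.Fusion.ESReduce
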