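import Cfsg.Agent.Lib.Fusion.ESReduce.Maps

/-!
The hypothesis of the pearl case: an essential subgroup `⟨x⟩ × Z(Q)` with `x` outside `Q` of order
`p`, conjugate into the centre, acting on `Q / Z(Q)` with a single block.
-/

set_option autoImplicit false
set_option linter.unusedVariables false

universe u

namespace CfsgLib.Fusion.ESReduce

open Cfsg Cfsg.FusionSystem Subgroup CfsgLib.Fusion.ESIndex Module

variable {Ω : Type u} [Group Ω] {S Q : Subgroup Ω} {p : ℕ} {z : Ω}

/-- The pearl situation. -/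
structure PearlData [Fact p.Prime] [Finite S] [Module (ZMod p) (Vt Q)] (fr : Frame p S Q z)
    (F : FusionSystem S) (x : Ω) : Prop where
  hF : F.IsSaturated p
  hx : x ∈ S
  hxQ : x ∉ Q
  hxp : x ^ p = 1
  hnB : ¬ CaseB fr F
  hker : finrank (ZMod p) (LinearMap.ker (fr.symp hx).N) = 1
  hess : F.IsEssential p (Subgroup.zpowers x ⊔ zQ Q)
  hconj : ∃ f, IsMap F (Subgroup.zpowers x) f ∧ f x ∈ zQ Q

end CfsgLib.Fusion.ESReduce
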