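import Cfsg.Agent.Lib.Fusion.ESReduce.Coord
import Cfsg.Agent.Lib.Fusion.ESReduce.Build
import Cfsg.Agent.Lib.Fusion.ESReduce.PearlDef

/-!
Outside the first case: either the pearl situation, or two blocks with an anisotropic form.
-/

set_option autoImplicit false
set_option linter.style.haveILetI false
set_option linter.unusedVariables false
set_option linter.unusedSectionVars false

universe u

namespace CfsgLib.Fusion.ESReduce

open Cfsg Cfsg.FusionSystem Subgroup CfsgLib.Fusion.ESIndex Module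
open scoped commutatorElement

variable {Ω : Type u} [Group Ω] {S Q : Subgroup Ω} {p : ℕ} {z : Ω} {F : FusionSystem S}

namespace GData

variable [Fact p.Prime] [Finite S] [Module (ZMod p) (Vt Q)] {fr : Frame p S Q z} {E : Subgroup Ω}
  {γ : MulAut E} {x : Ω} (h : GData fr F E γ x)

include h

theorem pearlData (hU : h.U = ⊥)
    (h1 : finrank (ZMod p) (LinearMap.ker (fr.symp h.x_memS).N) = 1) : PearlData fr F x := by
  have hEeq : E = Subgroup.zpowers x ⊔ zQ Q := by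
    refine le_antisymm (fun a ha => ?_)
      (sup_le (Subgroup.zpowers_le.2 h.x_memE) fun a ha => h.zmem ha)
    obtain ⟨e, he, heQ, i, rfl⟩ := h.decomposeE h.x_memE h.x_notMem ha
    have hpe : pr Q e ∈ h.U := (h.mem_U heQ).2 he
    rw [hU, Submodule.mem_bot, fr.pr_eq_zero heQ] at hpe
    exact Subgroup.mul_mem _ (Subgroup.mem_sup_right hpe)
      (Subgroup.mem_sup_left (Subgroup.pow_mem _ (Subgroup.mem_zpowers x) i))
  refine ⟨h.hF, h.x_memS, h.x_notMem, h.pow_p x h.x_memE, h.hB, h1, hEeq ▸ h.hE, _,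
    (isMap_of_autGroup h.hES ((F.autGroup E).inv_mem h.hγ)).mono (Subgroup.zpowers_le.2 h.x_memE), ?_⟩
  rw [toFun_aut_apply _ h.x_memE,
    show (⟨x, h.x_memE⟩ : E) = γ ⟨z, h.z_memE⟩ from Subtype.ext (h.hx _).symm, MulAut.inv_apply_self]
  exact fr.hz

theorem false_of_line (hU : h.U = LinearMap.ker (fr.symp h.x_memS).N)
    (h1 : finrank (ZMod p) (LinearMap.ker (fr.symp h.x_memS).N) = 1) : False := by
  haveI := fr.finite_Vt
  obtain ⟨D, -, hD⟩ := h.exists_triple hU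
  set d := fr.symp h.x_memS with hd
  have hUd : finrank (ZMod p) h.U = 1 := by rw [hU, h1]
  refine D.false_of_zero fr.hp hUd (LinearMap.ext fun t => LinearMap.ext fun u => ?_)
  obtain ⟨v, hv, -, hβ⟩ := hD t
  rw [hβ, LinearMap.zero_apply, LinearMap.zero_apply]
  refine d.ker_perp h1 (i := 2) (j := 1) (by have := fr.four_le; omega) ?_ ?_
  · rw [pow_two, Module.End.mul_apply, hv, map_neg, neg_eq_zero]
    exact hU.le t.2
  · rw [pow_one]
    exact hU.le u.2

theorem elliptic (hU : h.U = LinearMap.ker (fr.symp h.x_memS).N)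
    (h4 : finrank (ZMod p) (Vt Q) = 4)
    (hRK : LinearMap.range (fr.symp h.x_memS).N = LinearMap.ker (fr.symp h.x_memS).N)
    (h2 : finrank (ZMod p) (LinearMap.ker (fr.symp h.x_memS).N) = 2)
    (hani : ∀ a, fr.form a ((fr.symp h.x_memS).N a) = 0 → (fr.symp h.x_memS).N a = 0) :
    ∃ ε : ℤ, IsTwoBlock p ε S ∧ (ε : ZMod p) ≠ 0 ∧ ¬ IsSquare (-(ε : ZMod p)) := by
  haveI := fr.finite_Vt
  haveI := fr.finQ
  haveI := h.finE
  set d := fr.symp h.x_memS with hd
  obtain ⟨D, hDG, hD⟩ := h.exists_triple hU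
  have hU2 : finrank (ZMod p) h.U = 2 := by rw [hU, h2]
  obtain ⟨hh, hhG, c, hc, hhz, hhx, hhu⟩ := D.exists_minus fr.hp (by omega)
  rw [hDG] at hhG
  obtain ⟨η, hη, rfl⟩ := hhG
  have hmemU : ∀ v, d.N v ∈ h.U := fun v => hU.ge (hRK.le (LinearMap.mem_range_self _ v))
  have hNN : ∀ v, d.N (d.N v) = 0 := fun v => hU.le (hmemU v)
  -- the automorphism of `E` in coordinates
  have hhv : ∀ v : Triple.Sp p h.U, h.act η v = (c⁻¹ * v.1, -v.2.1, c * v.2.2) := by
    intro v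
    have e : v = v.1 • (1, 0, 0) + ((0 : ZMod p), v.2.1, (0 : ZMod p)) + v.2.2 • (0, 0, 1) := by
      ext <;> simp
    rw [e, map_add, map_add, map_smul, map_smul, hhx, hhz, hhu]
    ext <;> simp [mul_comm]
  let R : Subgroup (MulAut E) :=
    { carrier := {r | h.act r (0, 0, 1) = (0, 0, 1) ∧ ∀ v : Triple.Sp p h.U,
        (h.act r v).1 = v.1 ∧ (v.1 = 0 → (h.act r v).2.1 = v.2.1)}
      one_mem' := by simp
      mul_mem' := by
        rintro r s ⟨hr, hr'⟩ ⟨hs, hs'⟩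
        refine ⟨by rw [map_mul, LinearEquiv.mul_apply, hs, hr], fun v => ?_⟩
        rw [map_mul, LinearEquiv.mul_apply, (hr' _).1, (hs' v).1]
        exact ⟨rfl, fun h0 => by rw [(hr' _).2 (by rw [(hs' v).1, h0]), (hs' v).2 h0]⟩
      inv_mem' := by
        rintro r ⟨hr, hr'⟩
        have hinv : ∀ v, h.act r (h.act r⁻¹ v) = v := fun v => by
          rw [← LinearEquiv.mul_apply, ← map_mul, mul_inv_cancel, map_one]; rfl
        refine ⟨?_, fun v => ?_⟩
        · exact (h.act r).injective (by rw [hinv, hr])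
        · have h1 := (hr' (h.act r⁻¹ v)).1
          rw [hinv] at h1
          refine ⟨h1.symm, fun h0 => ?_⟩
          have h3 := (hr' (h.act r⁻¹ v)).2 (h1.symm.trans h0)
          rw [hinv] at h3
          exact h3.symm }
  have hT : autInducedBy S E ≤ R := by
    intro r hr
    obtain ⟨a, ha, har⟩ := mem_autInducedBy_iff.1 hr
    obtain ⟨q, hq, i, rfl⟩ := fr.decompose h.x_memS h.x_notMem ha
    obtain ⟨κ, -, hκ, hκv⟩ := h.act_conj hq (hmemU _)
    have hrκ : r = κ := MulEquiv.ext fun e => Subtype.ext (by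
      rw [har, hκ]
      have hc' : Commute (x ^ i) (e : Ω) :=
        (show Commute x (e : Ω) from h.comm x h.x_memE e e.2).pow_left i
      rw [mul_inv_rev, mul_assoc q, hc'.eq]
      group)
    refine hrκ ▸ ⟨?_, fun v => ⟨?_, fun h0 => ?_⟩⟩
    · rw [hκv]; simp
    · rw [hκv]
    · rw [hκv]; simp [h0]
  have hn : ∀ r ∈ R, η * r * η⁻¹ ∈ R := by
    rintro r ⟨hr, hr'⟩
    have hhi : ∀ v : Triple.Sp p h.U, h.act η⁻¹ v = (c * v.1, -v.2.1, c⁻¹ * v.2.2) := fun v => by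
      refine (h.act η).injective ?_
      rw [← LinearEquiv.mul_apply, ← map_mul, mul_inv_cancel, map_one, hhv]
      simp [hc, inv_mul_cancel_left₀, mul_inv_cancel_left₀]
    refine ⟨?_, fun v => ?_⟩
    · rw [map_mul, map_mul, LinearEquiv.mul_apply, LinearEquiv.mul_apply, hhi]
      simp only [mul_zero, neg_zero, mul_one]
      rw [show ((0 : ZMod p), (0 : h.U), c⁻¹) = c⁻¹ • ((0, 0, 1) : Triple.Sp p h.U) by ext <;> simp,
        map_smul, hr, hhv]
      simp [hc]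
    · rw [map_mul, map_mul, LinearEquiv.mul_apply, LinearEquiv.mul_apply, hhi, hhv]
      refine ⟨?_, fun h0 => ?_⟩
      · show c⁻¹ * _ = _
        rw [(hr' _).1, inv_mul_cancel_left₀ hc]
      · show -_ = _
        rw [(hr' _).2 (show c * v.1 = 0 by rw [h0, mul_zero]), neg_neg]
  obtain ⟨r, ⟨hr, hr'⟩, -, ψ, hψ, -, hψx⟩ := exists_adjust fr.st.hS h.hF h.hE.2.1 hη R hT hn
  have hnS : normalizerIn S E = S := inf_eq_left.2 fun a ha => by
    obtain ⟨q, hq, i, rfl⟩ := fr.decompose h.x_memS h.x_notMem ha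
    exact Subgroup.mul_mem _ (h.conj_normalize hq (hmemU _))
      (Subgroup.le_normalizer (E.pow_mem h.x_memE i))
  rw [hnS] at hψ
  have hcd : ∀ e : E, ∃ hm : ψ e ∈ E, h.cd ⟨ψ e, hm⟩ = h.act r (h.act η (h.cd e)) := fun e => by
    refine ⟨hψx e ▸ ((r * η) e).2, ?_⟩
    rw [← LinearEquiv.mul_apply, ← map_mul, h.act_apply]
    exact congrArg h.cd (Subtype.ext (hψx e))
  have hψz : ψ z = ez p z c := by
    obtain ⟨hm, e⟩ := hcd ⟨z, h.z_memE⟩
    rw [h.cd_z, hhz, show ((0 : ZMod p), (0 : h.U), c) = c • ((0, 0, 1) : Triple.Sp p h.U) by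
      ext <;> simp, map_smul, hr] at e
    have e2 : (⟨ψ z, hm⟩ : E) = ⟨ez p z c, h.zmem (fr.ez_mem c)⟩ := by
      refine h.cd_bij.1 (e.trans ?_)
      obtain ⟨h1, h2'⟩ := h.cd_Q ⟨ez p z c, h.zmem (fr.ez_mem c)⟩ (fr.ez_memQ c)
      refine Prod.ext ?_ (Prod.ext ?_ ?_)
      · simp [h1]
      · exact Subtype.ext (by simp [h2', fr.pr_ez])
      · show _ = h.ζ _
        rw [h.ζ_ez]; simp
    exact congrArg Subtype.val e2
  -- `ψ` keeps `Q`
  have hψzQ : ∀ a ∈ zQ Q, ψ a ∈ zQ Q := fun a ha => by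
    obtain ⟨t, rfl⟩ := fr.exists_ez ha
    rw [map_ez hψ (fr.memS fr.z_mem), hψz]
    exact Subgroup.pow_mem _ (fr.ez_mem c) _
  have hmQ := hψ.mono fr.st.hQS
  have hQψ : img Q ψ = Q := by
    refine fr.Q_unique h.x_memS h.x_notMem (by rw [h2, h4]) hmQ.img_le hmQ.card_img fun a ha b hb => ?_
    obtain ⟨a', ha', rfl⟩ := hmQ.mem_img.1 ha
    obtain ⟨b', hb', rfl⟩ := hmQ.mem_img.1 hb
    have hc' := commutator_mem fr.st ha' hb'
    rw [← hψ.map_conj (fr.memS ha') (fr.memS hb'), ← hψ.map_inv (fr.memS hb'),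
      ← hψ.map_mul (S.mul_mem (S.mul_mem (fr.memS ha') (fr.memS hb')) (S.inv_mem (fr.memS ha')))
        (S.inv_mem (fr.memS hb'))]
    exact hψzQ _ hc'
  have hQE : ∀ a ∈ Q, d.N (pr Q a) = 0 → a ∈ E := fun a ha hN => (h.mem_U ha).1 (hU.ge hN)
  have hpwU : ∀ v, d.N v = 0 → fr.pw v = 0 := by
    intro v hv
    obtain ⟨a, ha, rfl⟩ := exists_pr v
    refine fr.ez_inj ?_
    rw [← fr.pw_spec ha, h.pow_p a (hQE a ha hv), fr.ez_zero]
  obtain ⟨θ', hθ', hθ'Q, hθ'x, hdec⟩ := fr.exists_theta h.x_memS h.x_notMem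
  have hpw : fr.pw = 0 := by
    refine LinearMap.ext fun v => ?_
    obtain ⟨q, hq, rfl⟩ := exists_pr v
    have hqS := fr.memS hq
    set e := x⁻¹ * q * x * q⁻¹ with he
    have hdpr := h.d_pr hq (hmemU _)
    have hee : x⁻¹ * (q * x * q⁻¹) = e := by rw [he]; group
    rw [hee] at hdpr
    obtain ⟨heE, heQ, hpre⟩ := hdpr
    obtain ⟨hm, hψe⟩ := hcd ⟨e, heE⟩
    have hψeQ : ψ e ∈ Q := hQψ.le (hmQ.apply_mem_img heQ)
    have hpre' : pr Q (ψ e) = d.N (pr Q q) := by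
      have h1 := (h.cd_Q ⟨e, heE⟩ heQ)
      have h3 := (h.cd_Q ⟨ψ e, hm⟩ hψeQ).2
      rw [hψe] at h3
      have h5 := (hr' (h.act η (h.cd ⟨e, heE⟩))).2 (by rw [hhv]; show c⁻¹ * _ = 0; rw [h1.1, mul_zero])
      rw [h5, hhv] at h3
      rw [← h3]
      show -((h.cd ⟨e, heE⟩).2.1 : Vt Q) = _
      rw [h1.2, hpre, neg_neg]
    obtain ⟨hmx, hψX⟩ := hcd ⟨x, h.x_memE⟩
    have hθs : h.θ (ψ x) = c⁻¹ := by
      have := congrArg Prod.fst hψX
      rw [(hr' _).1, hhv, h.cd_x] at this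
      simpa [cd] using this
    set g := (ψ x)⁻¹ with hg
    have hgS : g ∈ S := S.inv_mem (hψ.mem h.x_memS)
    have hq' : ψ q ∈ Q := hQψ.le (hmQ.apply_mem_img hq)
    have hψe' : ψ e = g * ψ q * g⁻¹ * (ψ q)⁻¹ := by
      rw [he, hψ.map_mul (S.mul_mem (S.mul_mem (S.inv_mem h.x_memS) hqS) h.x_memS) (S.inv_mem hqS),
        hψ.map_mul (S.mul_mem (S.inv_mem h.x_memS) hqS) h.x_memS,
        hψ.map_mul (S.inv_mem h.x_memS) hqS, hψ.map_inv h.x_memS, hψ.map_inv hqS, hg, inv_inv]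
    have hθg : h.θ g = -c⁻¹ := by
      have := h.θ_mul (E.inv_mem hmx) hmx
      rw [inv_mul_cancel, (h.θ_iff E.one_mem).2 Q.one_mem, hθs] at this
      exact (eq_neg_of_add_eq_zero_left this.symm)
    have hgdec : ∃ q₀ ∈ Q, g = q₀ * x ^ (h.θ g).val :=
      (fr.exists_theta h.x_memS h.x_notMem).choose_spec.2.2.2 g hgS
    obtain ⟨q₀, hq₀, hg0⟩ := hgdec
    have hNg : (fr.symp hgS).N = (-c⁻¹) • d.N := by
      have hk : ∀ k : ℕ, fr.cj x h.x_memS ^ k = 1 + (k : ZMod p) • d.N := by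
        intro k
        induction k with
        | zero => simp
        | succ k ih =>
          rw [pow_succ, ih]
          refine LinearMap.ext fun w => ?_
          show fr.cj x h.x_memS w + (k : ZMod p) • d.N (fr.cj x h.x_memS w) =
            w + ((k + 1 : ℕ) : ZMod p) • d.N w
          have e1 : fr.cj x h.x_memS w = w + d.N w := (add_sub_cancel _ _).symm
          rw [e1, map_add, hNN, add_zero, Nat.cast_succ, add_smul, one_smul]
          abel
      show fr.cj g hgS - 1 = _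
      rw [fr.cj_congr hg0 hgS, fr.cj_eq hq₀ h.x_memS _ _, hk, add_sub_cancel_left,
        ZMod.natCast_zmod_val, hθg]
    have hkey : d.N (pr Q (ψ q) + c • pr Q q) = 0 := by
      have h1 := fr.N_pr hgS hq'
      rw [← hψe', hpre', hNg, LinearMap.smul_apply] at h1
      rw [map_add, map_smul]
      have h6 : c • d.N (pr Q q) = -(d.N (pr Q (ψ q))) := by
        rw [← h1, smul_smul, mul_neg, mul_inv_cancel₀ hc, neg_smul, one_smul]
      rw [h6, add_neg_cancel]
    have hpsum := hpwU _ hkey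
    rw [map_add, map_smul, smul_eq_mul] at hpsum
    have hpow := fr.pw_spec hq'
    rw [← hψ.map_pow hqS, fr.pw_spec hq, map_ez hψ (fr.memS fr.z_mem), hψz,
      show ez p (ez p z c) (fr.pw (pr Q q)) = ez p z c ^ (fr.pw (pr Q q)).val from rfl, fr.ez_pow,
      ZMod.natCast_zmod_val] at hpow
    have h7 := fr.ez_inj hpow
    rw [LinearMap.zero_apply]
    refine (mul_eq_zero.1 (?_ : (2 * c) * fr.pw (pr Q q) = 0)).resolve_left
      (mul_ne_zero (two_ne_zero_of_odd fr.hp) hc)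
    linear_combination hpsum + h7
  have hQp : ∀ a ∈ Q, a ^ p = 1 := fun a ha => by
    rw [fr.pw_spec ha, hpw, LinearMap.zero_apply, fr.ez_zero]
  obtain ⟨ε, hε, hε0, hiff⟩ := fr.twoBlock_of h4 h.x_memS h.x_notMem (h.pow_p x h.x_memE) hQp hRK
    fun k hk hN => h.comm x h.x_memE k (hQE k hk hN)
  refine ⟨ε, hε, hε0, fun hs => ?_⟩
  obtain ⟨a, ha, ha0⟩ := hiff.1 hs
  exact ha (hani a ha0)

end GData

/-- Outside the first case. -/
theorem notB_shape [Fact p.Prime] [Finite S] [Module (ZMod p) (Vt Q)] (fr : Frame p S Q z)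
    (hF : F.IsSaturated p) (hO : F.core = ⊥) (hB : ¬ CaseB fr F) :
    (∃ x, PearlData fr F x) ∨
      ∃ ε : ℤ, IsTwoBlock p ε S ∧ (ε : ZMod p) ≠ 0 ∧ ¬ IsSquare (-(ε : ZMod p)) := by
  obtain ⟨E, γ, x, h⟩ := exists_GData fr hF hO hB
  rcases h.alternatives with ⟨hU, h1⟩ | ⟨hU, h1 | ⟨h4, hRK, h2, hani, -⟩⟩
  · exact Or.inl ⟨x, h.pearlData hU h1⟩
  · exact (h.false_of_line hU h1).elim
  · exact Or.inr (h.elliptic hU h4 hRK h2 hani)

end CfsgLib.Fusion.ESReduce
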