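import Cfsg.Agent.Lib.Fusion.ESReduce.Toolbox
import Cfsg.Agent.Lib.Fusion.NormalCriteria

/-!
Outside the first case: an essential subgroup outside `Q` moves `z` to a central element `x`
outside `Q`; it is elementary abelian and equal to the centralizer of `x`.
-/

set_option autoImplicit false
set_option linter.style.haveILetI false
set_option linter.unusedVariables false
set_option linter.unusedSectionVars false

universe u

namespace CfsgLib.Fusion.ESReduce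

open Cfsg Cfsg.FusionSystem Subgroup CfsgLib.Fusion.ESIndex Module
open scoped commutatorElement

variable {Ω : Type u} [Group Ω] {S Q : Subgroup Ω} {p : ℕ} {z : Ω} {F : FusionSystem S}

namespace Frame

variable [Fact p.Prime] [Finite S] [Module (ZMod p) (Vt Q)] (fr : Frame p S Q z)

include fr

theorem zQ_le_centric {E : Subgroup Ω} (hE : F.IsCentric E) : zQ Q ≤ E := fun a ha =>
  hE.2 E (isConj_refl hE.1) ⟨fr.memS (zQ_le fr.st ha), fun b hb => zQ_central fr.st (hE.1 hb) ha⟩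

/-- The centre is moved by some essential subgroup not inside `Q`. -/
theorem exists_moving (hF : F.IsSaturated p) (hO : F.core = ⊥) :
    ∃ E, F.IsEssential p E ∧ ¬ E ≤ Q ∧ ∃ α ∈ F.autGroup E, ∃ hz : z ∈ E,
      ((α ⟨z, hz⟩ : E) : Ω) ∉ zQ Q := by
  by_contra hall
  push Not at hall
  refine fr.hz1 (Subgroup.mem_bot.1 (hO ▸ IsNormal.le_core (isNormal_of_alperin fr.st.hS hF
    ((zQ_le fr.st).trans fr.st.hQS) fun R hR => ?_) fr.hz))
  rcases hR with hR | hR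
  · subst hR
    refine ⟨(zQ_le fr.st).trans fr.st.hQS, fun α hα x hx => ?_⟩
    rw [← fr.hne] at hx ⊢
    refine ⟨(α x).2, fun s hs => ?_⟩
    have := congrArg α (Subtype.ext (zS_comm hx (α⁻¹ ⟨s, hs⟩).2) :
      α⁻¹ ⟨s, hs⟩ * x = x * α⁻¹ ⟨s, hs⟩)
    rw [map_mul, map_mul, MulAut.apply_inv_self] at this
    exact congrArg Subtype.val this
  · refine ⟨fr.zQ_le_centric hR.1, fun α hα x hx => ?_⟩
    by_cases hRQ : R ≤ Q
    · have hRQ' := essential_eq fr.st hF fr.h6 hRQ hR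
      subst hRQ'
      rw [zQ_eq] at hx ⊢
      refine ⟨(α x).2, fun s hs => ?_⟩
      have := congrArg α (Subtype.ext (hx.2 _ (α⁻¹ ⟨s, hs⟩).2) :
        α⁻¹ ⟨s, hs⟩ * x = x * α⁻¹ ⟨s, hs⟩)
      rw [map_mul, map_mul, MulAut.apply_inv_self] at this
      exact congrArg Subtype.val this
    · have hzR : z ∈ R := fr.zQ_le_centric hR.1 fr.hz
      obtain ⟨k, hk⟩ := exists_pow fr.st fr.hz fr.hz1 hx
      rw [show x = (⟨z, hzR⟩ : R) ^ k from Subtype.ext hk, map_pow, Subgroup.coe_pow]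
      exact (zQ Q).pow_mem (hall R hR hRQ α hα hzR) k

end Frame

/-- An essential subgroup with an automorphism moving the centre. -/
structure EData [Fact p.Prime] [Finite S] [Module (ZMod p) (Vt Q)] (fr : Frame p S Q z)
    (F : FusionSystem S) (E : Subgroup Ω) : Prop where
  hF : F.IsSaturated p
  hB : ¬ CaseB fr F
  hE : F.IsEssential p E
  hEQ : ¬ E ≤ Q

namespace EData

variable [Fact p.Prime] [Finite S] [Module (ZMod p) (Vt Q)] {fr : Frame p S Q z} {E : Subgroup Ω}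
  (h : EData fr F E)

include h

theorem hES : E ≤ S := h.hE.1.1

theorem finE : Finite E := finite_of_le h.hES

theorem zmem {a : Ω} (ha : a ∈ zQ Q) : a ∈ E := fr.zQ_le_centric h.hE.1 ha

theorem z_memE : z ∈ E := h.zmem fr.hz

/-- An automorphism image of a central element lying in `Q` is central. -/
theorem image_mem {β : MulAut E} (hβ : β ∈ F.autGroup E)
    (hQ : ((β ⟨z, h.z_memE⟩ : E) : Ω) ∈ Q) : ((β ⟨z, h.z_memE⟩ : E) : Ω) ∈ zQ Q := by
  by_contra hn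
  obtain ⟨y, hy, hyQ⟩ := SetLike.not_le_iff_exists.1 h.hEQ
  set u := ((β ⟨z, h.z_memE⟩ : E) : Ω) with hu
  have hyu : y * u = u * y := by
    have e : (β⁻¹ ⟨y, hy⟩ : E) * ⟨z, h.z_memE⟩ = ⟨z, h.z_memE⟩ * β⁻¹ ⟨y, hy⟩ :=
      Subtype.ext (fr.z_comm (h.hES (β⁻¹ ⟨y, hy⟩).2))
    have := congrArg (fun a => ((β a : E) : Ω)) e
    simpa only [map_mul, MulAut.apply_inv_self, Subgroup.coe_mul] using this
  have huE : u ∈ E := (β _).2
  refine h.hB ⟨u, hQ, hn, ⟨y, h.hES hy, hyQ, ?_⟩, _,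
    (isMap_of_autGroup h.hES ((F.autGroup E).inv_mem hβ)).mono (Subgroup.zpowers_le.2 huE), ?_⟩
  · rw [fr.N_pr (h.hES hy) hQ, hyu, mul_inv_cancel_right, mul_inv_cancel, pr_one]
  · rw [toFun_aut_apply _ huE, show (⟨u, huE⟩ : E) = β ⟨z, h.z_memE⟩ from rfl,
      MulAut.inv_apply_self]
    exact fr.hz

theorem notMemQ {β : MulAut E} (hβ : β ∈ F.autGroup E)
    (hn : ((β ⟨z, h.z_memE⟩ : E) : Ω) ∉ zQ Q) : ((β ⟨z, h.z_memE⟩ : E) : Ω) ∉ Q :=
  fun hQ => hn (h.image_mem hβ hQ)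

theorem decomposeE {x : Ω} (hx : x ∈ E) (hxQ : x ∉ Q) {a : Ω} (ha : a ∈ E) :
    ∃ e ∈ E, e ∈ Q ∧ ∃ i : ℕ, a = e * x ^ i := by
  obtain ⟨q, hq, i, rfl⟩ := fr.decompose (h.hES hx) hxQ (h.hES ha)
  exact ⟨q, by simpa using E.mul_mem ha (E.inv_mem (E.pow_mem hx i)), hq, i, rfl⟩

variable {α : MulAut E} (hα : α ∈ F.autGroup E) (hαz : ((α ⟨z, h.z_memE⟩ : E) : Ω) ∉ zQ Q)

include hα hαz

theorem abelian : ∀ a ∈ E, ∀ b ∈ E, a * b = b * a := by
  set x := ((α ⟨z, h.z_memE⟩ : E) : Ω) with hx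
  have hxE : x ∈ E := (α _).2
  have hxQ := h.notMemQ hα hαz
  have hxc : ∀ a ∈ E, Commute a x := fun a ha => by
    have e : (α⁻¹ ⟨a, ha⟩ : E) * ⟨z, h.z_memE⟩ = ⟨z, h.z_memE⟩ * α⁻¹ ⟨a, ha⟩ :=
      Subtype.ext (fr.z_comm (h.hES (α⁻¹ ⟨a, ha⟩).2))
    have := congrArg (fun c => ((α c : E) : Ω)) e
    simp only [map_mul, MulAut.apply_inv_self, Subgroup.coe_mul] at this
    exact this
  have h0 : ∀ a ∈ E, a ∈ Q → ∀ b ∈ E, b ∈ Q → a * b = b * a := by
    intro a haE haQ b hbE hbQ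
    rw [fr.comm_iff haQ hbQ]
    by_contra ht
    set t := fr.form (pr Q a) (pr Q b) with htd
    set zE : E := ⟨z, h.z_memE⟩
    have hc : ⁅(⟨a, haE⟩ : E), ⟨b, hbE⟩⁆ = zE ^ t.val := Subtype.ext (fr.comm_eq haQ hbQ)
    have hx' : α zE ^ t.val = ⁅α ⟨a, haE⟩, α ⟨b, hbE⟩⁆ := by rw [← map_pow, ← hc, map_commutatorElement]
    have hmem : x ^ t.val ∈ Q := by
      have := congrArg Subtype.val hx'
      rw [Subgroup.coe_pow] at this
      rw [this, commutatorElement_def]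
      exact comm_mem_Q_of fr (h.hES (α ⟨a, haE⟩).2) (h.hES (α ⟨b, hbE⟩).2)
    refine fr.pow_notMem (h.hES hxE) hxQ (fun hd => ht ?_) hmem
    rw [← ZMod.natCast_zmod_val t, (ZMod.natCast_eq_zero_iff t.val p).2 hd]
  intro a ha b hb
  obtain ⟨e₁, he₁, hq₁, i, rfl⟩ := h.decomposeE hxE hxQ ha
  obtain ⟨e₂, he₂, hq₂, j, rfl⟩ := h.decomposeE hxE hxQ hb
  have c0 : Commute e₁ e₂ := h0 e₁ he₁ hq₁ e₂ he₂ hq₂
  exact ((c0.mul_left ((hxc e₂ he₂).symm.pow_left i)).mul_right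
    (((hxc e₁ he₁).pow_right j).mul_left ((Commute.refl x).pow_pow i j))).eq

theorem exponent : ∀ a ∈ E, a ^ p = 1 := by
  set x := ((α ⟨z, h.z_memE⟩ : E) : Ω) with hx
  have hxE : x ∈ E := (α _).2
  have hxQ := h.notMemQ hα hαz
  have hab := h.abelian hα hαz
  have hxp : x ^ p = 1 := by
    have e : (⟨z, h.z_memE⟩ : E) ^ p = 1 := Subtype.ext fr.z_pow
    have := congrArg α e
    rw [map_pow, map_one] at this
    exact congrArg Subtype.val this
  intro a ha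
  obtain ⟨e₁, he₁, hq₁, i, rfl⟩ := h.decomposeE hxE hxQ ha
  have hc : Commute e₁ (x ^ i) := hab e₁ he₁ _ (E.pow_mem hxE i)
  rw [hc.mul_pow, ← pow_mul, mul_comm i p, pow_mul, hxp, one_pow, mul_one]
  by_contra hne
  obtain ⟨k, hk⟩ := exists_pow fr.st (pow_mem fr.st hq₁) hne fr.hz
  have hz' : (⟨z, h.z_memE⟩ : E) = (⟨e₁, he₁⟩ ^ p) ^ k := Subtype.ext hk
  obtain ⟨e₂, he₂, hq₂, j, hj⟩ := h.decomposeE hxE hxQ (α ⟨e₁, he₁⟩).2
  refine hxQ ?_
  rw [hz', map_pow, map_pow, Subgroup.coe_pow, Subgroup.coe_pow, hj,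
    (show Commute e₂ (x ^ j) from hab e₂ he₂ _ (E.pow_mem hxE j)).mul_pow, ← pow_mul x, mul_comm j p,
    pow_mul, hxp, one_pow, mul_one]
  exact Q.pow_mem (Q.pow_mem hq₂ p) k

theorem inn_eq {β : MulAut E} (hβ : β ∈ Inn E) : β = 1 := by
  obtain ⟨b, rfl⟩ := hβ
  refine MulEquiv.ext fun c => Subtype.ext ?_
  show (b : Ω) * c * (b : Ω)⁻¹ = c
  rw [h.abelian hα hαz b b.2 c c.2, mul_inv_cancel_right]

/-- The chosen image of `z`. -/
theorem exists_good : ∃ γ ∈ F.autGroup E, ((γ ⟨z, h.z_memE⟩ : E) : Ω) ∉ zQ Q ∧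
    ∀ q ∈ Q, q * ((γ ⟨z, h.z_memE⟩ : E) : Ω) = ((γ ⟨z, h.z_memE⟩ : E) : Ω) * q → q ∈ E := by
  haveI := h.finE
  have hP := h.hE
  obtain ⟨W, -, hWeq, -⟩ := exists_outSylow fr.st.hS h.hF (lt_of_essential fr.st.hS h.hF hP) hP.2.1 hP.1
  obtain ⟨_, Y₀, hY₀⟩ := hP.2.2
  obtain ⟨Y, hY, hloc⟩ := exists_containsLocals_of_isStronglyPEmbedded hY₀ W
  set G := F.autGroup E with hG
  obtain ⟨T, hT⟩ : ∃ T : Sylow p G, (T : Subgroup G) = (autInducedBy S E).subgroupOf G :=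
    (fullyAutomized_of_fullyNormalized fr.st.hS h.hF hP.2.1).2
  set π := QuotientGroup.mk' ((Inn E).subgroupOf G) with hπ
  have hπinj : Function.Injective π := by
    rw [← MonoidHom.ker_eq_bot_iff, QuotientGroup.ker_mk', eq_bot_iff]
    intro a ha
    exact Subgroup.mem_bot.2 (Subtype.ext (h.inn_eq hα hαz ha))
  set H := Y.comap π with hH
  have hHne : H ≠ ⊤ := fun htop => hY (eq_top_iff.2 fun q _ => by
    obtain ⟨a, rfl⟩ := QuotientGroup.mk'_surjective _ q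
    exact (htop ▸ Subgroup.mem_top a : a ∈ H))
  have hlocH : ContainsLocals (T : Subgroup G) H := by
    intro U hU hne a ha
    refine hloc (U.map π) ?_ (fun hb => hne ?_) ?_
    · rw [hWeq, ← hT]
      exact Subgroup.map_mono hU
    · exact (Subgroup.map_eq_bot_iff_of_injective _ hπinj).1 hb
    · exact Subgroup.le_normalizer_map π ⟨a, ha, rfl⟩
  let zE : E := ⟨z, h.z_memE⟩
  let K : Subgroup G :=
    { carrier := {κ | (κ : MulAut E) zE = zE ∧
        ∀ e : E, (((κ : MulAut E) e : E) : Ω) * (e : Ω)⁻¹ ∈ zQ Q}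
      one_mem' := ⟨rfl, fun e => by simp⟩
      mul_mem' := by
        rintro r s ⟨hr, hr'⟩ ⟨hs, hs'⟩
        refine ⟨by rw [Subgroup.coe_mul, MulAut.mul_apply, hs, hr], fun e => ?_⟩
        have := (zQ Q).mul_mem (hr' ((s : MulAut E) e)) (hs' e)
        rwa [mul_assoc, inv_mul_cancel_left] at this
      inv_mem' := by
        rintro r ⟨hr, hr'⟩
        refine ⟨by rw [Subgroup.coe_inv]; conv_lhs => rw [← hr]; rw [MulAut.inv_apply_self], fun e => ?_⟩
        have h1 := (zQ Q).inv_mem (hr' ((r : MulAut E)⁻¹ e))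
        rw [MulAut.apply_inv_self, mul_inv_rev, inv_inv] at h1
        rwa [Subgroup.coe_inv] }
  have hKp : IsPGroup p K := by
    intro κ
    refine ⟨1, Subtype.ext (Subtype.ext ?_)⟩
    rw [pow_one]
    show ((κ : G) : MulAut E) ^ p = 1
    obtain ⟨hκ1, hκ2⟩ := κ.2
    refine MulEquiv.ext fun e => ?_
    obtain ⟨t, ht⟩ := exists_pow fr.st fr.hz fr.hz1 (hκ2 e)
    have he : (κ : G).1 e = zE ^ t * e := Subtype.ext (by
      rw [Subgroup.coe_mul, Subgroup.coe_pow]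
      exact mul_inv_eq_iff_eq_mul.1 ht)
    have hn : ∀ n : ℕ, ((κ : G).1 ^ n) e = zE ^ (t * n) * e := by
      intro n
      induction n with
      | zero => simp
      | succ n ih =>
        rw [pow_succ', MulAut.mul_apply, ih, map_mul, map_pow, hκ1, he, ← mul_assoc, ← pow_add]
        congr 2
    rw [hn p, mul_comm t p, pow_mul, show zE ^ p = 1 from Subtype.ext fr.z_pow, one_pow, one_mul]
    rfl
  have hKconj : ∀ g : G, (((g : MulAut E) zE : E) : Ω) ∈ zQ Q → ∀ κ ∈ K, g * κ * g⁻¹ ∈ K := by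
    intro g hg κ ⟨hκ1, hκ2⟩
    have hgz : ∀ a : E, (a : Ω) ∈ zQ Q → (((g : MulAut E) a : E) : Ω) ∈ zQ Q := by
      intro a ha
      obtain ⟨k, hk⟩ := exists_pow fr.st fr.hz fr.hz1 ha
      rw [show a = zE ^ k from Subtype.ext hk, map_pow, Subgroup.coe_pow]
      exact (zQ Q).pow_mem hg k
    obtain ⟨k, hk⟩ := exists_pow fr.st hg (fun h1 => fr.hz1 (congrArg Subtype.val
      ((map_eq_one_iff _ (g : MulAut E).injective).1 (Subtype.ext h1 : (g : MulAut E) zE = 1)))) fr.hz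
    have hgiz : (g : MulAut E)⁻¹ zE = zE ^ k := (g : MulAut E).injective (by
      rw [MulAut.apply_inv_self, map_pow]; exact Subtype.ext hk)
    refine ⟨?_, fun e => ?_⟩
    · rw [Subgroup.coe_mul, Subgroup.coe_mul, Subgroup.coe_inv, MulAut.mul_apply, MulAut.mul_apply,
        hgiz, map_pow, hκ1, ← hgiz, MulAut.apply_inv_self]
    · rw [Subgroup.coe_mul, Subgroup.coe_mul, Subgroup.coe_inv, MulAut.mul_apply, MulAut.mul_apply]
      have e1 := hgz ((κ : MulAut E) ((g : MulAut E)⁻¹ e) * ((g : MulAut E)⁻¹ e)⁻¹) (hκ2 _)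
      rw [map_mul, map_inv, MulAut.apply_inv_self] at e1
      exact e1
  have hTz : ∀ t ∈ (T : Subgroup G), (((t : MulAut E) zE : E) : Ω) ∈ zQ Q := by
    intro t ht
    rw [hT, Subgroup.mem_subgroupOf, mem_autInducedBy_iff] at ht
    obtain ⟨a, ha, hax⟩ := ht
    rw [hax]
    show a * z * a⁻¹ ∈ _
    rw [fr.z_comm ha, mul_inv_cancel_right]
    exact fr.hz
  have hKT : K ≤ (T : Subgroup G) := by
    have hTN : (T : Subgroup G) ≤ Subgroup.normalizer (K : Set G) := fun t ht =>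
      Subgroup.mem_normalizer_fintype fun κ hκ => hKconj t (hTz t ht) κ hκ
    have hp' : IsPGroup p ((K ⊔ (T : Subgroup G)) : Subgroup G) :=
      IsPGroup.to_sup_of_normal_left' hKp T.isPGroup' hTN
    exact le_sup_left.trans (T.is_maximal' hp' le_sup_right).le
  have hkey : ∀ γ ∈ G, ((γ zE : E) : Ω) ∉ zQ Q → (∀ hγ' : γ ∈ G, K ≠ ⊥ → (⟨γ, hγ'⟩ : G) ∉ H) →
      ∀ q ∈ Q, q * ((γ zE : E) : Ω) = ((γ zE : E) : Ω) * q → q ∈ E := by
    intro γ hγ hγz hγH q hq hqx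
    by_contra hqE
    have hxE : ((γ zE : E) : Ω) ∈ E := (γ zE).2
    have hxQ := h.notMemQ hγ hγz
    set x := ((γ zE : E) : Ω)
    have hnorm : ∀ e ∈ E, q * e * q⁻¹ * e⁻¹ ∈ zQ Q := by
      intro e he
      obtain ⟨e₁, he₁, hq₁, i, rfl⟩ := h.decomposeE hxE hxQ he
      have hc : Commute q (x ^ i) := (show Commute q x from hqx).pow_right i
      have : q * (e₁ * x ^ i) * q⁻¹ * (e₁ * x ^ i)⁻¹ = q * e₁ * q⁻¹ * e₁⁻¹ := by
        calc q * (e₁ * x ^ i) * q⁻¹ * (e₁ * x ^ i)⁻¹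
            = q * e₁ * (x ^ i * q⁻¹) * (x ^ i)⁻¹ * e₁⁻¹ := by group
          _ = q * e₁ * (q⁻¹ * x ^ i) * (x ^ i)⁻¹ * e₁⁻¹ := by rw [hc.inv_left.eq]
          _ = q * e₁ * q⁻¹ * e₁⁻¹ := by group
      rw [this]
      exact commutator_mem fr.st hq hq₁
    have hqN : q ∈ Subgroup.normalizer (E : Set Ω) := by
      refine Subgroup.mem_normalizer_fintype fun e he => ?_
      have := E.mul_mem (h.zmem (hnorm e he)) he
      rwa [inv_mul_cancel_right] at this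
    set κ : G := ⟨E.normalizerMonoidHom ⟨q, hqN⟩,
      autInducedBy_le_autGroup h.hES (mem_autInducedBy_iff.2 ⟨q, fr.memS hq, fun _ => rfl⟩)⟩ with hκ
    have hκv : ∀ e : E, (((κ : MulAut E) e : E) : Ω) = q * e * q⁻¹ := fun e => rfl
    have hκK : κ ∈ K := ⟨Subtype.ext (by
      rw [hκv]; show q * z * q⁻¹ = z; rw [fr.z_comm (fr.memS hq), mul_inv_cancel_right]),
      fun e => by rw [hκv]; exact hnorm e e.2⟩
    have hκ1 : κ ≠ 1 := fun h1 => hqE (hP.1.2 E (isConj_refl h.hES) ⟨fr.memS hq, fun e he => by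
      have e1 := hκv ⟨e, he⟩
      rw [h1] at e1
      exact eq_mul_inv_iff_mul_eq.1 e1⟩)
    have hKne : K ≠ ⊥ := fun hb => hκ1 (Subgroup.mem_bot.1 (hb ▸ hκK))
    have hnot := hγH hγ hKne
    set γ' : G := ⟨γ, hγ⟩
    have hfix : ((κ : MulAut E) (γ zE)) = γ zE := Subtype.ext (by
      rw [hκv]; show q * x * q⁻¹ = x; rw [hqx, mul_inv_cancel_right])
    set y := γ'⁻¹ * κ * γ' with hy
    have hyz : (((y : MulAut E) zE : E) : Ω) ∈ zQ Q := by
      have : (y : MulAut E) zE = zE := by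
        rw [hy, Subgroup.coe_mul, Subgroup.coe_mul, Subgroup.coe_inv, MulAut.mul_apply,
          MulAut.mul_apply]
        show γ⁻¹ ((κ : MulAut E) (γ zE)) = zE
        rw [hfix, MulAut.inv_apply_self]
      rw [this]
      exact fr.hz
    have hyH : y ∈ H := hlocH K hKT hKne (Subgroup.mem_normalizer_fintype fun k hk => hKconj y hyz k hk)
    have hTH : (T : Subgroup G) ≤ H := containsLocals_le hlocH fun hb =>
      hKne (eq_bot_iff.2 (hKT.trans hb.le))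
    have hκT := hKT hκK
    have hyp : IsPGroup p (Subgroup.zpowers (⟨y, hyH⟩ : H)) := by
      obtain ⟨k, hk⟩ := T.isPGroup' ⟨κ, hκT⟩
      have hk' : κ ^ p ^ k = 1 := congrArg Subtype.val hk
      intro w
      refine ⟨k, ?_⟩
      obtain ⟨j, hj⟩ := Subgroup.mem_zpowers_iff.1 w.2
      refine Subtype.ext (Subtype.ext ?_)
      simp only [Subgroup.coe_pow, Subgroup.coe_one, ← hj, Subgroup.coe_zpow]
      rw [← zpow_natCast, ← zpow_mul, mul_comm, zpow_mul, zpow_natCast]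
      have : y ^ p ^ k = 1 := by
        rw [hy, show γ'⁻¹ * κ * γ' = γ'⁻¹ * κ * (γ'⁻¹)⁻¹ by rw [inv_inv], conj_pow, hk']
        simp
      rw [this, one_zpow]
    obtain ⟨W', hW'⟩ := hyp.exists_le_sylow
    obtain ⟨v, hv⟩ := MulAction.exists_smul_eq H W' (T.subtype hTH)
    have hvy : (v : G) * y * (v : G)⁻¹ ∈ (T : Subgroup G) := by
      have h1 : v * ⟨y, hyH⟩ * v⁻¹ ∈ (T.subtype hTH : Subgroup H) := by
        rw [← hv, Sylow.coe_subgroup_smul]
        exact ⟨_, hW' (Subgroup.mem_zpowers _), rfl⟩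
      exact h1
    have hmem : γ' * (v : G)⁻¹ ∈ H := by
      refine mem_of_containsLocals hlocH (U := Subgroup.zpowers κ) (Subgroup.zpowers_le.2 hκT)
        (fun hb => hκ1 (Subgroup.zpowers_eq_bot.1 hb)) fun w hw => ?_
      obtain ⟨k, rfl⟩ := Subgroup.mem_zpowers_iff.1 hw
      rw [show (γ' * (v : G)⁻¹)⁻¹ * κ ^ k * (γ' * (v : G)⁻¹) =
        ((γ' * (v : G)⁻¹)⁻¹ * κ * (γ' * (v : G)⁻¹)⁻¹⁻¹) ^ k by rw [conj_zpow, inv_inv]]
      refine Subgroup.zpow_mem _ ?_ k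
      rw [inv_inv, show (γ' * (v : G)⁻¹)⁻¹ * κ * (γ' * (v : G)⁻¹) = (v : G) * y * (v : G)⁻¹ by
        rw [hy]; group]
      exact hvy
    refine hnot ?_
    have := H.mul_mem hmem v.2
    rwa [inv_mul_cancel_right] at this
  by_cases hK : K = ⊥
  · exact ⟨α, hα, hαz, hkey α hα hαz fun _ hne => absurd hK hne⟩
  · obtain ⟨γ, -, hγ⟩ := SetLike.exists_of_lt (lt_top_iff_ne_top.2 hHne)
    have hγz : (((γ : MulAut E) zE : E) : Ω) ∉ zQ Q := fun hz' => hγ
      (hlocH K hKT hK (Subgroup.mem_normalizer_fintype fun k hk => hKconj γ hz' k hk))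
    exact ⟨γ, γ.2, hγz, hkey γ γ.2 hγz fun _ _ => hγ⟩

end EData

end CfsgLib.Fusion.ESReduce
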