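import Mathlib

/-!
Linear algebra for a unipotent isometry `1 + N` of a nondegenerate alternating form, and quadratic
functions with a single zero.
-/

set_option autoImplicit false
set_option linter.unusedSectionVars false

namespace CfsgLib.Fusion.ESReduce

open Module Submodule

/-- A unipotent isometry `1 + N` of a symplectic space. -/
structure Symp (K V : Type*) [Field K] [AddCommGroup V] [Module K V] where
  ω : LinearMap.BilinForm K V
  N : V →ₗ[K] V
  alt : ∀ a, ω a a = 0
  nondeg : ∀ a, (∀ b, ω a b = 0) → a = 0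
  nil : IsNilpotent N
  inv : ∀ a b, ω (a + N a) (b + N b) = ω a b

section Quad

variable {p : ℕ} [Fact p.Prime] {W : Type*} [AddCommGroup W] [Module (ZMod p) W]
  [FiniteDimensional (ZMod p) W]

theorem two_ne_zero_of_odd (hp : p ≠ 2) : (2 : ZMod p) ≠ 0 := by
  intro h
  have h' : ((2 : ℕ) : ZMod p) = 0 := by exact_mod_cast h
  rw [ZMod.natCast_eq_zero_iff] at h'
  exact hp ((Nat.prime_dvd_prime_iff_eq Fact.out Nat.prime_two).1 h')

/-- A symmetric form in at least three variables has an isotropic vector. -/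
theorem exists_isotropic (hp : p ≠ 2) (B : LinearMap.BilinForm (ZMod p) W)
    (hs : ∀ a b, B a b = B b a) (h3 : 3 ≤ finrank (ZMod p) W) : ∃ a, a ≠ 0 ∧ B a a = 0 := by
  by_contra hall
  push Not at hall
  have hperp : ∀ a : W, finrank (ZMod p) W ≤ finrank (ZMod p) (LinearMap.ker (B a)) + 1 := by
    intro a
    have h := LinearMap.finrank_range_add_finrank_ker (B a)
    have h1 : finrank (ZMod p) (LinearMap.range (B a)) ≤ 1 :=
      (Submodule.finrank_le _).trans (Module.finrank_self (ZMod p)).le
    omega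
  haveI : Nontrivial W := Module.nontrivial_of_finrank_pos (R := ZMod p) (by omega)
  obtain ⟨a, ha⟩ := exists_ne (0 : W)
  obtain ⟨⟨b, hb⟩, hb0⟩ : ∃ x : LinearMap.ker (B a), x ≠ 0 := by
    haveI : Nontrivial (LinearMap.ker (B a)) :=
      Module.nontrivial_of_finrank_pos (R := ZMod p) (by have := hperp a; omega)
    exact exists_ne 0
  have hb0' : b ≠ 0 := fun h => hb0 (Subtype.ext h)
  obtain ⟨c, hc0, hac, hbc⟩ : ∃ c, c ≠ 0 ∧ B a c = 0 ∧ B b c = 0 := by
    have h1 := Submodule.finrank_sup_add_finrank_inf_eq (LinearMap.ker (B a)) (LinearMap.ker (B b))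
    have h2 := Submodule.finrank_le (LinearMap.ker (B a) ⊔ LinearMap.ker (B b))
    have := hperp a
    have := hperp b
    have hne : (LinearMap.ker (B a) ⊓ LinearMap.ker (B b)) ≠ ⊥ := fun h => by
      rw [h, finrank_bot] at h1
      omega
    obtain ⟨c, hc, hc0⟩ := Submodule.exists_mem_ne_zero_of_ne_bot hne
    exact ⟨c, hc0, LinearMap.mem_ker.1 hc.1, LinearMap.mem_ker.1 hc.2⟩
  have hab : B a b = 0 := LinearMap.mem_ker.1 hb
  have hA := hall a ha
  have hB := hall b hb0'
  have hC := hall c hc0
  obtain ⟨s, t, hst⟩ := FiniteField.exists_root_sum_quadratic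
    (f := Polynomial.C (B a a) * Polynomial.X ^ 2)
    (g := Polynomial.C (B b b) * Polynomial.X ^ 2 + Polynomial.C (B c c))
    (Polynomial.degree_C_mul_X_pow 2 hA)
    (by
      rw [Polynomial.degree_add_eq_left_of_degree_lt] <;>
        rw [Polynomial.degree_C_mul_X_pow 2 hB]
      · rfl
      · exact lt_of_le_of_lt Polynomial.degree_C_le (by norm_num))
    (by
      rw [ZMod.card]
      exact (Fact.out : p.Prime).eq_two_or_odd.resolve_left hp)
  simp only [Polynomial.eval_mul, Polynomial.eval_C, Polynomial.eval_pow, Polynomial.eval_X,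
    Polynomial.eval_add] at hst
  have hne : s • a + t • b + c ≠ 0 := fun h => by
    have h2 := congrArg (B c) h
    simp only [map_add, map_smul, smul_eq_mul, map_zero, hs c a, hs c b, hac, hbc, mul_zero,
      zero_add] at h2
    exact hC h2
  refine hall _ hne ?_
  simp only [map_add, map_smul, LinearMap.add_apply, LinearMap.smul_apply, smul_eq_mul, hab, hac,
    hbc, hs b a, hs c a, hs c b, mul_zero, add_zero, zero_add]
  linear_combination hst

/-- A quadratic function with a single zero on a space of dimension at least `2`. -/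
theorem quad_single_zero (hp : p ≠ 2) (B : LinearMap.BilinForm (ZMod p) W)
    (hs : ∀ a b, B a b = B b a) (f : W → ZMod p) (hf : ∀ a b, f (a + b) = f a + f b + B a b)
    (h0 : ∀ a, f a = 0 → a = 0) (h2 : 2 ≤ finrank (ZMod p) W) :
    finrank (ZMod p) W = 2 ∧ (∀ a, B a a = 0 → a = 0) ∧ ∀ a, 2 * f a = B a a := by
  have htwo := two_ne_zero_of_odd (p := p) hp
  have hf0 : f 0 = 0 := by simpa using hf 0 0
  let g : W →ₗ[ZMod p] ZMod p := AddMonoidHom.toZModLinearMap p
    (AddMonoidHom.mk' (fun a => 2 * f a - B a a) fun a b => by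
      simp only [hf, map_add, LinearMap.add_apply, hs b a]
      ring)
  have hg : ∀ a, 2 * f a = B a a + g a := fun a => (add_sub_cancel _ _).symm
  have haniso : ∀ a, B a a = 0 → a = 0 := by
    intro a ha
    by_contra ha0
    have hga : g a ≠ 0 := fun h => ha0 (h0 a (by
      have := hg a
      rw [ha, h, add_zero] at this
      exact (mul_eq_zero.1 this).resolve_left htwo))
    have hall : ∀ v : W, v ∉ (ZMod p) ∙ a → 2 * B v a + g a = 0 := by
      intro v hv
      by_contra hne
      refine hv ?_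
      set t := -(2 * f v) / (2 * B v a + g a) with ht
      have hz := hg (v + t • a)
      simp only [map_add, map_smul, LinearMap.add_apply, LinearMap.smul_apply, smul_eq_mul,
        hs a v, ha, mul_zero, add_zero] at hz
      have hvf := hg v
      have htm : t * (2 * B v a + g a) = -(2 * f v) := div_mul_cancel₀ _ hne
      have h1 : v + t • a = 0 := h0 _ ((mul_eq_zero.1 (by linear_combination hz - hvf + htm)).resolve_left htwo)
      exact Submodule.mem_span_singleton.2 ⟨-t, by rw [neg_smul]; exact (eq_neg_of_add_eq_zero_left h1).symm⟩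
    obtain ⟨v, hv⟩ : ∃ v : W, v ∉ (ZMod p) ∙ a := by
      by_contra h
      push Not at h
      have := finrank_span_singleton (K := ZMod p) ha0
      have htop : ((ZMod p) ∙ a) = ⊤ := eq_top_iff.2 fun x _ => h x
      rw [htop, finrank_top] at this
      omega
    have h1 := hall v hv
    have h2v := hall ((2 : ZMod p) • v) fun h => hv ((Submodule.smul_mem_iff _ htwo).1 h)
    simp only [map_smul, LinearMap.smul_apply, smul_eq_mul] at h2v
    exact hga (by linear_combination 2 * h1 - h2v)
  refine ⟨?_, haniso, fun a => ?_⟩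
  · by_contra hne
    obtain ⟨a, ha, hBa⟩ := exists_isotropic hp B hs (by omega)
    exact ha (haniso a hBa)
  · suffices g = 0 by rw [hg, this, LinearMap.zero_apply, add_zero]
    by_contra hg0
    haveI : Nontrivial W := Module.nontrivial_of_finrank_pos (R := ZMod p) (by omega)
    have hinj : Function.Injective B := LinearMap.ker_eq_bot.1 (LinearMap.ker_eq_bot'.2 fun x hx =>
      haniso x (by rw [hx, LinearMap.zero_apply]))
    obtain ⟨d, hd⟩ := (LinearMap.injective_iff_surjective_of_finrank_eq_finrank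
      Subspace.dual_finrank_eq.symm).1 hinj g
    have hd0 : d ≠ 0 := fun h => hg0 (by rw [← hd, h, map_zero])
    have h1 := hg (-d)
    simp only [← hd, map_neg, LinearMap.neg_apply, neg_neg, add_neg_cancel] at h1
    exact hd0 (neg_eq_zero.1 (h0 _ ((mul_eq_zero.1 h1).resolve_left htwo)))

end Quad

namespace Symp

variable {K V : Type*} [Field K] [AddCommGroup V] [Module K V] (d : Symp K V)

theorem skew (a b : V) : d.ω a b = -d.ω b a := by
  have h := d.alt (a + b)
  simp only [map_add, LinearMap.add_apply, d.alt, zero_add, add_zero] at h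
  exact eq_neg_of_add_eq_zero_left ((add_comm _ _).trans h)

theorem nondeg_iff : d.ω.Nondegenerate :=
  ⟨fun a h => d.nondeg a h, fun a h => d.nondeg a fun b => by rw [d.skew, h, neg_zero]⟩

theorem isRefl : d.ω.IsRefl := fun a b h => by rw [d.skew, h, neg_zero]

theorem inv' (a b : V) : d.ω (d.N a) b + d.ω a (d.N b) + d.ω (d.N a) (d.N b) = 0 := by
  have h := d.inv a b
  simp only [map_add, LinearMap.add_apply] at h
  linear_combination h

theorem pow_succ_apply (i : ℕ) (a : V) : (d.N ^ (i + 1)) a = (d.N ^ i) (d.N a) := by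
  rw [pow_succ, Module.End.mul_apply]

/-- The kernel of `N ^ i` is orthogonal to the image of `N ^ i`. -/
theorem perp_pow : ∀ (i : ℕ) (k : V), (d.N ^ i) k = 0 → ∀ b, d.ω k ((d.N ^ i) b) = 0
  | 0, k, h, b => by
      rw [pow_zero, Module.End.one_apply] at h ⊢
      rw [h, map_zero, LinearMap.zero_apply]
  | i + 1, k, h, b => by
      rw [pow_succ_apply] at h
      have h1 := perp_pow i (d.N k) h b
      have h2 := perp_pow i (d.N k) h (d.N b)
      rw [← pow_succ_apply] at h2
      have h3 := d.inv' k ((d.N ^ i) b)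
      rw [show d.N ((d.N ^ i) b) = (d.N ^ (i + 1)) b by rw [pow_succ', Module.End.mul_apply],
        h1, h2, zero_add, add_zero] at h3
      exact h3

theorem perp {k : V} (h : d.N k = 0) (b : V) : d.ω k (d.N b) = 0 := by
  simpa using d.perp_pow 1 k (by simpa using h) b

theorem beta_symm {a b : V} (hb : d.N (d.N b) = 0) : d.ω a (d.N b) = d.ω b (d.N a) := by
  have h := d.inv' a b
  rw [d.skew (d.N a) (d.N b), d.perp hb, neg_zero, add_zero, d.skew (d.N a) b] at h
  linear_combination h

variable [FiniteDimensional K V]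

theorem finrank_perp (W : Submodule K V) :
    finrank K (d.ω.orthogonal W) + finrank K W = finrank K V := by
  rw [LinearMap.BilinForm.finrank_orthogonal d.nondeg_iff]
  have := Submodule.finrank_le W
  omega

theorem two_mul_le {W : Submodule K V} (h : ∀ a ∈ W, ∀ b ∈ W, d.ω a b = 0) :
    2 * finrank K W ≤ finrank K V := by
  have h1 : finrank K W ≤ finrank K (d.ω.orthogonal W) :=
    Submodule.finrank_mono fun a ha b hb => h b hb a ha
  have := d.finrank_perp W
  omega

theorem ker_pow_eq (i : ℕ) :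
    LinearMap.ker (d.N ^ i) = d.ω.orthogonal (LinearMap.range (d.N ^ i)) := by
  refine Submodule.eq_of_le_of_finrank_eq (fun k hk => ?_) ?_
  · rintro _ ⟨b, rfl⟩
    exact d.isRefl _ _ (d.perp_pow i k hk b)
  · have := d.finrank_perp (LinearMap.range (d.N ^ i))
    have := LinearMap.finrank_range_add_finrank_ker (d.N ^ i)
    omega

theorem range_pow_eq (i : ℕ) :
    LinearMap.range (d.N ^ i) = d.ω.orthogonal (LinearMap.ker (d.N ^ i)) := by
  refine Submodule.eq_of_le_of_finrank_eq ?_ ?_
  · rintro _ ⟨b, rfl⟩ k hk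
    exact d.perp_pow i k hk b
  · have := d.finrank_perp (LinearMap.ker (d.N ^ i))
    have := LinearMap.finrank_range_add_finrank_ker (d.N ^ i)
    omega

theorem ker_eq : LinearMap.ker d.N = d.ω.orthogonal (LinearMap.range d.N) := by
  simpa using d.ker_pow_eq 1

theorem range_eq : LinearMap.range d.N = d.ω.orthogonal (LinearMap.ker d.N) := by
  simpa using d.range_pow_eq 1

theorem mem_ker_of {v : V} (h : ∀ b, d.ω v (d.N b) = 0) : d.N v = 0 := by
  rw [← LinearMap.mem_ker, d.ker_eq]
  rintro _ ⟨b, rfl⟩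
  exact d.isRefl _ _ (h b)

/-- Some element of an invariant subspace outside the kernel is sent into the kernel. -/
theorem exists_last {W : Submodule K V} (hW : ∀ a ∈ W, d.N a ∈ W)
    (h : ¬ W ≤ LinearMap.ker d.N) : ∃ b ∈ W, d.N b ≠ 0 ∧ d.N (d.N b) = 0 := by
  classical
  obtain ⟨a, ha, haN⟩ := SetLike.not_le_iff_exists.1 h
  obtain ⟨k, hk⟩ := d.nil
  have hex : ∃ i, (d.N ^ i) a = 0 := ⟨k, by rw [hk, LinearMap.zero_apply]⟩
  have hi := Nat.find_spec hex
  have hmin : ∀ j < Nat.find hex, (d.N ^ j) a ≠ 0 := fun j hj => Nat.find_min hex hj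
  match hm : Nat.find hex with
  | 0 =>
    rw [hm, pow_zero, Module.End.one_apply] at hi
    exact absurd (LinearMap.mem_ker.2 (by rw [hi, map_zero])) haN
  | 1 =>
    rw [hm, pow_one] at hi
    exact absurd (LinearMap.mem_ker.2 hi) haN
  | j + 2 =>
    have hmem : ∀ i, (d.N ^ i) a ∈ W := by
      intro i
      induction i with
      | zero => simpa using ha
      | succ i ih => rw [pow_succ', Module.End.mul_apply]; exact hW _ ih
    refine ⟨_, hmem j, ?_, ?_⟩
    · rw [← Module.End.mul_apply, ← pow_succ']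
      exact hmin (j + 1) (by omega)
    · have : d.N (d.N ((d.N ^ j) a)) = (d.N ^ (j + 2)) a := by
        rw [pow_succ', pow_succ', Module.End.mul_apply, Module.End.mul_apply]
      rw [this]
      rw [hm] at hi
      exact hi

theorem ker_ne_bot [Nontrivial V] : LinearMap.ker d.N ≠ ⊥ := by
  intro h
  obtain ⟨k, hk⟩ := d.nil
  have hinj : Function.Injective (d.N ^ k) := by
    rw [Module.End.coe_pow]
    exact (LinearMap.ker_eq_bot.1 h).iterate k
  obtain ⟨a, ha⟩ := exists_ne (0 : V)
  exact ha (hinj (by rw [hk, LinearMap.zero_apply, LinearMap.zero_apply]))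

/-- With an isotropic `v` outside the kernel sent into it, and dimension `4`. -/
theorem types_four (h4 : finrank K V = 4) {v : V} (hv : d.N v ≠ 0) (hv2 : d.ω v (d.N v) = 0)
    : finrank K (LinearMap.ker d.N) = 1 ∨
      (LinearMap.range d.N = LinearMap.ker d.N ∧ finrank K (LinearMap.ker d.N) = 2) := by
  haveI : Nontrivial V := Module.nontrivial_of_finrank_pos (R := K) (by omega)
  have hk : finrank K (LinearMap.ker d.N) ≠ 0 := fun h =>
    d.ker_ne_bot (Submodule.finrank_eq_zero.1 h)
  have hrk := LinearMap.finrank_range_add_finrank_ker d.N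
  have hv' : d.N v ∈ LinearMap.range d.N := ⟨v, rfl⟩
  rcases Nat.lt_or_ge (finrank K (LinearMap.ker d.N)) 3 with hlt | hge
  swap
  · have h1 : LinearMap.range d.N = K ∙ d.N v := by
      refine (Submodule.eq_of_le_of_finrank_le ((Submodule.span_singleton_le_iff_mem _ _).2 hv')
        ?_).symm
      rw [finrank_span_singleton hv]
      omega
    refine absurd (d.mem_ker_of fun b => ?_) hv
    obtain ⟨c, hc⟩ := Submodule.mem_span_singleton.1 (h1.le (LinearMap.mem_range_self d.N b))
    rw [← hc, map_smul, hv2, smul_zero]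
  rcases (show finrank K (LinearMap.ker d.N) = 1 ∨ finrank K (LinearMap.ker d.N) = 2 by omega)
    with h1 | h2
  · exact Or.inl h1
  refine Or.inr ⟨?_, h2⟩
  by_contra hne
  have hle : ¬ LinearMap.range d.N ≤ LinearMap.ker d.N := fun hle =>
    hne (Submodule.eq_of_le_of_finrank_le hle (by omega))
  obtain ⟨b, ⟨w, rfl⟩, hb, hb2⟩ := d.exists_last
    (W := LinearMap.range d.N) (fun a _ => ⟨a, rfl⟩) hle
  set u := d.N (d.N w) with hu
  have huk : d.N u = 0 := hb2
  have h3 : d.ω u w = 0 := by
    have h := d.inv' (d.N w) w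
    rw [d.alt (d.N w), add_zero, ← hu, d.perp huk, add_zero] at h
    exact h
  have hnot : w ∉ LinearMap.ker d.N ⊔ LinearMap.range d.N := by
    intro hw
    obtain ⟨a, ha, r, ⟨c, rfl⟩, hsum⟩ := Submodule.mem_sup.1 hw
    have hb' : d.N w = d.N (d.N c) := by
      rw [← hsum, map_add, LinearMap.mem_ker.1 ha, zero_add]
    have hmap : finrank K ((LinearMap.range d.N).map d.N) ≤ 1 := by
      by_contra h
      have hm : (LinearMap.range d.N).map d.N = LinearMap.range d.N := by
        refine Submodule.eq_of_le_of_finrank_le ?_ (by omega)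
        rintro _ ⟨a, -, rfl⟩
        exact ⟨a, rfl⟩
      obtain ⟨k, hk⟩ := d.nil
      have hpow : ∀ i, ∀ y ∈ LinearMap.range d.N, y ∈ LinearMap.range (d.N ^ i) := by
        intro i
        induction i with
        | zero => intro y _; exact ⟨y, by rw [pow_zero, Module.End.one_apply]⟩
        | succ i ih =>
          intro y hy
          rw [← hm] at hy
          obtain ⟨r, hr, rfl⟩ := hy
          obtain ⟨s, rfl⟩ := ih r hr
          exact ⟨s, by rw [pow_succ', Module.End.mul_apply]⟩
      obtain ⟨s, hs⟩ := hpow k _ hv'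
      rw [hk, LinearMap.zero_apply] at hs
      exact hv hs.symm
    have hu0 : u ≠ 0 := hb
    have hmem : u ∈ (LinearMap.range d.N).map d.N := ⟨d.N w, ⟨w, rfl⟩, rfl⟩
    have heq : (K ∙ u) = (LinearMap.range d.N).map d.N :=
      Submodule.eq_of_le_of_finrank_le ((Submodule.span_singleton_le_iff_mem _ _).2 hmem)
        (by rw [finrank_span_singleton hu0]; exact hmap)
    obtain ⟨t, ht⟩ := Submodule.mem_span_singleton.1
      (heq.ge (⟨d.N c, ⟨c, rfl⟩, hb'.symm⟩ : d.N w ∈ (LinearMap.range d.N).map d.N))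
    exact hb (by rw [hu, ← ht, map_smul, huk, smul_zero])
  have hsup : LinearMap.ker d.N ⊔ LinearMap.range d.N ⊔ (K ∙ w) = ⊤ := by
    have h1 := Submodule.finrank_sup_add_finrank_inf_eq (LinearMap.ker d.N) (LinearMap.range d.N)
    have hi : finrank K (LinearMap.ker d.N ⊓ LinearMap.range d.N : Submodule K V) < 2 := by
      rw [← h2]
      refine Submodule.finrank_lt_finrank_of_lt (lt_of_le_of_ne inf_le_left fun h => ?_)
      exact hne (Submodule.eq_of_le_of_finrank_le (inf_eq_left.1 h) (by omega)).symm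
    have h3' : finrank K (LinearMap.ker d.N ⊔ LinearMap.range d.N : Submodule K V) <
        finrank K (LinearMap.ker d.N ⊔ LinearMap.range d.N ⊔ (K ∙ w) : Submodule K V) :=
      Submodule.finrank_lt_finrank_of_lt (lt_of_le_of_ne le_sup_left fun h => hnot
        (h ▸ Submodule.mem_sup_right (Submodule.mem_span_singleton_self w)))
    refine Submodule.eq_top_of_finrank_eq ?_
    have := Submodule.finrank_le (LinearMap.ker d.N ⊔ LinearMap.range d.N ⊔ (K ∙ w))
    omega
  refine hb (d.nondeg u fun z => ?_)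
  have hz : z ∈ LinearMap.ker d.N ⊔ LinearMap.range d.N ⊔ (K ∙ w) := hsup ▸ Submodule.mem_top
  have hle' : LinearMap.ker d.N ⊔ LinearMap.range d.N ⊔ (K ∙ w) ≤ LinearMap.ker (d.ω u) := by
    refine sup_le (sup_le (fun a ha => ?_) ?_) ((Submodule.span_singleton_le_iff_mem _ _).2 h3)
    · rw [LinearMap.mem_ker, d.skew, hu, d.perp (LinearMap.mem_ker.1 ha), neg_zero]
    · rintro _ ⟨a, rfl⟩
      exact d.perp huk a
  exact LinearMap.mem_ker.1 (hle' hz)

/-! ### One block -/

variable (h1 : finrank K (LinearMap.ker d.N) = 1)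

include h1

theorem finrank_ker_pow_succ_le (i : ℕ) :
    finrank K (LinearMap.ker (d.N ^ (i + 1))) ≤ finrank K (LinearMap.ker (d.N ^ i)) + 1 := by
  let f : LinearMap.ker (d.N ^ (i + 1)) →ₗ[K] LinearMap.ker d.N :=
    ((d.N ^ i).domRestrict _).codRestrict _ fun a => by
      rw [LinearMap.mem_ker, LinearMap.domRestrict_apply, ← Module.End.mul_apply, ← pow_succ']
      exact a.2
  have hf := LinearMap.finrank_range_add_finrank_ker f
  have hr : finrank K (LinearMap.range f) ≤ 1 := (Submodule.finrank_le _).trans h1.le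
  let g : LinearMap.ker f →ₗ[K] LinearMap.ker (d.N ^ i) :=
    ((Submodule.subtype _).comp (Submodule.subtype _)).codRestrict _ fun a =>
      congrArg Subtype.val (LinearMap.mem_ker.1 a.2)
  have hker : finrank K (LinearMap.ker f) ≤ finrank K (LinearMap.ker (d.N ^ i)) :=
    LinearMap.finrank_le_finrank_of_injective (f := g) fun a b h =>
      Subtype.ext (Subtype.ext (by have h' := congrArg Subtype.val h; exact h'))
  omega

theorem finrank_ker_pow : ∀ i, i ≤ finrank K V → finrank K (LinearMap.ker (d.N ^ i)) = i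
  | 0, _ => by rw [pow_zero, Module.End.one_eq_id, LinearMap.ker_id, finrank_bot]
  | i + 1, hi => by
      have ih := finrank_ker_pow i (by omega)
      refine le_antisymm ((d.finrank_ker_pow_succ_le h1 i).trans (by omega)) ?_
      by_contra hlt
      push Not at hlt
      have heq : LinearMap.ker (d.N ^ (i + 1)) = LinearMap.ker (d.N ^ i) :=
        (Submodule.eq_of_le_of_finrank_le (fun a ha => by
          rw [LinearMap.mem_ker] at ha ⊢
          rw [pow_succ', Module.End.mul_apply, ha, map_zero]) (by omega)).symm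
      obtain ⟨k, hk⟩ := d.nil
      have hall : ∀ j, LinearMap.ker (d.N ^ (i + j)) ≤ LinearMap.ker (d.N ^ i) := by
        intro j
        induction j with
        | zero => simp
        | succ j ih' =>
          intro a ha
          rw [← heq]
          rw [LinearMap.mem_ker, ← add_assoc, d.pow_succ_apply] at ha
          rw [LinearMap.mem_ker, d.pow_succ_apply]
          exact ih' (LinearMap.mem_ker.2 ha)
      have htop : LinearMap.ker (d.N ^ i) = ⊤ := eq_top_iff.2 fun a _ => hall k (by
        rw [LinearMap.mem_ker, pow_add, hk, mul_zero, LinearMap.zero_apply])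
      rw [htop, finrank_top] at ih
      omega

theorem pow_finrank : d.N ^ finrank K V = 0 := by
  have h := d.finrank_ker_pow h1 _ le_rfl
  rw [← LinearMap.ker_eq_top]
  exact Submodule.eq_top_of_finrank_eq h

/-- The only invariant subspaces are the kernels of the powers. -/
theorem invariant_eq {W : Submodule K V} (hW : ∀ a ∈ W, d.N a ∈ W) {i : ℕ}
    (hi : finrank K W = i) : W = LinearMap.ker (d.N ^ i) := by
  have hiV : i ≤ finrank K V := hi ▸ Submodule.finrank_le W
  let d' : W →ₗ[K] W := d.N.restrict hW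
  have hinv : ∀ j, ∀ a : W, ((d' ^ j) a : V) = (d.N ^ j) a := by
    intro j
    induction j with
    | zero => simp
    | succ j ih =>
      intro a
      rw [pow_succ', pow_succ', Module.End.mul_apply, Module.End.mul_apply, ← ih]
      rfl
  have hnil : IsNilpotent d' := by
    obtain ⟨k, hk⟩ := d.nil
    exact ⟨k, LinearMap.ext fun a => Subtype.ext (by rw [hinv, hk]; rfl)⟩
  have hpow : d' ^ i = 0 := by
    have h := (LinearMap.isNilpotent_iff_charpoly d').1 hnil
    have := LinearMap.aeval_self_charpoly d'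
    rw [h, map_pow, Polynomial.aeval_X, hi] at this
    exact this
  refine Submodule.eq_of_le_of_finrank_le (fun a ha => ?_)
    (by rw [d.finrank_ker_pow h1 i hiV, hi])
  rw [LinearMap.mem_ker, ← hinv i ⟨a, ha⟩, hpow]
  rfl

theorem range_pow (i : ℕ) (hi : i ≤ finrank K V) :
    LinearMap.range (d.N ^ i) = LinearMap.ker (d.N ^ (finrank K V - i)) := by
  refine Submodule.eq_of_le_of_finrank_le ?_ ?_
  · rintro _ ⟨a, rfl⟩
    rw [LinearMap.mem_ker, ← Module.End.mul_apply, ← pow_add, Nat.sub_add_cancel hi,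
      d.pow_finrank h1, LinearMap.zero_apply]
  · have := LinearMap.finrank_range_add_finrank_ker (d.N ^ i)
    rw [d.finrank_ker_pow h1 i hi] at this
    rw [d.finrank_ker_pow h1 _ (Nat.sub_le _ _)]
    omega

/-- The small kernels are orthogonal to each other. -/
theorem ker_perp {i j : ℕ} (hij : i + j ≤ finrank K V) {a b : V} (ha : (d.N ^ i) a = 0)
    (hb : (d.N ^ j) b = 0) : d.ω a b = 0 := by
  have hb' : b ∈ LinearMap.range (d.N ^ i) := by
    rw [d.range_pow h1 i (by omega), LinearMap.mem_ker,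
      ← Nat.sub_add_cancel (show j ≤ finrank K V - i by omega), pow_add, Module.End.mul_apply, hb,
      map_zero]
  obtain ⟨c, rfl⟩ := hb'
  exact d.perp_pow i a ha c

end Symp

/-- The alternatives for the set where a quadratic function on `N⁻¹ U` vanishes only on `U`. -/
theorem Symp.dichotomy {p : ℕ} [Fact p.Prime] {V : Type*} [AddCommGroup V] [Module (ZMod p) V]
    [FiniteDimensional (ZMod p) V] [Nontrivial V] (hp : p ≠ 2) (d : Symp (ZMod p) V) (hN : d.N ≠ 0)
    (U : Submodule (ZMod p) V) (hU : U ≤ LinearMap.ker d.N)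
    (hiso : ∀ a ∈ U, ∀ b ∈ U, d.ω a b = 0) (f : V → ZMod p)
    (hf : ∀ a b, d.N a ∈ U → d.N b ∈ U → f (a + b) = f a + f b - d.ω a (d.N b))
    (hfU : ∀ u ∈ U, f u = 0) (h0 : ∀ a, d.N a ∈ U → f a = 0 → a ∈ U) :
    (U = ⊥ ∧ finrank (ZMod p) (LinearMap.ker d.N) = 1) ∨
      (U = LinearMap.ker d.N ∧ (finrank (ZMod p) (LinearMap.ker d.N) = 1 ∨
        (finrank (ZMod p) V = 4 ∧ LinearMap.range d.N = LinearMap.ker d.N ∧
          finrank (ZMod p) (LinearMap.ker d.N) = 2 ∧
          (∀ a, d.ω a (d.N a) = 0 → d.N a = 0) ∧ ∀ a, 2 * f a = -d.ω a (d.N a)))) := by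
  have hkU : ∀ k, d.N k = 0 → d.N k ∈ U := fun k hk => hk ▸ U.zero_mem
  have hkr : finrank (ZMod p) (LinearMap.ker d.N) ≠ 0 := fun h =>
    d.ker_ne_bot (Submodule.finrank_eq_zero.1 h)
  by_cases hk : ∃ k, d.N k = 0 ∧ k ∉ U
  · obtain ⟨k, hk, hkn⟩ := hk
    have hfk : f k ≠ 0 := fun h => hkn (h0 k (hkU k hk) h)
    let φ : LinearMap.ker d.N →ₗ[ZMod p] ZMod p := AddMonoidHom.toZModLinearMap p
      (AddMonoidHom.mk' (fun a => f a) fun a b => by
        show f ((a : V) + b) = _
        rw [hf _ _ (hkU _ a.2) (hkU _ b.2), LinearMap.mem_ker.1 b.2, map_zero, sub_zero])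
    have hφ : ∀ (k' : V) (hk' : d.N k' = 0) (t : ZMod p), f (t • k') = t * f k' := fun k' hk' t =>
      φ.map_smul t ⟨k', hk'⟩
    have hW : ∀ a, d.N a ∈ U → d.N a = 0 := by
      intro a ha
      have hki : d.N ((-(f a) / f k) • k) = 0 := by rw [map_smul, hk, smul_zero]
      have hz : f (a + (-(f a) / f k) • k) = 0 := by
        rw [hf a _ ha (hkU _ hki), hki, map_zero, sub_zero, hφ k hk, div_mul_cancel₀ _ hfk,
          add_neg_cancel]
      have := hU (h0 _ (by rw [map_add, hki, add_zero]; exact ha) hz)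
      rwa [LinearMap.mem_ker, map_add, hki, add_zero] at this
    have hdisj : U ⊓ LinearMap.range d.N = ⊥ := by
      rw [eq_bot_iff]
      rintro _ ⟨hu, a, rfl⟩
      exact hW a hu
    have hint : LinearMap.ker d.N ⊓ LinearMap.range d.N ≠ ⊥ := by
      intro h
      by_cases hle : LinearMap.range d.N ≤ LinearMap.ker d.N
      · rw [inf_eq_right.2 hle] at h
        exact hN (LinearMap.range_eq_bot.1 h)
      · obtain ⟨b, -, hb, hb2⟩ := d.exists_last (W := LinearMap.range d.N) (fun a _ => ⟨a, rfl⟩) hle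
        exact hb (eq_bot_iff.1 h ⟨hb2, b, rfl⟩)
    refine Or.inl ?_
    have hcodim : finrank (ZMod p) (LinearMap.ker d.N) ≤ finrank (ZMod p) U + 1 := by
      have := LinearMap.finrank_range_add_finrank_ker φ
      have := (Submodule.finrank_le (LinearMap.range φ)).trans (Module.finrank_self (ZMod p)).le
      have h4 : finrank (ZMod p) (LinearMap.ker φ) ≤ finrank (ZMod p) U :=
        LinearMap.finrank_le_finrank_of_injective
          (f := (((LinearMap.ker d.N).subtype).comp (LinearMap.ker φ).subtype).codRestrict U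
            fun a => h0 _ (hkU _ a.1.2) (LinearMap.mem_ker.1 a.2))
          fun a b h => Subtype.ext (Subtype.ext (by have h' := congrArg Subtype.val h; exact h'))
      omega
    set E := LinearMap.ker d.N ⊓ LinearMap.range d.N with hE
    have hUE : U ⊔ E = LinearMap.ker d.N := by
      refine Submodule.eq_of_le_of_finrank_le (sup_le hU inf_le_left) ?_
      have h1 := Submodule.finrank_sup_add_finrank_inf_eq U E
      have h2 : U ⊓ E = ⊥ := eq_bot_iff.2 ((le_inf inf_le_left (inf_le_right.trans inf_le_right)).trans hdisj.le)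
      rw [h2, finrank_bot] at h1
      have := Submodule.one_le_finrank_iff.2 hint
      omega
    have hUbot : U = ⊥ := by
      rw [eq_bot_iff, ← hdisj]
      refine le_inf le_rfl fun u hu => ?_
      rw [d.range_eq]
      intro a ha
      rw [← hUE] at ha
      obtain ⟨u', hu', e, he, rfl⟩ := Submodule.mem_sup.1 ha
      obtain ⟨c, hc⟩ := he.2
      rw [map_add, LinearMap.add_apply, hiso u' hu' u hu, zero_add, d.skew, ← hc,
        d.perp (LinearMap.mem_ker.1 (hU hu)), neg_zero]
    refine ⟨hUbot, ?_⟩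
    rw [hUbot, finrank_bot] at hcodim
    omega
  push Not at hk
  have hUk : U = LinearMap.ker d.N := le_antisymm hU fun k hk' => hk k (LinearMap.mem_ker.1 hk')
  refine Or.inr ⟨hUk, ?_⟩
  rcases Nat.eq_or_lt_of_le (Nat.one_le_iff_ne_zero.2 hkr) with h1 | h2
  · exact Or.inl h1.symm
  right
  have hkrange : LinearMap.ker d.N ≤ LinearMap.range d.N := by
    intro u hu
    rw [d.range_eq]
    exact fun a ha => hiso a (hUk ▸ ha) u (hUk ▸ hu)
  obtain ⟨σ, hσ⟩ := d.N.rangeRestrict.exists_rightInverse_of_surjective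
    d.N.range_rangeRestrict
  let τ : LinearMap.ker d.N →ₗ[ZMod p] V := σ.comp (Submodule.inclusion hkrange)
  have hτ : ∀ u, d.N (τ u) = u := fun u =>
    congrArg Subtype.val (LinearMap.congr_fun hσ (Submodule.inclusion hkrange u))
  have hτU : ∀ u, d.N (τ u) ∈ U := fun u => by rw [hτ, hUk]; exact u.2
  let B : LinearMap.BilinForm (ZMod p) (LinearMap.ker d.N) :=
    -(d.ω.compl₁₂ τ (LinearMap.ker d.N).subtype)
  have hB : ∀ u v, B u v = -d.ω (τ u) v := fun u v => rfl
  obtain ⟨hdim, haniso, hhalf⟩ := quad_single_zero hp B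
    (fun u v => by
      rw [hB, hB]
      conv_lhs => rw [← hτ v]
      rw [d.beta_symm (by rw [hτ]; exact v.2), hτ])
    (fun u => f (τ u))
    (fun u v => by rw [map_add, hf _ _ (hτU u) (hτU v), hB, hτ, sub_eq_add_neg])
    (fun u hu => by
      have h := hU (h0 _ (hτU u) hu)
      rw [LinearMap.mem_ker, hτ] at h
      exact Subtype.ext h) h2
  have hdec : ∀ a, d.N (d.N a) = 0 → ∃ u : LinearMap.ker d.N, ∃ k, d.N k = 0 ∧ a = τ u + k :=
    fun a ha => ⟨⟨d.N a, ha⟩, a - τ ⟨d.N a, ha⟩, by rw [map_sub, hτ, sub_self],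
      (add_sub_cancel _ _).symm⟩
  have hval : ∀ (u : LinearMap.ker d.N) (k : V), d.N k = 0 →
      d.ω (τ u + k) (d.N (τ u + k)) = -B u u := by
    intro u k hk'
    rw [map_add d.N, hk', add_zero, map_add, LinearMap.add_apply, d.perp hk', add_zero, hB, neg_neg, hτ]
  have hani : ∀ a, d.N (d.N a) = 0 → d.ω a (d.N a) = 0 → d.N a = 0 := by
    intro a ha h
    obtain ⟨u, k, hk', rfl⟩ := hdec a ha
    rw [hval u k hk', neg_eq_zero] at h
    rw [map_add, hk', add_zero, hτ, haniso u h]
    rfl
  have hsq : LinearMap.range d.N ≤ LinearMap.ker d.N := by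
    by_contra hle
    obtain ⟨b, ⟨c, rfl⟩, hb, hb2⟩ := d.exists_last (W := LinearMap.range d.N) (fun a _ => ⟨a, rfl⟩) hle
    exact hb (hani _ hb2 (by rw [d.skew, d.perp hb2, neg_zero]))
  have hRk := le_antisymm hsq hkrange
  have hNN : ∀ a, d.N (d.N a) = 0 := fun a => hsq ⟨a, rfl⟩
  refine ⟨?_, hRk, hdim, fun a h => hani a (hNN a) h, fun a => ?_⟩
  · have := LinearMap.finrank_range_add_finrank_ker d.N
    rw [hRk] at this
    omega
  · obtain ⟨u, k, hk', rfl⟩ := hdec a (hNN a)
    have h := hhalf u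
    rw [hval u k hk', hf _ _ (hτU u) (hkU _ hk'), hk', map_zero, sub_zero,
      hfU k (hUk ▸ LinearMap.mem_ker.2 hk'), add_zero, neg_neg]
    exact h

end CfsgLib.Fusion.ESReduce
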