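import Cfsg.Agent.Lib.Fusion.ExtraspecialCentre
import Cfsg.Agent.Lib.Fusion.ESReduce.Linear

/-!
The symplectic space `Q / Z(Q)` of an extraspecial subgroup `Q` of index `p` in `S`, with the
isometries induced by `S`.
-/

set_option autoImplicit false
set_option linter.style.haveILetI false
set_option linter.unusedVariables false
set_option linter.unusedSectionVars false

universe u

namespace CfsgLib.Fusion.ESReduce

open Cfsg Cfsg.FusionSystem Subgroup CfsgLib.Fusion.ESIndex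
open scoped commutatorElement

variable {Ω : Type u} [Group Ω] {S Q : Subgroup Ω} {p : ℕ} {z : Ω}

/-- The space `Q / Q'`. -/
abbrev Vt (Q : Subgroup Ω) : Type u := Additive (Abelianization Q)

open Classical in
/-- The projection of `Q` onto its space. -/
noncomputable def pr (Q : Subgroup Ω) (a : Ω) : Vt Q :=
  if h : a ∈ Q then Additive.ofMul (Abelianization.of ⟨a, h⟩) else 0

theorem pr_of {a : Ω} (h : a ∈ Q) : pr Q a = Additive.ofMul (Abelianization.of ⟨a, h⟩) := by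
  rw [pr, dif_pos h]

theorem pr_one : pr Q (1 : Ω) = 0 := by
  rw [pr_of Q.one_mem]
  exact map_one (Abelianization.of (G := Q))

theorem pr_mul {a b : Ω} (ha : a ∈ Q) (hb : b ∈ Q) : pr Q (a * b) = pr Q a + pr Q b := by
  rw [pr_of ha, pr_of hb, pr_of (Q.mul_mem ha hb)]
  exact map_mul (Abelianization.of (G := Q)) ⟨a, ha⟩ ⟨b, hb⟩

theorem pr_inv {a : Ω} (ha : a ∈ Q) : pr Q a⁻¹ = -pr Q a := by
  rw [pr_of ha, pr_of (Q.inv_mem ha)]
  exact map_inv (Abelianization.of (G := Q)) ⟨a, ha⟩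

theorem pr_pow {a : Ω} (ha : a ∈ Q) (n : ℕ) : pr Q (a ^ n) = n • pr Q a := by
  induction n with
  | zero => rw [pow_zero, pr_one, zero_smul]
  | succ n ih => rw [pow_succ, pr_mul (Q.pow_mem ha n) ha, ih, succ_nsmul]

theorem exists_pr (v : Vt Q) : ∃ a ∈ Q, pr Q a = v := by
  obtain ⟨⟨a, ha⟩, hv⟩ := QuotientGroup.mk'_surjective (commutator Q) (Additive.toMul v)
  exact ⟨a, ha, by rw [pr_of ha]; exact congrArg Additive.ofMul hv⟩

/-- A chosen preimage. -/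
noncomputable def lift (v : Vt Q) : Ω := (exists_pr v).choose

theorem lift_mem (v : Vt Q) : lift v ∈ Q := (exists_pr v).choose_spec.1

theorem pr_lift (v : Vt Q) : pr Q (lift v) = v := (exists_pr v).choose_spec.2

/-- The powers of `z`, indexed by residues. -/
def ez (p : ℕ) (z : Ω) (t : ZMod p) : Ω := z ^ t.val

/-- The exponent of a power of `z`. -/
noncomputable def zlog (p : ℕ) [NeZero p] (z a : Ω) : ZMod p := Function.invFun (ez p z) a

/-- The data. -/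
structure Frame (p : ℕ) (S Q : Subgroup Ω) (z : Ω) : Prop where
  st : Setting p S Q
  hp : p ≠ 2
  hne : zS S = zQ Q
  hz : z ∈ zQ Q
  hz1 : z ≠ 1
  h6 : p ^ 6 ≤ Nat.card S

namespace Frame

variable [Fact p.Prime] [Finite S] (fr : Frame p S Q z)

include fr

theorem finQ : Finite Q := finite_Q fr.st

theorem memS {a : Ω} (ha : a ∈ Q) : a ∈ S := fr.st.hQS ha

theorem z_mem : z ∈ Q := zQ_le fr.st fr.hz

theorem z_comm {a : Ω} (ha : a ∈ S) : a * z = z * a := zQ_central fr.st ha fr.hz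

theorem z_pow : z ^ p = 1 := pow_p_zQ fr.st fr.hz

theorem orderOf_z : orderOf z = p := orderOf_eq_prime fr.z_pow fr.hz1

theorem ez_mem (t : ZMod p) : ez p z t ∈ zQ Q := pow_mem fr.hz _

theorem ez_memQ (t : ZMod p) : ez p z t ∈ Q := zQ_le fr.st (fr.ez_mem t)

theorem ez_natCast (n : ℕ) : ez p z (n : ZMod p) = z ^ n := by
  rw [ez, ZMod.val_natCast, ← fr.orderOf_z, pow_mod_orderOf]

theorem ez_zero : ez p z (0 : ZMod p) = 1 := by simp [ez]

theorem ez_one : ez p z (1 : ZMod p) = z := by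
  simpa using fr.ez_natCast 1

theorem ez_add (s t : ZMod p) : ez p z (s + t) = ez p z s * ez p z t := by
  rw [← ZMod.natCast_zmod_val s, ← ZMod.natCast_zmod_val t, ← Nat.cast_add, fr.ez_natCast,
    fr.ez_natCast, fr.ez_natCast, pow_add]

theorem ez_neg (s : ZMod p) : ez p z (-s) = (ez p z s)⁻¹ :=
  eq_inv_of_mul_eq_one_left (by rw [← fr.ez_add, neg_add_cancel, fr.ez_zero])

theorem ez_inj : Function.Injective (ez p z) := fun s t h => ZMod.val_injective p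
  (pow_injOn_Iio_orderOf (by simpa [fr.orderOf_z] using s.val_lt)
    (by simpa [fr.orderOf_z] using t.val_lt) h)

theorem ez_pow (s : ZMod p) (n : ℕ) : ez p z s ^ n = ez p z (n * s) := by
  induction n with
  | zero => simp [fr.ez_zero]
  | succ n ih => rw [pow_succ, ih, ← fr.ez_add, Nat.cast_succ, add_one_mul]

theorem zlog_ez (t : ZMod p) : zlog p z (ez p z t) = t := Function.leftInverse_invFun fr.ez_inj t

theorem exists_ez {a : Ω} (ha : a ∈ zQ Q) : ∃ t, a = ez p z t := by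
  obtain ⟨k, hk⟩ := exists_pow fr.st fr.hz fr.hz1 ha
  exact ⟨k, by rw [fr.ez_natCast, hk]⟩

theorem ez_zlog {a : Ω} (ha : a ∈ zQ Q) : ez p z (zlog p z a) = a := by
  obtain ⟨t, rfl⟩ := fr.exists_ez ha
  rw [fr.zlog_ez]

theorem ez_comm {a : Ω} (ha : a ∈ S) (t : ZMod p) : a * ez p z t = ez p z t * a :=
  zQ_central fr.st ha (fr.ez_mem t)

theorem commQ {a b : Ω} (ha : a ∈ Q) (hb : b ∈ Q) : ⁅a, b⁆ ∈ zQ Q := by
  rw [commutatorElement_def]
  exact commutator_mem fr.st ha hb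

theorem pr_eq_zero {a : Ω} (ha : a ∈ Q) : pr Q a = 0 ↔ a ∈ zQ Q := by
  rw [pr_of ha, ← ofMul_one, Additive.ofMul.apply_eq_iff_eq, ← MonoidHom.mem_ker,
    Abelianization.ker_of, fr.st.hQ.1.2.2]
  exact ⟨fun h => ⟨_, h, rfl⟩, by rintro ⟨b, hb, he⟩; rwa [← Subtype.ext (a1 := b) (a2 := ⟨a, ha⟩) he]⟩

theorem pr_z : pr Q z = 0 := (fr.pr_eq_zero fr.z_mem).2 fr.hz

theorem pr_ez (t : ZMod p) : pr Q (ez p z t) = 0 := (fr.pr_eq_zero (fr.ez_memQ t)).2 (fr.ez_mem t)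

theorem pr_eq {a b : Ω} (ha : a ∈ Q) (hb : b ∈ Q) (h : pr Q a = pr Q b) :
    ∃ t, b = a * ez p z t := by
  have h1 : pr Q (a⁻¹ * b) = 0 := by
    rw [pr_mul (Q.inv_mem ha) hb, pr_inv ha, h, neg_add_cancel]
  obtain ⟨t, ht⟩ := fr.exists_ez ((fr.pr_eq_zero (Q.mul_mem (Q.inv_mem ha) hb)).1 h1)
  exact ⟨t, by rw [← ht, mul_inv_cancel_left]⟩

theorem smul_p_eq_zero (v : Vt Q) : p • v = 0 := by
  obtain ⟨a, ha, rfl⟩ := exists_pr v
  rw [← pr_pow ha, fr.pr_eq_zero (Q.pow_mem ha p)]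
  exact pow_mem fr.st ha

theorem comm_mul_left {a b c : Ω} (ha : a ∈ Q) (hb : b ∈ Q) (hc : c ∈ Q) :
    ⁅a * b, c⁆ = ⁅a, c⁆ * ⁅b, c⁆ := by
  obtain ⟨s, hs⟩ := fr.exists_ez (fr.commQ hb hc)
  obtain ⟨t, ht⟩ := fr.exists_ez (fr.commQ ha hc)
  have h1 : ⁅a * b, c⁆ = a * ⁅b, c⁆ * a⁻¹ * ⁅a, c⁆ := by
    simp only [commutatorElement_def]; group
  rw [h1, hs, fr.ez_comm (fr.memS ha), mul_inv_cancel_right, ht, ← fr.ez_add, ← fr.ez_add,
    add_comm]

theorem comm_mul_right {a b c : Ω} (ha : a ∈ Q) (hb : b ∈ Q) (hc : c ∈ Q) :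
    ⁅a, b * c⁆ = ⁅a, b⁆ * ⁅a, c⁆ := by
  obtain ⟨s, hs⟩ := fr.exists_ez (fr.commQ ha hc)
  obtain ⟨t, ht⟩ := fr.exists_ez (fr.commQ ha hb)
  have h1 : ⁅a, b * c⁆ = ⁅a, b⁆ * (b * ⁅a, c⁆ * b⁻¹) := by
    simp only [commutatorElement_def]; group
  rw [h1, hs, fr.ez_comm (fr.memS hb), mul_inv_cancel_right]

theorem comm_congr {a b c e : Ω} (ha : a ∈ Q) (hb : b ∈ Q) (hc : c ∈ Q) (he : e ∈ Q)
    (h1 : pr Q a = pr Q c) (h2 : pr Q b = pr Q e) : ⁅a, b⁆ = ⁅c, e⁆ := by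
  obtain ⟨s, rfl⟩ := fr.pr_eq ha hc h1
  obtain ⟨t, rfl⟩ := fr.pr_eq hb he h2
  have hz' : ∀ r, ∀ q ∈ Q, ⁅ez p z r, q⁆ = 1 ∧ ⁅q, ez p z r⁆ = 1 := fun r q hq =>
    ⟨commutatorElement_eq_one_iff_mul_comm.2 (fr.ez_comm (fr.memS hq) r).symm,
      commutatorElement_eq_one_iff_mul_comm.2 (fr.ez_comm (fr.memS hq) r)⟩
  rw [fr.comm_mul_left ha (fr.ez_memQ s) he, (hz' s _ he).1, mul_one,
    fr.comm_mul_right ha hb (fr.ez_memQ t), (hz' t _ ha).2, mul_one]

variable [Module (ZMod p) (Vt Q)]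

/-- The commutator form. -/
noncomputable def form : LinearMap.BilinForm (ZMod p) (Vt Q) :=
  AddMonoidHom.toZModLinearMap p (AddMonoidHom.mk'
    (fun a => AddMonoidHom.toZModLinearMap p (AddMonoidHom.mk'
      (fun b => zlog p z ⁅lift a, lift b⁆) fun b c => by
        show zlog p z ⁅lift a, lift (b + c)⁆ = _
        rw [fr.comm_congr (lift_mem a) (lift_mem _) (lift_mem a) (Q.mul_mem (lift_mem b) (lift_mem c))
          rfl (by rw [pr_mul (lift_mem b) (lift_mem c), pr_lift, pr_lift, pr_lift]),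
          fr.comm_mul_right (lift_mem a) (lift_mem b) (lift_mem c)]
        obtain ⟨s, hs⟩ := fr.exists_ez (fr.commQ (lift_mem a) (lift_mem b))
        obtain ⟨t, ht⟩ := fr.exists_ez (fr.commQ (lift_mem a) (lift_mem c))
        rw [hs, ht, ← fr.ez_add, fr.zlog_ez, fr.zlog_ez, fr.zlog_ez]))
    fun a a' => LinearMap.ext fun b => by
      show zlog p z ⁅lift (a + a'), lift b⁆ = zlog p z ⁅lift a, lift b⁆ + zlog p z ⁅lift a', lift b⁆
      rw [fr.comm_congr (lift_mem _) (lift_mem b) (Q.mul_mem (lift_mem a) (lift_mem a')) (lift_mem b)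
        (by rw [pr_mul (lift_mem a) (lift_mem a'), pr_lift, pr_lift, pr_lift]) rfl,
        fr.comm_mul_left (lift_mem a) (lift_mem a') (lift_mem b)]
      obtain ⟨s, hs⟩ := fr.exists_ez (fr.commQ (lift_mem a) (lift_mem b))
      obtain ⟨t, ht⟩ := fr.exists_ez (fr.commQ (lift_mem a') (lift_mem b))
      rw [hs, ht, ← fr.ez_add, fr.zlog_ez, fr.zlog_ez, fr.zlog_ez])

theorem comm_eq {a b : Ω} (ha : a ∈ Q) (hb : b ∈ Q) :
    ⁅a, b⁆ = ez p z (fr.form (pr Q a) (pr Q b)) := by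
  show _ = ez p z (zlog p z ⁅lift (pr Q a), lift (pr Q b)⁆)
  rw [fr.ez_zlog (fr.commQ (lift_mem _) (lift_mem _))]
  exact fr.comm_congr ha hb (lift_mem _) (lift_mem _) (pr_lift _).symm (pr_lift _).symm

theorem comm_iff {a b : Ω} (ha : a ∈ Q) (hb : b ∈ Q) :
    a * b = b * a ↔ fr.form (pr Q a) (pr Q b) = 0 := by
  rw [← commutatorElement_eq_one_iff_mul_comm, fr.comm_eq ha hb, ← fr.ez_zero]
  exact fr.ez_inj.eq_iff

theorem mul_swap {a b : Ω} (ha : a ∈ Q) (hb : b ∈ Q) :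
    a * b = ez p z (fr.form (pr Q a) (pr Q b)) * b * a := by
  rw [← fr.comm_eq ha hb, commutatorElement_def]
  group

theorem form_alt (v : Vt Q) : fr.form v v = 0 := by
  obtain ⟨a, ha, rfl⟩ := exists_pr v
  exact (fr.comm_iff ha ha).1 rfl

theorem form_nondeg (v : Vt Q) (h : ∀ w, fr.form v w = 0) : v = 0 := by
  obtain ⟨a, ha, rfl⟩ := exists_pr v
  exact (fr.pr_eq_zero ha).2 (mem_zQ fr.st ha fun b hb => ((fr.comm_iff ha hb).2 (h _)).symm)

/-- Conjugation by an element of `S`, on the space. -/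
noncomputable def cj (g : Ω) (hg : g ∈ S) : Module.End (ZMod p) (Vt Q) :=
  AddMonoidHom.toZModLinearMap p (MonoidHom.toAdditive (Abelianization.map
    (Q.normalizerMonoidHom ⟨g, Q_normal fr.st hg⟩).toMonoidHom))

theorem conj_memQ {g a : Ω} (hg : g ∈ S) (ha : a ∈ Q) : g * a * g⁻¹ ∈ Q :=
  ((Q_normal fr.st hg) a).1 ha

theorem cj_pr {g a : Ω} (hg : g ∈ S) (ha : a ∈ Q) :
    fr.cj g hg (pr Q a) = pr Q (g * a * g⁻¹) := by
  rw [pr_of ha, pr_of (fr.conj_memQ hg ha)]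
  rfl

theorem cj_mul {g h : Ω} (hg : g ∈ S) (hh : h ∈ S) :
    fr.cj (g * h) (S.mul_mem hg hh) = fr.cj g hg * fr.cj h hh := by
  refine LinearMap.ext fun v => ?_
  obtain ⟨a, ha, rfl⟩ := exists_pr v
  rw [Module.End.mul_apply, fr.cj_pr (S.mul_mem hg hh) ha, fr.cj_pr hh ha,
    fr.cj_pr hg (fr.conj_memQ hh ha)]
  congr 1
  group

theorem cj_of_memQ {g : Ω} (hg : g ∈ Q) : fr.cj g (fr.memS hg) = 1 := by
  refine LinearMap.ext fun v => ?_
  obtain ⟨a, ha, rfl⟩ := exists_pr v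
  rw [Module.End.one_apply, fr.cj_pr (fr.memS hg) ha, pr_mul (Q.mul_mem hg ha) (Q.inv_mem hg),
    pr_mul hg ha, pr_inv hg]
  abel

theorem cj_congr {g h : Ω} (e : g = h) (hg : g ∈ S) : fr.cj g hg = fr.cj h (e ▸ hg) := by
  subst e; rfl

theorem cj_pow {g : Ω} (hg : g ∈ S) (n : ℕ) : fr.cj (g ^ n) (S.pow_mem hg n) = fr.cj g hg ^ n := by
  induction n with
  | zero => rw [pow_zero (fr.cj g hg), fr.cj_congr (pow_zero g) (S.pow_mem hg 0)]; exact fr.cj_of_memQ Q.one_mem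
  | succ n ih =>
    rw [fr.cj_congr (pow_succ g n) (S.pow_mem hg _), fr.cj_mul (S.pow_mem hg n) hg, ih, pow_succ]

theorem cj_form {g : Ω} (hg : g ∈ S) (v w : Vt Q) :
    fr.form (fr.cj g hg v) (fr.cj g hg w) = fr.form v w := by
  obtain ⟨a, ha, rfl⟩ := exists_pr v
  obtain ⟨b, hb, rfl⟩ := exists_pr w
  rw [fr.cj_pr hg ha, fr.cj_pr hg hb]
  refine fr.ez_inj ?_
  rw [← fr.comm_eq ha hb, ← fr.comm_eq (fr.conj_memQ hg ha) (fr.conj_memQ hg hb)]
  have h1 : ⁅g * a * g⁻¹, g * b * g⁻¹⁆ = g * ⁅a, b⁆ * g⁻¹ := by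
    simp only [commutatorElement_def]; group
  rw [h1, zQ_central fr.st hg (fr.commQ ha hb), mul_inv_cancel_right]

theorem subgroupOf_normal : (Q.subgroupOf S).Normal :=
  ⟨fun a ha g => fr.conj_memQ g.2 ha⟩

theorem S_pow_mem {g : Ω} (hg : g ∈ S) : g ^ p ∈ Q := by
  haveI := fr.subgroupOf_normal
  have h := (Q.subgroupOf S).pow_index_mem (⟨g, hg⟩ : S)
  rw [fr.st.hQi] at h
  exact h

theorem pow_char (f : Module.End (ZMod p) (Vt Q)) : (f + 1) ^ p = f ^ p + 1 := by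
  rw [(Commute.one_right f).add_pow_prime_eq (Fact.out : p.Prime), one_pow]
  have h : (p : Module.End (ZMod p) (Vt Q)) = 0 := by
    rw [← map_natCast (algebraMap (ZMod p) (Module.End (ZMod p) (Vt Q))), ZMod.natCast_self, map_zero]
  rw [h, zero_mul, zero_mul, zero_mul, add_zero]

theorem cj_sub_pow {g : Ω} (hg : g ∈ S) : (fr.cj g hg - 1) ^ p = 0 := by
  have h := fr.pow_char (fr.cj g hg - 1)
  rw [sub_add_cancel, ← fr.cj_pow hg p, fr.cj_of_memQ (fr.S_pow_mem hg)] at h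
  simpa using h.symm

/-- The space with the action of `x`. -/
noncomputable def symp {x : Ω} (hx : x ∈ S) : Symp (ZMod p) (Vt Q) where
  ω := fr.form
  N := fr.cj x hx - 1
  alt := fr.form_alt
  nondeg := fr.form_nondeg
  nil := ⟨p, fr.cj_sub_pow hx⟩
  inv a b := by
    rw [LinearMap.sub_apply, LinearMap.sub_apply, Module.End.one_apply, Module.End.one_apply,
      add_sub_cancel, add_sub_cancel, fr.cj_form hx]

theorem N_pr {x a : Ω} (hx : x ∈ S) (ha : a ∈ Q) :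
    (fr.symp hx).N (pr Q a) = pr Q (x * a * x⁻¹ * a⁻¹) := by
  show fr.cj x hx (pr Q a) - pr Q a = _
  rw [fr.cj_pr hx ha, pr_mul (fr.conj_memQ hx ha) (Q.inv_mem ha), pr_inv ha, sub_eq_add_neg]

theorem comm_memQ {g a : Ω} (hg : g ∈ S) (ha : a ∈ Q) : g * a * g⁻¹ * a⁻¹ ∈ Q :=
  Q.mul_mem (fr.conj_memQ hg ha) (Q.inv_mem ha)

theorem N_eq_zero_iff {x a : Ω} (hx : x ∈ S) (ha : a ∈ Q) :
    (fr.symp hx).N (pr Q a) = 0 ↔ x * a * x⁻¹ * a⁻¹ ∈ zQ Q := by
  rw [fr.N_pr hx ha, fr.pr_eq_zero (fr.comm_memQ hx ha)]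

theorem card_S : Nat.card S = Nat.card Q * p := by
  rw [← Nat.card_congr (Subgroup.subgroupOfEquivOfLe fr.st.hQS).toEquiv, ← fr.st.hQi,
    Subgroup.card_mul_index]

theorem finite_Vt : Finite (Vt Q) := by
  haveI := fr.finQ
  exact Finite.of_surjective (fun a : Q => pr Q (a : Ω)) fun v =>
    let ⟨a, ha, h⟩ := exists_pr v; ⟨⟨a, ha⟩, h⟩

theorem card_Q : Nat.card Q = p ^ (Module.finrank (ZMod p) (Vt Q) + 1) := by
  haveI := fr.finite_Vt
  haveI := fr.finQ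
  have h1 := Subgroup.card_mul_index (commutator Q)
  rw [fr.st.hQ.1.2.2, fr.st.hQ.2, Subgroup.index_eq_card] at h1
  have h2 : Nat.card (Vt Q) = p ^ Module.finrank (ZMod p) (Vt Q) := by
    rw [Module.natCard_eq_pow_finrank (K := ZMod p), Nat.card_zmod]
  have h3 : Nat.card (Vt Q) = Nat.card (Q ⧸ Subgroup.center Q) := by
    show Nat.card (Q ⧸ commutator Q) = _
    rw [fr.st.hQ.1.2.2]
  rw [pow_succ', ← h2, h3, h1]

theorem four_le : 4 ≤ Module.finrank (ZMod p) (Vt Q) := by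
  have h := fr.h6
  rw [fr.card_S, fr.card_Q, ← pow_succ] at h
  have := (Nat.pow_le_pow_iff_right (Fact.out : p.Prime).one_lt).1 h
  omega

end Frame

end CfsgLib.Fusion.ESReduce
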