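import Cfsg.Agent.Lib.Fusion.ESReduce.Chain

/-!
Two groups of order `p ^ 6` with the same relations are isomorphic.
-/

set_option autoImplicit false
set_option linter.unusedSectionVars false

namespace CfsgLib.Fusion.ESReduce

variable {G H : Type*} [Group G] [Group H] {p : ℕ}

theorem finite_of_card [hp : Fact p.Prime] (h : Nat.card G = p ^ 6) : Finite G :=
  Nat.finite_of_card_ne_zero (by rw [h]; exact pow_ne_zero _ hp.out.ne_zero)

/-- Isomorphism from a small subdirect subgroup with full projections. -/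
theorem iso_of_diag [Finite G] [Finite H] {n : ℕ} (K : Subgroup (G × H)) (hK : Nat.card K ≤ n)
    (hG : Nat.card G = n) (hH : Nat.card H = n) (h1 : K.map (MonoidHom.fst G H) = ⊤)
    (h2 : K.map (MonoidHom.snd G H) = ⊤) : Nonempty (G ≃* H) := by
  let f := (MonoidHom.fst G H).comp K.subtype
  let g := (MonoidHom.snd G H).comp K.subtype
  have hf : Function.Surjective f := by
    rw [← MonoidHom.range_eq_top, MonoidHom.range_eq_map, ← Subgroup.map_map, ← MonoidHom.range_eq_map,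
      Subgroup.range_subtype, h1]
  have hg : Function.Surjective g := by
    rw [← MonoidHom.range_eq_top, MonoidHom.range_eq_map, ← Subgroup.map_map, ← MonoidHom.range_eq_map,
      Subgroup.range_subtype, h2]
  have ef := hf.bijective_of_nat_card_le (hK.trans_eq hG.symm)
  have eg := hg.bijective_of_nat_card_le (hK.trans_eq hH.symm)
  exact ⟨(MulEquiv.ofBijective f ef).symm.trans (MulEquiv.ofBijective g eg)⟩

theorem prod_commute {a b : G} {c d : H} (h1 : Commute a b) (h2 : Commute c d) : Commute (a, c) (b, d) :=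
  Prod.ext h1.eq h2.eq

theorem oneBlock_iso [Fact p.Prime] (hG : IsOneBlock p G) (hH : IsOneBlock p H) : Nonempty (G ≃* H) := by
  obtain ⟨x, v₀, v₁, v₂, v₃, z, h, hc, hcl⟩ := hG
  obtain ⟨x', w₀, w₁, w₂, w₃, z', k, kc, kcl⟩ := hH
  haveI := finite_of_card hc
  haveI := finite_of_card kc
  have hP : OneBlock p (x, x') (v₀, w₀) (v₁, w₁) (v₂, w₂) (v₃, w₃) (z, z') :=
    ⟨Prod.ext h.px k.px, Prod.ext h.pv₀ k.pv₀, Prod.ext h.pv₁ k.pv₁, Prod.ext h.pv₂ k.pv₂,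
      Prod.ext h.pv₃ k.pv₃, Prod.ext h.pz k.pz, Prod.ext h.xv₀ k.xv₀, Prod.ext h.xv₁ k.xv₁,
      Prod.ext h.xv₂ k.xv₂, prod_commute h.xv₃ k.xv₃, prod_commute h.v₀v₁ k.v₀v₁, Prod.ext h.v₀v₂ k.v₀v₂,
      Prod.ext h.v₀v₃ k.v₀v₃, Prod.ext h.v₁v₂ k.v₁v₂, prod_commute h.v₁v₃ k.v₁v₃, prod_commute h.v₂v₃ k.v₂v₃,
      prod_commute h.zx k.zx, prod_commute h.zv₀ k.zv₀, prod_commute h.zv₁ k.zv₁, prod_commute h.zv₂ k.zv₂,
      prod_commute h.zv₃ k.zv₃⟩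
  exact iso_of_diag _ hP.closure_le.2 hc kc (by rw [map_six]; exact hcl) (by rw [map_six]; exact kcl)

theorem zpow_congr [hp : Fact p.Prime] {z : G} (hz : z ^ p = 1) {a b : ℤ} (h : (a : ZMod p) = b) :
    z ^ a = z ^ b := by
  obtain ⟨k, hk⟩ := (ZMod.intCast_eq_intCast_iff_dvd_sub a b p).1 h
  have hb : b = a + p * k := by rw [← hk]; ring
  rw [hb, zpow_add, zpow_mul, zpow_natCast, hz, one_zpow, mul_one]

/-- replacing `v₂` by a power -/
theorem TwoBlock.rescale [Fact p.Prime] {ε : ℤ} {x v₁ v₂ u₁ u₂ z : G} (h : TwoBlock p ε x v₁ v₂ u₁ u₂ z)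
    (c : ℕ) : ∃ (k : ℕ), TwoBlock p ((c : ℤ) ^ 2 * ε) x v₁ (v₂ ^ c) u₁ (u₂ ^ c * (z ^ ε) ^ k) z ∧
      x * v₂ ^ c = v₂ ^ c * (u₂ ^ c * (z ^ ε) ^ k) * x := by
  have hw : ∀ {g : G}, Commute z g → Commute (z ^ ε) g := fun hg => hg.zpow_left ε
  have hvu : ∀ a b : ℕ, v₂ ^ a * u₂ ^ b = (z ^ ε) ^ (a * b) * u₂ ^ b * v₂ ^ a := by
    have h1 : ∀ b : ℕ, v₂ * u₂ ^ b = (z ^ ε) ^ b * u₂ ^ b * v₂ := by
      intro b
      induction b with
      | zero => simp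
      | succ b ih =>
        calc v₂ * u₂ ^ (b + 1) = v₂ * u₂ ^ b * u₂ := by rw [pow_succ, mul_assoc]
          _ = (z ^ ε) ^ b * u₂ ^ b * (v₂ * u₂) := by rw [ih]; simp only [mul_assoc]
          _ = (z ^ ε) ^ b * (u₂ ^ b * z ^ ε) * u₂ * v₂ := by rw [h.v₂u₂]; simp only [mul_assoc]
          _ = _ := by rw [← ((hw h.zu₂).pow_right b).eq, pow_succ, pow_succ]; simp only [mul_assoc]
    intro a b
    induction a with
    | zero => simp
    | succ a ih =>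
      calc v₂ ^ (a + 1) * u₂ ^ b = v₂ ^ a * (v₂ * u₂ ^ b) := by rw [pow_succ, mul_assoc]
        _ = v₂ ^ a * (z ^ ε) ^ b * (u₂ ^ b * v₂) := by rw [h1]; simp only [mul_assoc]
        _ = (z ^ ε) ^ b * (v₂ ^ a * u₂ ^ b) * v₂ := by
          rw [← ((hw h.zv₂).pow_pow b a).eq]; simp only [mul_assoc]
        _ = _ := by rw [ih, pow_succ v₂, add_mul, one_mul, add_comm, pow_add]; simp only [mul_assoc]
  obtain ⟨k, hk⟩ : ∃ k : ℕ, (v₂ * u₂) ^ c = v₂ ^ c * (u₂ ^ c * (z ^ ε) ^ k) := by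
    have hp1 : (z ^ ε) ^ p = 1 := by
      rw [← zpow_natCast, ← zpow_mul, mul_comm, zpow_mul, zpow_natCast, h.pz, one_zpow]
    induction c with
    | zero => exact ⟨0, by simp⟩
    | succ c ih =>
      obtain ⟨k, hk⟩ := ih
      have hp0 := (Fact.out : p.Prime).pos
      refine ⟨k + c * (p - 1), ?_⟩
      have e1 : u₂ ^ c * v₂ = (z ^ ε) ^ (c * (p - 1)) * (v₂ * u₂ ^ c) := by
        have h2 : v₂ * u₂ ^ c = (z ^ ε) ^ c * u₂ ^ c * v₂ := by simpa using hvu 1 c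
        rw [h2, ← mul_assoc, ← mul_assoc, ← pow_add, show c * (p - 1) + c = p * c by
          rw [← Nat.mul_succ, Nat.succ_eq_add_one, Nat.sub_add_cancel hp0, mul_comm], pow_mul, hp1, one_pow,
          one_mul]
      have cm : ∀ (i : ℕ) {g : G}, Commute z g → (z ^ ε) ^ i * g = g * (z ^ ε) ^ i :=
        fun i g hg => ((hw hg).pow_left i).eq
      calc (v₂ * u₂) ^ (c + 1) = v₂ ^ c * (u₂ ^ c * ((z ^ ε) ^ k * v₂)) * u₂ := by
            rw [pow_succ, hk]; simp only [mul_assoc]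
        _ = v₂ ^ c * (u₂ ^ c * v₂) * ((z ^ ε) ^ k * u₂) := by rw [cm k h.zv₂]; simp only [mul_assoc]
        _ = v₂ ^ c * ((z ^ ε) ^ (c * (p - 1)) * (v₂ * u₂ ^ c)) * (u₂ * (z ^ ε) ^ k) := by rw [e1, cm k h.zu₂]
        _ = v₂ ^ c * v₂ * ((z ^ ε) ^ (c * (p - 1)) * (u₂ ^ c * u₂)) * (z ^ ε) ^ k := by
            rw [← mul_assoc ((z ^ ε) ^ (c * (p - 1))) v₂, cm _ h.zv₂]; simp only [mul_assoc]
        _ = v₂ ^ (c + 1) * (u₂ ^ (c + 1) * (z ^ ε) ^ (k + c * (p - 1))) := by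
            rw [← pow_succ, ← pow_succ u₂, cm _ (h.zu₂.pow_right _), add_comm k, pow_add (z ^ ε)]
            simp only [mul_assoc]
  have hx : x * v₂ ^ c = v₂ ^ c * (u₂ ^ c * (z ^ ε) ^ k) * x := by
    rw [← hk]
    exact (show SemiconjBy x v₂ (v₂ * u₂) from h.xv₂).pow_right c
  refine ⟨k, ?_, hx⟩
  refine ⟨h.px, h.pv₁, ?_, h.pu₁, ?_, h.pz, h.xv₁, hx, h.xu₁,
    (h.xu₂.pow_right c).mul_right ((h.zx.symm.zpow_right ε).pow_right k), h.v₁v₂.pow_right c,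
    (h.u₁u₂.pow_right c).mul_right ((h.zu₁.symm.zpow_right ε).pow_right k), h.v₁u₁,
    (h.v₁u₂.pow_right c).mul_right ((h.zv₁.symm.zpow_right ε).pow_right k), h.v₂u₁.pow_left c, ?_, h.zx, h.zv₁,
    h.zv₂.pow_right c, h.zu₁,
    (h.zu₂.pow_right c).mul_right (((Commute.refl z).zpow_right ε).pow_right k)⟩
  · rw [← pow_mul, mul_comm, pow_mul, h.pv₂, one_pow]
  · rw [(((hw h.zu₂).symm).pow_pow c k).mul_pow, ← pow_mul, mul_comm c, pow_mul, h.pu₂, one_pow, one_mul,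
      ← pow_mul, mul_comm k, pow_mul, ← zpow_natCast (z ^ ε), ← zpow_mul, mul_comm, zpow_mul, zpow_natCast,
      h.pz, one_zpow, one_pow]
  · have h2 := hvu c c
    have h3 : (z ^ ε) ^ (c * c) = z ^ ((c : ℤ) ^ 2 * ε) := by
      rw [← zpow_natCast, ← zpow_mul]
      congr 1
      push_cast
      ring
    rw [← mul_assoc, h2, h3, mul_assoc _ (v₂ ^ c), ((hw h.zv₂).pow_pow k c).symm.eq]
    simp only [mul_assoc]

theorem twoBlock_iso_same [Fact p.Prime] [Finite G] [Finite H] {ε ε' : ℤ} (he : (ε : ZMod p) = ε')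
    {x v₁ v₂ u₁ u₂ z : G} {x' w₁ w₂ t₁ t₂ z' : H} (h : TwoBlock p ε x v₁ v₂ u₁ u₂ z)
    (k : TwoBlock p ε' x' w₁ w₂ t₁ t₂ z') (hc : Nat.card G = p ^ 6) (kc : Nat.card H = p ^ 6)
    (hcl : Subgroup.closure {x, v₁, v₂, u₁, u₂, z} = ⊤)
    (kcl : Subgroup.closure {x', w₁, w₂, t₁, t₂, z'} = ⊤) : Nonempty (G ≃* H) := by
  have hP : TwoBlock p ε (x, x') (v₁, w₁) (v₂, w₂) (u₁, t₁) (u₂, t₂) (z, z') :=
    ⟨Prod.ext h.px k.px, Prod.ext h.pv₁ k.pv₁, Prod.ext h.pv₂ k.pv₂, Prod.ext h.pu₁ k.pu₁,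
      Prod.ext h.pu₂ k.pu₂, Prod.ext h.pz k.pz, Prod.ext h.xv₁ k.xv₁, Prod.ext h.xv₂ k.xv₂,
      prod_commute h.xu₁ k.xu₁, prod_commute h.xu₂ k.xu₂, prod_commute h.v₁v₂ k.v₁v₂,
      prod_commute h.u₁u₂ k.u₁u₂, Prod.ext h.v₁u₁ k.v₁u₁, prod_commute h.v₁u₂ k.v₁u₂,
      prod_commute h.v₂u₁ k.v₂u₁,
      Prod.ext h.v₂u₂ (by
        show w₂ * t₂ = z' ^ ε * t₂ * w₂
        rw [zpow_congr k.pz he]
        exact k.v₂u₂),
      prod_commute h.zx k.zx, prod_commute h.zv₁ k.zv₁, prod_commute h.zv₂ k.zv₂, prod_commute h.zu₁ k.zu₁,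
      prod_commute h.zu₂ k.zu₂⟩
  exact iso_of_diag _ hP.closure_le.2 hc kc (by rw [map_six]; exact hcl) (by rw [map_six]; exact kcl)

theorem mem_of_pow [hp : Fact p.Prime] {K : Subgroup G} {g : G} (hg : g ^ p = 1) {c : ℕ} (hc : ¬ p ∣ c)
    (h : g ^ c ∈ K) : g ∈ K := by
  obtain ⟨m, n, hmn⟩ : ∃ m n : ℤ, (c : ℤ) * m + (p : ℤ) * n = 1 := by
    have h1 := Nat.gcd_eq_gcd_ab c p
    have h2 : Nat.gcd c p = 1 := ((hp.out.coprime_iff_not_dvd.2 hc).symm)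
    exact ⟨_, _, by rw [← h1, h2]; rfl⟩
  have h3 : g = (g ^ c) ^ m := by
    conv_lhs => rw [← zpow_one g, ← hmn, zpow_add, zpow_mul, zpow_mul, zpow_natCast, zpow_natCast, hg, one_zpow,
      mul_one]
  rw [h3]
  exact zpow_mem h m

theorem twoBlock_iso [Fact p.Prime] {ε ε' : ℤ} (hG : IsTwoBlock p ε G) (hH : IsTwoBlock p ε' H)
    {c : ZMod p} (hc0 : c ≠ 0) (he : (ε : ZMod p) = c ^ 2 * ε') : Nonempty (G ≃* H) := by
  obtain ⟨x, v₁, v₂, u₁, u₂, z, h, hc, hcl⟩ := hG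
  obtain ⟨x', w₁, w₂, t₁, t₂, z', k, kc, kcl⟩ := hH
  haveI := finite_of_card hc
  haveI := finite_of_card kc
  obtain ⟨j, k', -⟩ := k.rescale c.val
  refine twoBlock_iso_same ?_ h k' hc kc hcl ?_
  · push_cast
    rw [ZMod.natCast_zmod_val]
    exact he
  · set K := Subgroup.closure {x', w₁, w₂ ^ c.val, t₁, t₂ ^ c.val * (z' ^ ε') ^ j, z'}
    have m : ∀ {g : H}, g ∈ ({x', w₁, w₂ ^ c.val, t₁, t₂ ^ c.val * (z' ^ ε') ^ j, z'} : Set H) → g ∈ K :=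
      fun hg => Subgroup.subset_closure hg
    have hcv : ¬ p ∣ c.val := fun hd => hc0 (by
      rw [← ZMod.natCast_zmod_val c]
      exact (ZMod.natCast_eq_zero_iff _ _).mpr hd)
    refine eq_top_iff.2 (kcl.symm.trans_le ((Subgroup.closure_le _).2 ?_))
    have hw2 : w₂ ∈ K := mem_of_pow k.pv₂ hcv (m (by simp))
    have ht2 : t₂ ∈ K := by
      refine mem_of_pow k.pu₂ hcv ?_
      have h1 : t₂ ^ c.val * (z' ^ ε') ^ j ∈ K := m (by simp)
      exact (Subgroup.mul_mem_cancel_right K (pow_mem (zpow_mem (m (by simp)) _) _)).1 h1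
    simp only [Set.insert_subset_iff, Set.singleton_subset_iff, SetLike.mem_coe]
    exact ⟨m (by simp), m (by simp), hw2, m (by simp), ht2, m (by simp)⟩

end CfsgLib.Fusion.ESReduce
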