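import Cfsg.Agent.Lib.Fusion.ESReduce.CaseBFinish
import Cfsg.Agent.Lib.Fusion.ESReduce.Elliptic
import Cfsg.Agent.Lib.Fusion.ESReduce.Iso

/-!
The reduction: the shapes of `S`.
-/

set_option autoImplicit false
set_option linter.style.haveILetI false
set_option linter.unusedVariables false
set_option linter.unusedSectionVars false

universe u

namespace CfsgLib.Fusion.ESReduce

open Cfsg Cfsg.FusionSystem Subgroup CfsgLib.Fusion.ESIndex Module
open scoped commutatorElement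

variable {Ω : Type u} [Group Ω] {S Q : Subgroup Ω} {p : ℕ} {z : Ω} {F : FusionSystem S}

/-- The shapes, given the conclusion of the pearl case. -/
theorem shapes_of_pearl [Fact p.Prime] [Finite S] [Module (ZMod p) (Vt Q)] [Group.IsNilpotent S]
    (fr : Frame p S Q z) (hF : F.IsSaturated p) (hO : F.core = ⊥)
    (pearl : ∀ x, PearlData fr F x → 7 ≤ p ∧ Nat.card S = p ^ (p - 1) ∧ (∀ a ∈ S, a ^ p = 1) ∧
      Group.nilpotencyClass S = p - 2) :
    (∃ ε : ℤ, IsTwoBlock p ε S ∧ (ε : ZMod p) ≠ 0) ∨ (5 ≤ p ∧ IsOneBlock p S) ∨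
      (11 ≤ p ∧ Nat.card S = p ^ (p - 1) ∧ (∀ a ∈ S, a ^ p = 1) ∧
        Group.nilpotencyClass S = p - 2) := by
  haveI := fr.finite_Vt
  by_cases hB : CaseB fr F
  · rcases caseB_shape fr hF hB with h | ⟨ε, h1, h2, -⟩
    · exact Or.inr (Or.inl h)
    · exact Or.inl ⟨ε, h1, h2⟩
  rcases notB_shape fr hF hO hB with ⟨x, hx⟩ | ⟨ε, h1, h2, -⟩
  swap
  · exact Or.inl ⟨ε, h1, h2⟩
  obtain ⟨h7, hcard, hexp, hcl⟩ := pearl x hx
  refine Or.inr ?_
  rcases Nat.lt_or_ge p 11 with hlt | hge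
  swap
  · exact Or.inr ⟨hge, hcard, hexp, hcl⟩
  have hp7 : p = 7 := by
    have hp : p.Prime := Fact.out
    rcases (show p = 7 ∨ p = 8 ∨ p = 9 ∨ p = 10 by omega) with h | h | h | h
    · exact h
    all_goals (subst h; exact absurd hp (by decide))
  refine Or.inl ⟨by omega, ?_⟩
  have h4 : finrank (ZMod p) (Vt Q) = 4 := by
    have h := fr.card_S
    rw [fr.card_Q, hcard, ← pow_succ] at h
    have := Nat.pow_right_injective (Fact.out : p.Prime).two_le h
    omega
  obtain ⟨q, hq, hqk, -⟩ := fr.exists_commuting hx.hx hx.hxQ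
  have hqx : q * x ∈ S := S.mul_mem (fr.memS hq) hx.hx
  have hqxQ : q * x ∉ Q := fun hc => hx.hxQ (by
    have := Q.mul_mem (Q.inv_mem hq) hc
    rwa [inv_mul_cancel_left] at this)
  have hcj : (fr.symp hqx).N = (fr.symp hx.hx).N := by
    show fr.cj (q * x) hqx - 1 = fr.cj x hx.hx - 1
    rw [fr.cj_mul (fr.memS hq) hx.hx, fr.cj_of_memQ hq, one_mul]
  exact fr.oneBlock_of h4 hqx hqxQ (hexp _ hqx) (fun a ha => hexp a (fr.memS ha))
    (by rw [hcj]; exact hx.hker) fun k hk hN => hqk k hk (by rw [← hcj]; exact hN)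

/-- Two nonzero residues with the same quadratic character differ by a square. -/
theorem exists_sq_factor [Fact p.Prime] (hp : p ≠ 2) {a b : ZMod p} (ha : a ≠ 0) (hb : b ≠ 0)
    (h : IsSquare (-a) ↔ IsSquare (-b)) : ∃ c : ZMod p, c ≠ 0 ∧ a = c ^ 2 * b := by
  have hchar : ringChar (ZMod p) ≠ 2 := by rw [ZMod.ringChar_zmod_n]; exact hp
  have hs : IsSquare (a / b) := by
    rw [show a / b = -a / -b by rw [neg_div_neg_eq], ← quadraticChar_one_iff_isSquare
      (div_ne_zero (neg_ne_zero.2 ha) (neg_ne_zero.2 hb)), div_eq_mul_inv, map_mul]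
    have hinv : quadraticChar (ZMod p) (-b)⁻¹ = quadraticChar (ZMod p) (-b) := by
      have h1 : quadraticChar (ZMod p) (-b) * quadraticChar (ZMod p) (-b)⁻¹ = 1 := by
        rw [← map_mul, mul_inv_cancel₀ (neg_ne_zero.2 hb), map_one]
      rcases quadraticChar_dichotomy (neg_ne_zero.2 hb) with e | e <;> rw [e] at h1 ⊢ <;> omega
    rw [hinv]
    by_cases hsa : IsSquare (-a)
    · rw [(quadraticChar_one_iff_isSquare (neg_ne_zero.2 ha)).2 hsa,
        (quadraticChar_one_iff_isSquare (neg_ne_zero.2 hb)).2 (h.1 hsa)]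
      rfl
    · rw [quadraticChar_neg_one_iff_not_isSquare.2 hsa,
        quadraticChar_neg_one_iff_not_isSquare.2 (fun hsb => hsa (h.2 hsb))]
      rfl
  obtain ⟨c, hc⟩ := hs
  refine ⟨c, fun h0 => ?_, ?_⟩
  · rw [h0, mul_zero, div_eq_zero_iff] at hc
    exact hc.elim ha hb
  · rw [pow_two, ← hc, div_mul_cancel₀ _ hb]

end CfsgLib.Fusion.ESReduce
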