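import Cfsg.Agent.Lib.Fusion.ESReduce.Outside
import Cfsg.Agent.Lib.Fusion.Saturation

/-!
Extending automorphisms to normalizers, and maps out of centralizers.
-/

set_option autoImplicit false
set_option linter.style.haveILetI false
set_option linter.unusedVariables false
set_option linter.unusedSectionVars false

universe u

namespace CfsgLib.Fusion.ESReduce

open Cfsg Cfsg.FusionSystem Subgroup CfsgLib.Fusion.ESIndex

variable {Ω : Type u} [Group Ω] {S Q : Subgroup Ω} {p : ℕ} {z : Ω} {F : FusionSystem S}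

/-- An automorphism keeping a group `R` that contains `Aut_S(E)` agrees up to `R` with a map
defined on the normalizer. -/
theorem exists_adjust [Fact p.Prime] [Finite S] (hS : IsPGroup p S) (hF : F.IsSaturated p)
    {E : Subgroup Ω} (hE : F.IsFullyNormalized E) {h : MulAut E} (hh : h ∈ F.autGroup E)
    (R : Subgroup (MulAut E)) (hT : autInducedBy S E ≤ R) (hn : ∀ r ∈ R, h * r * h⁻¹ ∈ R) :
    ∃ r ∈ R, r ∈ F.autGroup E ∧ ∃ ψ : Ω → Ω, IsMap F (normalizerIn S E) ψ ∧
      (∀ a ∈ normalizerIn S E, ψ a ∈ normalizerIn S E) ∧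
      ∀ x : E, ψ x = (((r * h) x : E) : Ω) := by
  have hES := hE.1
  haveI := finite_of_le hES
  set T := autInducedBy S E with hTdef
  have hTG : T ≤ F.autGroup E := autInducedBy_le_autGroup hES
  obtain ⟨T₁, hT₁⟩ := (fullyAutomized_of_fullyNormalized hS hF hE).2
  set G0 := R ⊓ F.autGroup E with hG0
  have hTp : IsPGroup p T := isPGroup_autInducedBy hS E
  obtain ⟨A, hA⟩ := (hTp.of_equiv (Subgroup.subgroupOfEquivOfLe (le_inf hT hTG : T ≤ G0)).symm).exists_le_sylow
  have hA' : (A : Subgroup G0).map G0.subtype ≤ T := by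
    have hpA : IsPGroup p (((A : Subgroup G0).map G0.subtype).subgroupOf (F.autGroup E)) :=
      (A.isPGroup'.map G0.subtype).of_equiv
        (Subgroup.subgroupOfEquivOfLe ((Subgroup.map_subtype_le _).trans inf_le_right)).symm
    have hle : (T₁ : Subgroup (F.autGroup E)) ≤
        ((A : Subgroup G0).map G0.subtype).subgroupOf (F.autGroup E) := by
      rw [hT₁]
      intro t ht
      exact ⟨⟨(t : MulAut E), hT ht, t.2⟩, hA (Subgroup.mem_subgroupOf.2 ht), rfl⟩
    have heq := T₁.is_maximal' hpA hle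
    intro a ha
    have hmem : (⟨a, ((Subgroup.map_subtype_le _).trans inf_le_right : _ ≤ F.autGroup E) ha⟩ :
        F.autGroup E) ∈ ((A : Subgroup G0).map G0.subtype).subgroupOf (F.autGroup E) := ha
    rw [heq, hT₁] at hmem
    exact hmem
  let c : MulAut E →* MulAut E := (MulAut.conj h).toMonoidHom
  have hT' : T.map c ≤ G0 := by
    rintro _ ⟨t, ht, rfl⟩
    exact ⟨hn t (hT ht), (F.autGroup E).mul_mem ((F.autGroup E).mul_mem hh (hTG ht))
      ((F.autGroup E).inv_mem hh)⟩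
  obtain ⟨B, hB⟩ := ((hTp.map c).of_equiv (Subgroup.subgroupOfEquivOfLe hT').symm).exists_le_sylow
  obtain ⟨g, hg⟩ := MulAction.exists_smul_eq G0 B A
  refine ⟨g, g.2.1, g.2.2, ?_⟩
  have hgh : (g : MulAut E) * h ∈ F.autGroup E := (F.autGroup E).mul_mem g.2.2 hh
  have hconj : ∀ t ∈ T, ((g : MulAut E) * h) * t * ((g : MulAut E) * h)⁻¹ ∈ T := fun t ht => by
    have h1 : (⟨_, hT' ⟨t, ht, rfl⟩⟩ : G0) ∈ (B : Subgroup G0) :=
      hB (Subgroup.mem_subgroupOf.2 ⟨t, ht, rfl⟩)
    have h2 : g * (⟨_, hT' ⟨t, ht, rfl⟩⟩ : G0) * g⁻¹ ∈ (A : Subgroup G0) := by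
      rw [← hg, Sylow.coe_subgroup_smul]
      exact ⟨_, h1, rfl⟩
    have h3 := hA' ⟨_, h2, rfl⟩
    simpa [c, mul_assoc] using h3
  set δ : MulAut E := (g : MulAut E) * h with hδ
  have hm := isMap_of_autGroup hES hgh
  have hi : img E (toFun (E.subtype.comp δ.toMonoidHom)) = E := img_toFun_aut δ
  obtain ⟨ψ, hψ, hψx⟩ := receptive_extend (receptive_of_fullyNormalized hS hF hE) hm hi
    (le_normalizerIn hES) fun a ha => by
      refine ⟨ha.1, ha.2, ?_⟩
      let κ : MulAut E := E.normalizerMonoidHom ⟨a, ha.2⟩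
      obtain ⟨b, hb, hbx⟩ := mem_autInducedBy_iff.1
        (hconj κ (mem_autInducedBy_iff.2 ⟨a, ha.1, fun x => rfl⟩))
      refine ⟨b, hb, fun x hx => ?_⟩
      rw [toFun_aut_apply _ hx, toFun_aut_apply _ ((ha.2 x).1 hx), ← hbx (δ ⟨x, hx⟩)]
      rw [MulAut.mul_apply, MulAut.mul_apply, MulAut.inv_apply_self]
      rfl
  refine ⟨ψ, hψ, fun a ha => ?_, fun x => ?_⟩
  · have hψi : img E ψ = E := (img_congr hψx).trans hi
    have := hψ.apply_mem_normalizerIn (le_normalizerIn hES) ha ha.2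
    rwa [hψi] at this
  · rw [hψx x x.2, toFun_aut_apply _ x.2]

namespace Frame

variable [Fact p.Prime] [Finite S] (fr : Frame p S Q z)

include fr

theorem zQ_fullyCentralized : F.IsFullyCentralized (zQ Q) := by
  refine ⟨(zQ_le fr.st).trans fr.st.hQS, fun R _ => ?_⟩
  haveI := finite_centralizerIn (S := S) (P := zQ Q)
  refine Subgroup.card_le_of_le ?_
  exact fun a ha => ⟨ha.1, fun b hb => (zQ_central fr.st ha.1 hb).symm⟩

theorem zpowers_eq {a : Ω} (ha : a ∈ zQ Q) (ha1 : a ≠ 1) : Subgroup.zpowers a = zQ Q := by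
  refine le_antisymm (Subgroup.zpowers_le.2 ha) fun b hb => ?_
  obtain ⟨k, rfl⟩ := exists_pow fr.st ha ha1 hb
  exact Subgroup.pow_mem _ (Subgroup.mem_zpowers a) k

/-- A map taking `u` into the centre extends to the centralizer of `u`. -/
theorem exists_extend_centralizer (hF : F.IsSaturated p) {u : Ω} (hu : u ≠ 1) {f : Ω → Ω}
    (hf : IsMap F (Subgroup.zpowers u) f) (hfu : f u ∈ zQ Q) :
    ∃ g, IsMap F (Subgroup.zpowers u ⊔ centralizerIn S (Subgroup.zpowers u)) g ∧ g u = f u := by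
  have h1 : f u ≠ 1 := fun h => hu (hf.eq_one (Subgroup.mem_zpowers u) h)
  have hi : img (Subgroup.zpowers u) f = zQ Q := by
    refine le_antisymm ?_ ?_
    · intro y hy
      obtain ⟨a, ha, rfl⟩ := hf.mem_img.1 hy
      obtain ⟨k, rfl⟩ := Subgroup.mem_zpowers_iff.1 ha
      have hk : f (u ^ k) = f u ^ k := map_zpow hf.toHom ⟨u, Subgroup.mem_zpowers u⟩ k
      rw [hk]
      exact zpow_mem hfu k
    · rw [← fr.zpowers_eq hfu h1]
      exact Subgroup.zpowers_le.2 (hf.apply_mem_img (Subgroup.mem_zpowers u))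
  obtain ⟨g, hg, hgx⟩ := receptive_extend_centralizer
    (receptive_of_fullyCentralized fr.st.hS hF fr.zQ_fullyCentralized) hf hi
  exact ⟨g, hg, hgx u (Subgroup.mem_zpowers u)⟩

end Frame

/-- Some element of `Q` outside the centre, fixed modulo the centre by `S`, is conjugate into it. -/
def CaseB [Fact p.Prime] [Finite S] [Module (ZMod p) (Vt Q)] (fr : Frame p S Q z)
    (F : FusionSystem S) : Prop :=
  ∃ u ∈ Q, u ∉ zQ Q ∧ (∃ x, ∃ hx : x ∈ S, x ∉ Q ∧ (fr.symp hx).N (pr Q u) = 0) ∧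
    ∃ f, IsMap F (Subgroup.zpowers u) f ∧ f u ∈ zQ Q

end CfsgLib.Fusion.ESReduce
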