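import Cfsg.Agent.Lib.Fusion.ESReduce.ModelG2Data
import Cfsg.Agent.Lib.Chev.G2ZHom
import Cfsg.Agent.Lib.Chev.OrderTables
import Cfsg.Agent.Lib.KnownB.G2Square.BigCell

/-!
The root automorphisms of Zorn's algebra over a finite field give all of its automorphisms.
-/

set_option autoImplicit false
set_option maxRecDepth 100000
set_option maxHeartbeats 2000000
set_option linter.unusedSectionVars false

namespace CfsgLib.Fusion.ESReduce.G2Model

open Matrix Cfsg.Lie CfsgLib.Chev CfsgLib.NormalCover CfsgLib.KnownB.G2Square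

variable {F : Type*} [Field F]

/-- A root automorphism lies in the image of the adjoint group. -/
theorem root_mem_range {r : ℕ} (hr : r < chevG2.nroots) (t : F) (g : G2G F)
    (hg : ∀ x i, act g x i = (G2Z.M t (G2Z.yTab r) *ᵥ x) i) : g ∈ (G2Z.toOct (F := F)).range :=
  ⟨⟨goodG2.xG r t, goodG2.xG_mem_group hr t⟩, Subtype.ext (Units.ext
    ((G2Z.toOct_root hr t _ rfl).trans (Matrix.ext_iff_mulVec.2 fun x => funext (hg x)).symm))⟩

theorem gA_mem (k : Fin 3) (t : F) : gA (Pi.single k t) ∈ (G2Z.toOct (F := F)).range := by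
  fin_cases k
  · exact root_mem_range (r := 8) (by decide) t _ fun x i => by
      rw [act_gA]; fin_cases i <;> simp [G2Z.M_mulVec, G2Z.yTab, moveA] <;> ring
  · exact root_mem_range (r := 7) (by decide) t _ fun x i => by
      rw [act_gA]; fin_cases i <;> simp [G2Z.M_mulVec, G2Z.yTab, moveA] <;> ring
  · exact root_mem_range (r := 2) (by decide) t _ fun x i => by
      rw [act_gA]; fin_cases i <;> simp [G2Z.M_mulVec, G2Z.yTab, moveA] <;> ring

theorem gB_mem (k : Fin 3) (t : F) : gB (Pi.single k t) ∈ (G2Z.toOct (F := F)).range := by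
  fin_cases k
  · exact root_mem_range (r := 3) (by decide) (-t) _ fun x i => by
      rw [act_gB]; fin_cases i <;> simp [G2Z.M_mulVec, G2Z.yTab, moveB] <;> ring
  · exact root_mem_range (r := 4) (by decide) (-t) _ fun x i => by
      rw [act_gB]; fin_cases i <;> simp [G2Z.M_mulVec, G2Z.yTab, moveB] <;> ring
  · exact root_mem_range (r := 9) (by decide) (-t) _ fun x i => by
      rw [act_gB]; fin_cases i <;> simp [G2Z.M_mulVec, G2Z.yTab, moveB] <;> ring

theorem gS_transvection_mem {i j : Fin 3} (hij : i ≠ j) (t : F) :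
    gS (Matrix.SpecialLinearGroup.transvection hij t) ∈ (G2Z.toOct (F := F)).range := by
  have key : ∀ r : ℕ, r < chevG2.nroots →
      (∀ x l, moveS (1 + single i j t) x l = (G2Z.M t (G2Z.yTab r) *ᵥ x) l) →
      gS (Matrix.SpecialLinearGroup.transvection hij t) ∈ (G2Z.toOct (F := F)).range := fun r hr h =>
    root_mem_range hr t _ fun x l => by
      rw [act_gS, show ((Matrix.SpecialLinearGroup.transvection hij t : Matrix.SpecialLinearGroup (Fin 3) F) :
        Matrix (Fin 3) (Fin 3) F) = 1 + single i j t by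
          simp [Matrix.SpecialLinearGroup.transvection_coe]]
      exact h x l
  fin_cases i <;> fin_cases j
  · exact absurd rfl hij
  · exact key 6 (by decide) fun x l => by
      fin_cases l <;> simp [G2Z.M_mulVec, G2Z.yTab, moveS, Matrix.single_apply, Matrix.one_apply] <;> ring
  · exact key 11 (by decide) fun x l => by
      fin_cases l <;> simp [G2Z.M_mulVec, G2Z.yTab, moveS, Matrix.single_apply, Matrix.one_apply] <;> ring
  · exact key 5 (by decide) fun x l => by
      fin_cases l <;> simp [G2Z.M_mulVec, G2Z.yTab, moveS, Matrix.single_apply, Matrix.one_apply] <;> ring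
  · exact absurd rfl hij
  · exact key 10 (by decide) fun x l => by
      fin_cases l <;> simp [G2Z.M_mulVec, G2Z.yTab, moveS, Matrix.single_apply, Matrix.one_apply] <;> ring
  · exact key 0 (by decide) fun x l => by
      fin_cases l <;> simp [G2Z.M_mulVec, G2Z.yTab, moveS, Matrix.single_apply, Matrix.one_apply] <;> ring
  · exact key 1 (by decide) fun x l => by
      fin_cases l <;> simp [G2Z.M_mulVec, G2Z.yTab, moveS, Matrix.single_apply, Matrix.one_apply] <;> ring
  · exact absurd rfl hij

/-- The automorphism group of Zorn's algebra is the adjoint group of type `G₂`. -/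
theorem toOct_bijective [Finite F] : Function.Bijective (G2Z.toOct (F := F)) := by
  refine ⟨G2Z.toOct_injective, fun g => ?_⟩
  have h : moved F ≤ (G2Z.toOct (F := F)).range := by
    refine (Subgroup.closure_le _).2 ?_
    rintro a (⟨k, t, rfl | rfl⟩ | ⟨i, j, hij, t, rfl⟩)
    exacts [gA_mem k t, gB_mem k t, gS_transvection_mem hij t]
  exact h (mem_moved g)

variable (p : ℕ) [Fact p.Prime]

/-- Reduction of an integer matrix. -/
def red : Matrix (Fin 8) (Fin 8) ℤ →+* Matrix (Fin 8) (Fin 8) (ZMod p) :=
  (Int.castRingHom (ZMod p)).mapMatrix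

theorem root_X : G2Z.M (((1 : ℤ) : ℤ) : ZMod p) (G2Z.yTab 7) = red p mX := by
  ext i j
  fin_cases i <;> fin_cases j <;> simp [G2Z.M_entry, G2Z.yTab, red, mX]

theorem root_A : G2Z.M (((1 : ℤ) : ℤ) : ZMod p) (G2Z.yTab 6) = red p mA := by
  ext i j
  fin_cases i <;> fin_cases j <;> simp [G2Z.M_entry, G2Z.yTab, red, mA]

theorem root_A12 : G2Z.M (((12 : ℤ) : ℤ) : ZMod p) (G2Z.yTab 6) = red p mA12 := by
  ext i j
  fin_cases i <;> fin_cases j <;> simp [G2Z.M_entry, G2Z.yTab, red, mA12]

end CfsgLib.Fusion.ESReduce.G2Model
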