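import Cfsg.Agent.Lib.Fusion.ESReduce.Chain
import Cfsg.Agent.Lib.Fusion.ESReduce.ModelG2Roots
import Cfsg.Agent.Lib.Chev.G2ZHom
import Cfsg.Agent.Lib.Chev.OrderTables
import Cfsg.Agent.Lib.KnownB.G2Square.BigCell

/-!
The Sylow `p`-subgroups of `G₂(p)`, `p ≥ 5`, have order `p ^ 6` and one block.
-/

set_option autoImplicit false
set_option maxRecDepth 100000
set_option maxHeartbeats 2000000
set_option linter.unusedSectionVars false

namespace CfsgLib.Fusion.ESReduce.G2Model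

open Matrix Cfsg.Lie CfsgLib.Chev CfsgLib.NormalCover CfsgLib.KnownB.G2Square

variable (p : ℕ) [Fact p.Prime]

theorem red_root {r : Fin 12} {n : ℤ} {L : Matrix (Fin 8) (Fin 8) ℤ}
    (h : G2Z.M (n : ZMod p) (G2Z.yTab r.val) = red p L) : ∃ g : G2G (ZMod p), mat g = red p L := by
  obtain ⟨g, hg, hM⟩ := G2Z.root_g2 r (n : ZMod p)
  exact ⟨⟨g, hg⟩, hM.trans h⟩

variable {p}

theorem conj_step {a x : G2G (ZMod p)} {A B X : Matrix (Fin 8) (Fin 8) ℤ} (ha : mat a = red p A)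
    (hx : mat x = red p X) (h : A * B * X = X * A) : ∃ b : G2G (ZMod p), mat b = red p B := by
  refine ⟨a⁻¹ * x * a * x⁻¹, ?_⟩
  have e := congrArg (red p) h
  rw [map_mul, map_mul, map_mul, ← ha, ← hx] at e
  have ia : mat a⁻¹ * mat a = 1 := by rw [← mat_mul, inv_mul_cancel]; rfl
  have ix : mat x * mat x⁻¹ = 1 := by rw [← mat_mul, mul_inv_cancel]; rfl
  calc mat (a⁻¹ * x * a * x⁻¹) = mat a⁻¹ * (mat x * mat a) * mat x⁻¹ := by
        rw [mat_mul, mat_mul, mat_mul, mul_assoc (mat a⁻¹) (mat x) (mat a)]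
    _ = (mat a⁻¹ * mat a) * red p B * (mat x * mat x⁻¹) := by rw [← e]; simp only [mul_assoc]
    _ = _ := by rw [ia, ix, one_mul, mul_one]

theorem mul_step {g h : G2G (ZMod p)} {A B V : Matrix (Fin 8) (Fin 8) ℤ} (hg : mat g = red p A)
    (hh : mat h = red p B) (e : V * B = A) : ∃ v : G2G (ZMod p), mat v = red p V := by
  refine ⟨g * h⁻¹, ?_⟩
  rw [mat_mul, hg, ← e, map_mul, ← hh, mul_assoc, ← mat_mul, mul_inv_cancel]
  exact mul_one _

variable (p)

theorem exists_elems : ∃ x v₀ v₁ v₂ v₃ z : G2G (ZMod p), mat x = red p mX ∧ mat v₀ = red p mV0 ∧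
    mat v₁ = red p mV1 ∧ mat v₂ = red p mV2 ∧ mat v₃ = red p mV3 ∧ mat z = red p mZ := by
  obtain ⟨r1, r2, r3, r4, r5, r6, -, -, -, -, -, -, -, -, -, -, -, -, r19⟩ := rels
  obtain ⟨x, hx⟩ := red_root p (r := 7) (root_X p)
  obtain ⟨a, ha⟩ := red_root p (r := 6) (root_A p)
  obtain ⟨a12, ha12⟩ := red_root p (r := 6) (root_A12 p)
  obtain ⟨b1, hb1⟩ := conj_step ha hx r1
  obtain ⟨b2, hb2⟩ := conj_step hb1 hx r2
  obtain ⟨v0, hv0⟩ := mul_step ha12 hb2 r3
  obtain ⟨v1, hv1⟩ := conj_step hv0 hx r4.symm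
  obtain ⟨v2, hv2⟩ := conj_step hv1 hx r5.symm
  obtain ⟨v3, hv3⟩ := conj_step hv2 hx r6.symm
  obtain ⟨z, hz⟩ := mul_step (g := v0 * v2) (h := v2 * v0)
    (A := mV0 * mV2) (B := mV2 * mV0) (V := mZ)
    (by rw [mat_mul, hv0, hv2, map_mul]) (by rw [mat_mul, hv0, hv2, map_mul]) r19.symm
  exact ⟨x, v0, v1, v2, v3, z, hx, hv0, hv1, hv2, hv3, hz⟩

theorem mat_injective : Function.Injective (mat : G2G (ZMod p) → Matrix (Fin 8) (Fin 8) (ZMod p)) :=
  fun _ _ h => Subtype.ext (Units.ext h)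

theorem pow_eq_one (hp : 5 ≤ p) {g : G2G (ZMod p)} {A : Matrix (Fin 8) (Fin 8) ℤ} (hg : mat g = red p A)
    (hA : (A - 1) * ((A - 1) * (A - 1)) = 0) : g ^ p = 1 := by
  set N := mat g - 1 with hN
  have hN3 : N * (N * N) = 0 := by
    have := congrArg (red p) hA
    simpa [map_mul, map_sub, ← hg] using this
  have key : ∀ n : ℕ, (N + 1) ^ n = 1 + n • N + n.choose 2 • (N * N) := by
    intro n
    induction n with
    | zero => simp
    | succ n ih =>
      have e : (n + 1).choose 2 = n + n.choose 2 := by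
        rw [show (2 : ℕ) = 1 + 1 from rfl, Nat.choose_succ_succ', Nat.choose_one_right]
      rw [pow_succ', ih, e, add_smul, succ_nsmul]
      simp only [add_mul, mul_add, mul_one, one_mul, mul_smul_comm, hN3, smul_zero, add_zero, add_smul, smul_add]
      abel
  have hz : ∀ M : Matrix (Fin 8) (Fin 8) (ZMod p), p • M = 0 := fun M => by
    rw [← Nat.cast_smul_eq_nsmul (ZMod p), ZMod.natCast_self, zero_smul]
  refine mat_injective p ?_
  show ((g ^ p : G2G (ZMod p)).1 : GL (Fin 8) (ZMod p)).1 = 1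
  rw [Subgroup.coe_pow, Units.val_pow_eq_pow_val]
  show mat g ^ p = 1
  obtain ⟨k, hk⟩ : p ∣ p.choose 2 := (Fact.out : p.Prime).dvd_choose_self (by norm_num) (by omega)
  rw [show mat g = N + 1 by rw [hN, sub_add_cancel], key, hk, mul_smul, hz, hz, add_zero, add_zero]

variable {p}

/-- Elements fixing `w` and moving `u` by a multiple of `w`. -/
def stabPair (u w : Fin 8 → ZMod p) : Subgroup (G2G (ZMod p)) where
  carrier := {g | act g w = w ∧ ∃ c : ZMod p, act g u = u + c • w}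
  one_mem' := ⟨act_one _, 0, by rw [act_one, zero_smul, add_zero]⟩
  mul_mem' := by
    rintro g h ⟨g1, c, g2⟩ ⟨h1, d, h2⟩
    exact ⟨by rw [act_mul, h1, g1], c + d, by rw [act_mul, h2, act_add, act_smul, g1, g2, add_smul, add_assoc]⟩
  inv_mem' := by
    rintro g ⟨g1, c, g2⟩
    have h1 : act g⁻¹ w = w := by
      conv_lhs => rw [← g1, act_inv_act]
    refine ⟨h1, -c, act_injective g ?_⟩
    rw [act_add, act_smul, g1, g2, ← act_mul, mul_inv_cancel, act_one, neg_smul, add_neg_cancel_right]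

theorem unit_of_dvd (hp : 5 ≤ p) {a b n : ℕ} (hn : n = 2 ^ a * 3 ^ b) : (n : ZMod p) ≠ 0 := by
  rw [Ne, ZMod.natCast_eq_zero_iff, hn]
  intro h
  rcases (Fact.out : p.Prime).dvd_mul.1 h with h | h <;>
    have := Nat.le_of_dvd (by norm_num) ((Fact.out : p.Prime).dvd_of_dvd_pow h) <;> omega

theorem card_step {S : Set (G2G (ZMod p))} {g : G2G (ZMod p)} (hg : g ∉ Subgroup.closure S) {n : ℕ}
    (hp : IsPGroup p (Subgroup.closure (insert g S))) (hn : p ^ n ≤ Nat.card (Subgroup.closure S)) :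
    p ^ (n + 1) ≤ Nat.card (Subgroup.closure (insert g S)) := by
  have hle : Subgroup.closure S ≤ Subgroup.closure (insert g S) :=
    Subgroup.closure_mono (Set.subset_insert _ _)
  obtain ⟨a, ha⟩ := IsPGroup.iff_card.1 (hp.to_le hle)
  obtain ⟨b, hb⟩ := IsPGroup.iff_card.1 hp
  have hlt : a < b := by
    by_contra hc
    have e := Subgroup.eq_of_le_of_card_ge hle (by
      rw [ha, hb]; exact Nat.pow_le_pow_right (Fact.out : p.Prime).pos (by omega))
    exact hg (e ▸ Subgroup.subset_closure (Set.mem_insert _ _))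
  rw [hb]
  rw [ha] at hn
  have hna : n ≤ a := (Nat.pow_le_pow_iff_right (Fact.out : p.Prime).one_lt).1 hn
  exact Nat.pow_le_pow_right (Fact.out : p.Prime).pos (by omega)

variable (p)

theorem card_g2 : Nat.card (G2G (ZMod p)) = p ^ 6 * ((p ^ 2 - 1) * (p ^ 6 - 1)) := by
  rw [← Nat.card_congr (Equiv.ofBijective _ (toOct_bijective (F := ZMod p)))]
  have := card_groupG2 (ZMod p)
  rw [ZMod.card, one_mul] at this
  rw [this, mul_assoc]

theorem exists_oneBlock (hp : 5 ≤ p) : ∃ x v₀ v₁ v₂ v₃ z : G2G (ZMod p),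
    OneBlock p x v₀ v₁ v₂ v₃ z ∧ p ^ 6 ≤ Nat.card (Subgroup.closure {x, v₀, v₁, v₂, v₃, z}) := by
  obtain ⟨x, v₀, v₁, v₂, v₃, z, hx, h0, h1, h2, h3, hz⟩ := exists_elems p
  obtain ⟨-, -, -, r4, r5, r6, r7, r8, r9, r10, r11, r12, r13, r14, r15, r16, r17, r18, -⟩ := rels
  have two : ∀ {a b c d : G2G (ZMod p)} {A B C D : Matrix (Fin 8) (Fin 8) ℤ}, mat a = red p A →
      mat b = red p B → mat c = red p C → mat d = red p D → A * B = C * D → a * b = c * d := by
    intro a b c d A B C D ha hb hc hd e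
    exact mat_injective p (by rw [mat_mul, mat_mul, ha, hb, hc, hd, ← map_mul, ← map_mul, e])
  have m2 : ∀ {a b : G2G (ZMod p)} {A B : Matrix (Fin 8) (Fin 8) ℤ}, mat a = red p A →
      mat b = red p B → mat (a * b) = red p (A * B) := fun ha hb => by rw [mat_mul, ha, hb, map_mul]
  have hu := fun (A : Matrix (Fin 8) (Fin 8) ℤ) (h : A ∈ [mX, mV0, mV1, mV2, mV3, mZ]) => unip A h
  have hB : OneBlock p x v₀ v₁ v₂ v₃ z :=
    { px := pow_eq_one p hp hx (hu _ (by simp))
      pv₀ := pow_eq_one p hp h0 (hu _ (by simp))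
      pv₁ := pow_eq_one p hp h1 (hu _ (by simp))
      pv₂ := pow_eq_one p hp h2 (hu _ (by simp))
      pv₃ := pow_eq_one p hp h3 (hu _ (by simp))
      pz := pow_eq_one p hp hz (hu _ (by simp))
      xv₀ := two hx h0 (m2 h0 h1) hx r4
      xv₁ := two hx h1 (m2 h1 h2) hx r5
      xv₂ := two hx h2 (m2 h2 h3) hx r6
      xv₃ := two hx h3 h3 hx r7
      v₀v₁ := two h0 h1 h1 h0 r8
      v₀v₂ := two h0 h2 (m2 hz h2) h0 r9
      v₀v₃ := two h0 h3 (m2 hz h3) h0 r10
      v₁v₂ := by rw [mul_assoc, eq_inv_mul_iff_mul_eq]; exact two hz (m2 h1 h2) h2 h1 r11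
      v₁v₃ := two h1 h3 h3 h1 r12
      v₂v₃ := two h2 h3 h3 h2 r13
      zx := two hz hx hx hz r14
      zv₀ := two hz h0 h0 hz r15
      zv₁ := two hz h1 h1 hz r16
      zv₂ := two hz h2 h2 hz r17
      zv₃ := two hz h3 h3 hz r18 }
  refine ⟨x, v₀, v₁, v₂, v₃, z, hB, ?_⟩
  obtain ⟨hP, -⟩ := hB.closure_le
  have hsub : ∀ S : Set (G2G (ZMod p)), S ⊆ {x, v₀, v₁, v₂, v₃, z} → IsPGroup p (Subgroup.closure S) :=
    fun S hS => hP.to_le (Subgroup.closure_mono hS)
  have sep : ∀ {S : Set (G2G (ZMod p))} {g : G2G (ZMod p)} (u w : Fin 8 → ZMod p),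
      (∀ s ∈ S, s ∈ stabPair u w) → g ∉ stabPair u w → g ∉ Subgroup.closure S :=
    fun u w hS hg hc => hg ((Subgroup.closure_le _).2 hS hc)
  have col : ∀ {g : G2G (ZMod p)} {A : Matrix (Fin 8) (Fin 8) ℤ}, mat g = red p A → ∀ i j,
      act g (Pi.single j 1) i = ((A i j : ℤ) : ZMod p) := fun hg i j => by
    rw [act_single, hg]; rfl
  have fix : ∀ {g : G2G (ZMod p)} {A : Matrix (Fin 8) (Fin 8) ℤ}, mat g = red p A → ∀ j,
      (∀ i, A i j = if i = j then 1 else 0) → g ∈ stabPair (Pi.single j 1) 0 := by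
    intro g A hg j hA
    refine ⟨act_zero g, 0, funext fun i => ?_⟩
    rw [col hg, hA, zero_smul, add_zero, Pi.single_apply]
    split <;> simp
  have nfix : ∀ {g : G2G (ZMod p)} {A : Matrix (Fin 8) (Fin 8) ℤ}, mat g = red p A → ∀ i j,
      i ≠ j → ((A i j : ℤ) : ZMod p) ≠ 0 → g ∉ stabPair (Pi.single j 1) 0 := by
    rintro g A hg i j hij hA ⟨-, c, h⟩
    have := congrFun h i
    rw [col hg, smul_zero, add_zero, Pi.single_apply, if_neg hij] at this
    exact hA this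
  have e5 : Nat.card (Subgroup.closure ({z} : Set (G2G (ZMod p)))) ≥ p ^ 1 := by
    have hz1 : z ≠ 1 := by
      intro e
      refine nfix hz 1 3 (by decide) ?_ (e ▸ one_mem _)
      simpa [mZ] using unit_of_dvd hp (n := 864) (a := 5) (b := 3) (by norm_num)
    rw [← Subgroup.zpowers_eq_closure, Nat.card_zpowers, pow_one]
    exact le_of_eq (orderOf_eq_prime hB.pz hz1).symm
  have e4 := card_step (g := v₃) (sep (Pi.single 5 1) 0
    (by
      simp only [Set.mem_singleton_iff, forall_eq]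
      exact fix hz 5 (by decide))
    (nfix h3 6 5 (by decide) (by
      simpa [mV3] using unit_of_dvd hp (n := 72) (a := 3) (b := 2) (by norm_num))))
    (hsub _ (by simp [Set.insert_subset_iff])) e5
  have e3 := card_step (g := v₂) (sep (Pi.single 0 1) 0
    (by
      simp only [Set.mem_insert_iff, Set.mem_singleton_iff, forall_eq_or_imp, forall_eq]
      exact ⟨fix h3 0 (by decide), fix hz 0 (by decide)⟩)
    (nfix h2 6 0 (by decide) (by
      simpa [mV2] using unit_of_dvd hp (n := 24) (a := 3) (b := 1) (by norm_num))))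
    (hsub _ (by simp [Set.insert_subset_iff])) e4
  have e2 := card_step (g := v₁) (sep (Pi.single 2 1) 0
    (by
      simp only [Set.mem_insert_iff, Set.mem_singleton_iff, forall_eq_or_imp, forall_eq]
      exact ⟨fix h2 2 (by decide), fix h3 2 (by decide), fix hz 2 (by decide)⟩)
    (nfix h1 6 2 (by decide) (by
      simpa [mV1] using unit_of_dvd hp (n := 12) (a := 2) (b := 1) (by norm_num))))
    (hsub _ (by simp [Set.insert_subset_iff])) e3
  have w6 : ∀ {g : G2G (ZMod p)} {A : Matrix (Fin 8) (Fin 8) ℤ}, mat g = red p A →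
      (∀ i, A i 6 = if i = 6 then 1 else 0) → (∀ i, i ≠ 6 → A i 2 = if i = 2 then 1 else 0) →
      g ∈ stabPair (Pi.single 2 1) (Pi.single 6 1) := by
    intro g A hg h6 hA
    refine ⟨funext fun i => ?_, ((A 6 2 : ℤ) : ZMod p), funext fun i => ?_⟩
    · rw [col hg, h6, Pi.single_apply]; split <;> simp
    · rw [col hg]
      by_cases hi : i = 6
      · subst hi; simp
      · rw [hA i hi]
        by_cases hi2 : i = 2 <;> simp [hi, hi2, Pi.single_apply]
  have e1 := card_step (g := v₀) (sep (Pi.single 2 1) (Pi.single 6 1)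
    (by
      simp only [Set.mem_insert_iff, Set.mem_singleton_iff, forall_eq_or_imp, forall_eq]
      exact ⟨w6 h1 (by decide) (by decide), w6 h2 (by decide) (by decide), w6 h3 (by decide) (by decide),
        w6 hz (by decide) (by decide)⟩)
    (by
      rintro ⟨-, c, h⟩
      have := congrFun h 1
      rw [col h0] at this
      exact unit_of_dvd hp (n := 12) (a := 2) (b := 1) (by norm_num) (by simpa [mV0] using this)))
    (hsub _ (by simp [Set.insert_subset_iff])) e2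
  exact card_step (g := x) (sep (Pi.single 1 1) 0
    (by
      simp only [Set.mem_insert_iff, Set.mem_singleton_iff, forall_eq_or_imp, forall_eq]
      exact ⟨fix h0 1 (by decide), fix h1 1 (by decide), fix h2 1 (by decide), fix h3 1 (by decide),
        fix hz 1 (by decide)⟩)
    (nfix hx 6 1 (by decide) (by simp [mX])))
    (hsub _ subset_rfl) e1

/-- The Sylow `p`-subgroups of `G₂(p)` have one block. -/
theorem sylow_g2 (hp : 5 ≤ p) (P : Sylow p ↥(Cfsg.Lie.G2 (ZMod p))) :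
    IsOneBlock p (P : Subgroup ↥(Cfsg.Lie.G2 (ZMod p))) := by
  obtain ⟨x, v₀, v₁, v₂, v₃, z, hB, hge⟩ := exists_oneBlock p hp
  obtain ⟨hP, hle⟩ := hB.closure_le
  obtain ⟨P₀, hP₀⟩ := hP.exists_le_sylow
  have hc : Nat.card (Subgroup.closure {x, v₀, v₁, v₂, v₃, z}) = p ^ 6 := le_antisymm hle hge
  have hnd : ¬ p ∣ (p ^ 2 - 1) * (p ^ 6 - 1) := by
    have key : ∀ n, 0 < n → ¬ p ∣ p ^ n - 1 := fun n hn h => by
      have h1 : p ∣ p ^ n := dvd_pow_self p hn.ne'
      have := Nat.dvd_sub h1 h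
      rw [Nat.sub_sub_self (Nat.one_le_pow _ _ (by omega))] at this
      exact (Fact.out : p.Prime).not_dvd_one this
    exact (Fact.out : p.Prime).not_dvd_mul (key 2 (by norm_num)) (key 6 (by norm_num))
  obtain ⟨n, hn⟩ := IsPGroup.iff_card.1 P₀.2
  have hdvd := Subgroup.card_subgroup_dvd_card (P₀ : Subgroup (G2G (ZMod p)))
  rw [card_g2, hn] at hdvd
  have hn6 : p ^ n ≤ p ^ 6 := Nat.le_of_dvd (pow_pos (Fact.out : p.Prime).pos _)
    ((Nat.Coprime.pow_left n ((Fact.out : p.Prime).coprime_iff_not_dvd.2 hnd)).dvd_of_dvd_mul_right hdvd)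
  have hEq := Subgroup.eq_of_le_of_card_ge hP₀ (by rw [hc, hn]; exact hn6)
  exact isOneBlock_sylow P₀ P (isOneBlock_subgroup hB hEq (by rw [← hEq, hc]))

end CfsgLib.Fusion.ESReduce.G2Model

namespace CfsgLib.Fusion.ESReduce

/-- The Sylow `p`-subgroups of `G₂(p)`, `p ≥ 5`, have one block. -/
theorem sylow_g2 {p : ℕ} [Fact p.Prime] (hp5 : 5 ≤ p) (P : Sylow p ↥(Cfsg.Lie.G2 (ZMod p))) :
    IsOneBlock p (P : Subgroup ↥(Cfsg.Lie.G2 (ZMod p))) :=
  G2Model.sylow_g2 p hp5 P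

end CfsgLib.Fusion.ESReduce
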