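import Mathlib

/-!
Integer matrices of six unipotent automorphisms of Zorn's algebra with the relations of one block.
-/

set_option autoImplicit false

namespace CfsgLib.Fusion.ESReduce.G2Model

/-- The short simple root element. -/
def mX : Matrix (Fin 8) (Fin 8) ℤ :=
  !![1, 0, 0, 0, 0, 1, 0, 0; 0, 1, 0, 0, 0, 0, 0, 0; -1, 0, 1, 0, 0, -1, 0, 1; 0, 0, 0, 1, 0, 0, 0, 0; 0, 0, 0, -1, 1, 0, 0, 0; 0, 0, 0, 0, 0, 1, 0, 0; 0, 1, 0, 0, 0, 0, 1, 0; 0, 0, 0, 0, 0, -1, 0, 1]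

/-- The long simple root element. -/
def mA : Matrix (Fin 8) (Fin 8) ℤ :=
  !![1, 0, 0, 0, 0, 0, 0, 0; 0, 1, 1, 0, 0, 0, 0, 0; 0, 0, 1, 0, 0, 0, 0, 0; 0, 0, 0, 1, 0, 0, 0, 0; 0, 0, 0, 0, 1, 0, 0, 0; 0, 0, 0, 0, -1, 1, 0, 0; 0, 0, 0, 0, 0, 0, 1, 0; 0, 0, 0, 0, 0, 0, 0, 1]

/-- Its twelfth power. -/
def mA12 : Matrix (Fin 8) (Fin 8) ℤ :=
  !![1, 0, 0, 0, 0, 0, 0, 0; 0, 1, 12, 0, 0, 0, 0, 0; 0, 0, 1, 0, 0, 0, 0, 0; 0, 0, 0, 1, 0, 0, 0, 0; 0, 0, 0, 0, 1, 0, 0, 0; 0, 0, 0, 0, -12, 1, 0, 0; 0, 0, 0, 0, 0, 0, 1, 0; 0, 0, 0, 0, 0, 0, 0, 1]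

/-- The first commutator. -/
def mB1 : Matrix (Fin 8) (Fin 8) ℤ :=
  !![1, 0, 0, -1, -1, 0, 0, 0; 1, 1, 0, -1, -1, -1, 0, -1; 0, 0, 1, 1, 1, 0, 0, 0; 0, 0, 0, 1, 0, 0, 0, 0; 0, 0, 0, 0, 1, 0, 0, 0; 0, 0, 0, -1, 0, 1, 0, 0; 1, 0, 1, 0, 0, -1, 1, -1; 0, 0, 0, 1, 1, 0, 0, 1]

/-- The second commutator. -/
def mB2 : Matrix (Fin 8) (Fin 8) ℤ :=
  !![1, 0, 0, -2, 0, 0, 0, 0; 0, 1, 0, 3, 0, -2, 0, 0; 0, 0, 1, 6, 2, 0, 0, 0; 0, 0, 0, 1, 0, 0, 0, 0; 0, 0, 0, 0, 1, 0, 0, 0; 0, 0, 0, 0, 0, 1, 0, 0; 2, 0, 0, -4, -3, -6, 1, -2; 0, 0, 0, 2, 0, 0, 0, 1]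

/-- The first vector. -/
def mV0 : Matrix (Fin 8) (Fin 8) ℤ :=
  !![1, 0, 0, 2, 0, 0, 0, 0; 0, 1, 12, -75, -24, 2, 0, 0; 0, 0, 1, -6, -2, 0, 0, 0; 0, 0, 0, 1, 0, 0, 0, 0; 0, 0, 0, 0, 1, 0, 0, 0; 0, 0, 0, 0, -12, 1, 0, 0; -2, 0, 0, -4, 3, 6, 1, 2; 0, 0, 0, -2, 0, 0, 0, 1]

/-- The second vector. -/
def mV1 : Matrix (Fin 8) (Fin 8) ℤ :=
  !![1, 0, 0, -12, -12, 0, 0, 0; 12, 1, 0, -72, -144, -12, 0, -12; 0, 0, 1, 6, 12, 0, 0, 0; 0, 0, 0, 1, 0, 0, 0, 0; 0, 0, 0, 0, 1, 0, 0, 0; 0, 0, 0, -12, 0, 1, 0, 0; 12, 0, 12, -72, -72, -6, 1, -12; 0, 0, 0, 12, 12, 0, 0, 1]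

/-- The third vector. -/
def mV2 : Matrix (Fin 8) (Fin 8) ℤ :=
  !![1, 0, 0, -24, 0, 0, 0, 0; 0, 1, 0, 432, 0, -24, 0, 0; 0, 0, 1, 72, 24, 0, 0, 0; 0, 0, 0, 1, 0, 0, 0, 0; 0, 0, 0, 0, 1, 0, 0, 0; 0, 0, 0, 0, 0, 1, 0, 0; 24, 0, 0, -576, -432, -72, 1, -24; 0, 0, 0, 24, 0, 0, 0, 1]

/-- The fourth vector. -/
def mV3 : Matrix (Fin 8) (Fin 8) ℤ :=
  !![1, 0, 0, 0, 0, 0, 0, 0; 0, 1, 0, 0, 0, 0, 0, 0; 0, 0, 1, 72, 0, 0, 0, 0; 0, 0, 0, 1, 0, 0, 0, 0; 0, 0, 0, 0, 1, 0, 0, 0; 0, 0, 0, 0, 0, 1, 0, 0; 0, 0, 0, 0, 0, -72, 1, 0; 0, 0, 0, 0, 0, 0, 0, 1]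

/-- The centre. -/
def mZ : Matrix (Fin 8) (Fin 8) ℤ :=
  !![1, 0, 0, 0, 0, 0, 0, 0; 0, 1, 0, 864, 0, 0, 0, 0; 0, 0, 1, 0, 0, 0, 0, 0; 0, 0, 0, 1, 0, 0, 0, 0; 0, 0, 0, 0, 1, 0, 0, 0; 0, 0, 0, 0, 0, 1, 0, 0; 0, 0, 0, 0, -864, 0, 1, 0; 0, 0, 0, 0, 0, 0, 0, 1]

/-- The relations, over the integers. -/
theorem rels : mA * mB1 * mX = mX * mA ∧ mB1 * mB2 * mX = mX * mB1 ∧ mV0 * mB2 = mA12 ∧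
    mX * mV0 = mV0 * mV1 * mX ∧ mX * mV1 = mV1 * mV2 * mX ∧ mX * mV2 = mV2 * mV3 * mX ∧
    mX * mV3 = mV3 * mX ∧ mV0 * mV1 = mV1 * mV0 ∧ mV0 * mV2 = mZ * mV2 * mV0 ∧
    mV0 * mV3 = mZ * mV3 * mV0 ∧ mZ * (mV1 * mV2) = mV2 * mV1 ∧ mV1 * mV3 = mV3 * mV1 ∧
    mV2 * mV3 = mV3 * mV2 ∧ mZ * mX = mX * mZ ∧ mZ * mV0 = mV0 * mZ ∧ mZ * mV1 = mV1 * mZ ∧
    mZ * mV2 = mV2 * mZ ∧ mZ * mV3 = mV3 * mZ ∧ mV0 * mV2 = mZ * (mV2 * mV0) := by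
  decide +kernel

/-- All six are unipotent of index three. -/
theorem unip : ∀ M ∈ [mX, mV0, mV1, mV2, mV3, mZ], (M - 1) * ((M - 1) * (M - 1)) = 0 := by
  decide +kernel

end CfsgLib.Fusion.ESReduce.G2Model
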