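import Cfsg.Agent.Lib.Fusion.ESReduce.Chain
import Cfsg.Agent.Lib.Fusion.PSLUnitri
import Cfsg.Agent.Lib.Fusion.PSpPSUChar
import Cfsg.Prelude.Def_Classical

/-!
The Sylow `p`-subgroups of `SL(4,p)` and `SU(4,p)`, `p` odd, have order `p ^ 6` and two blocks.
-/

set_option autoImplicit false
set_option linter.unusedSectionVars false
set_option linter.style.haveILetI false
set_option maxHeartbeats 800000

namespace CfsgLib.Fusion.ESReduce

open scoped Matrix

section Generic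

variable {R : Type*} [CommRing R]

/-- An upper unitriangular matrix of size four. -/
def M (a b c d e f : R) : Matrix (Fin 4) (Fin 4) R := !![1, a, d, f; 0, 1, b, e; 0, 0, 1, c; 0, 0, 0, 1]

theorem M_mul (a b c d e f a' b' c' d' e' f' : R) :
    M a b c d e f * M a' b' c' d' e' f' =
      M (a + a') (b + b') (c + c') (d + d' + a * b') (e + e' + b * c') (f + f' + a * e' + d * c') := by
  ext i j
  fin_cases i <;> fin_cases j <;> simp [M, Matrix.mul_apply, Fin.sum_univ_succ] <;> ring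

theorem M_zero : (M 0 0 0 0 0 0 : Matrix (Fin 4) (Fin 4) R) = 1 := by
  ext i j
  fin_cases i <;> fin_cases j <;> simp [M]

theorem M_det (a b c d e f : R) : (M a b c d e f).det = 1 := by
  simp [M, Matrix.det_succ_row_zero, Fin.sum_univ_succ]

theorem M_pow_outer (a c : R) (n : ℕ) : M a 0 c 0 0 0 ^ n = M (n * a) 0 (n * c) 0 0 0 := by
  induction n with
  | zero => simp [M_zero]
  | succ n ih => rw [pow_succ, ih, M_mul]; congr 1 <;> push_cast <;> ring

theorem M_pow_inner (b d e f : R) (n : ℕ) :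
    M 0 b 0 d e f ^ n = M 0 (n * b) 0 (n * d) (n * e) (n * f) := by
  induction n with
  | zero => simp [M_zero]
  | succ n ih => rw [pow_succ, ih, M_mul]; congr 1 <;> push_cast <;> ring

theorem M_inj {a b c d e f a' b' c' d' e' f' : R} (h : M a b c d e f = M a' b' c' d' e' f') :
    a = a' ∧ b = b' ∧ c = c' ∧ d = d' ∧ e = e' ∧ f = f' :=
  ⟨by simpa [M] using congrFun (congrFun h 0) 1, by simpa [M] using congrFun (congrFun h 1) 2,
    by simpa [M] using congrFun (congrFun h 2) 3, by simpa [M] using congrFun (congrFun h 0) 2,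
    by simpa [M] using congrFun (congrFun h 1) 3, by simpa [M] using congrFun (congrFun h 0) 3⟩

variable {G : Type*} [Group G] {p : ℕ} [CharP R p] (ι : G →* Matrix (Fin 4) (Fin 4) R)
  (hι : Function.Injective ι) {θ a₁ c₁ a₂ c₂ ζ : R} {ε : ℤ} {x v₁ v₂ u₁ u₂ z : G}

theorem map_zpow_center (hι : Function.Injective ι) (hz : ι z = M 0 0 0 0 0 ζ) (m : ℤ) :
    ι (z ^ m) = M 0 0 0 0 0 (m * ζ) := by
  obtain ⟨n, rfl | rfl⟩ := m.eq_nat_or_neg
  · rw [zpow_natCast, map_pow, hz, M_pow_inner]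
    simp
  · have h1 : ι (z ^ (-(n : ℤ))) * M 0 0 0 0 0 (n * ζ) = 1 := by
      have h2 : ι (z ^ n) = M 0 0 0 0 0 (n * ζ) := by rw [map_pow, hz, M_pow_inner]; simp
      rw [← h2, ← map_mul, zpow_neg, zpow_natCast, inv_mul_cancel, map_one]
    have h3 : M 0 0 0 0 0 (n * ζ) * M 0 0 0 0 0 (-(n * ζ)) = (1 : Matrix (Fin 4) (Fin 4) R) := by
      rw [M_mul, ← M_zero]; congr 1 <;> ring
    calc ι (z ^ (-(n : ℤ))) = ι (z ^ (-(n : ℤ))) * (M 0 0 0 0 0 (n * ζ) * M 0 0 0 0 0 (-(n * ζ))) := by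
          rw [h3, mul_one]
      _ = _ := by rw [← mul_assoc, h1, one_mul]; push_cast; rw [neg_mul]

include hι in
theorem twoBlock_of_mats (hx : ι x = M 0 θ 0 0 0 0) (hv₁ : ι v₁ = M a₁ 0 c₁ 0 0 0)
    (hv₂ : ι v₂ = M a₂ 0 c₂ 0 0 0) (hu₁ : ι u₁ = M 0 0 0 (-(a₁ * θ)) (θ * c₁) (-(a₁ * θ * c₁)))
    (hu₂ : ι u₂ = M 0 0 0 (-(a₂ * θ)) (θ * c₂) (-(a₂ * θ * c₂))) (hz : ι z = M 0 0 0 0 0 ζ)
    (h11 : θ * (a₁ * c₁ + a₁ * c₁) = ζ) (h12 : θ * (a₁ * c₂ + a₂ * c₁) = 0)
    (h22 : θ * (a₂ * c₂ + a₂ * c₂) = ε * ζ) : TwoBlock p ε x v₁ v₂ u₁ u₂ z where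
  px := hι (by rw [map_pow, hx, M_pow_inner, map_one, CharP.cast_eq_zero, ← M_zero]; simp)
  pv₁ := hι (by rw [map_pow, hv₁, M_pow_outer, map_one, CharP.cast_eq_zero, ← M_zero]; simp)
  pv₂ := hι (by rw [map_pow, hv₂, M_pow_outer, map_one, CharP.cast_eq_zero, ← M_zero]; simp)
  pu₁ := hι (by rw [map_pow, hu₁, M_pow_inner, map_one, CharP.cast_eq_zero, ← M_zero]; simp)
  pu₂ := hι (by rw [map_pow, hu₂, M_pow_inner, map_one, CharP.cast_eq_zero, ← M_zero]; simp)
  pz := hι (by rw [map_pow, hz, M_pow_inner, map_one, CharP.cast_eq_zero, ← M_zero]; simp)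
  xv₁ := hι (by simp only [map_mul, hx, hv₁, hu₁, M_mul]; congr 1 <;> ring)
  xv₂ := hι (by simp only [map_mul, hx, hv₂, hu₂, M_mul]; congr 1 <;> ring)
  xu₁ := hι (by simp only [map_mul, hx, hu₁, M_mul]; congr 1 <;> ring)
  xu₂ := hι (by simp only [map_mul, hx, hu₂, M_mul]; congr 1 <;> ring)
  v₁v₂ := hι (by simp only [map_mul, hv₁, hv₂, M_mul]; congr 1 <;> ring)
  u₁u₂ := hι (by simp only [map_mul, hu₁, hu₂, M_mul]; congr 1 <;> ring)
  v₁u₁ := hι (by
    simp only [map_mul, hv₁, hu₁, hz, M_mul]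
    congr 1 <;> first | linear_combination h11 | ring)
  v₁u₂ := hι (by
    simp only [map_mul, hv₁, hu₂, M_mul]
    congr 1 <;> first | linear_combination h12 | ring)
  v₂u₁ := hι (by
    simp only [map_mul, hv₂, hu₁, M_mul]
    congr 1 <;> first | linear_combination h12 | ring)
  v₂u₂ := hι (by
    simp only [map_mul, map_zpow_center ι hι hz, hv₂, hu₂, M_mul]
    congr 1 <;> first | linear_combination h22 | ring)
  zx := hι (by simp only [map_mul, hx, hz, M_mul]; congr 1 <;> ring)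
  zv₁ := hι (by simp only [map_mul, hv₁, hz, M_mul]; congr 1 <;> ring)
  zv₂ := hι (by simp only [map_mul, hv₂, hz, M_mul]; congr 1 <;> ring)
  zu₁ := hι (by simp only [map_mul, hu₁, hz, M_mul]; congr 1 <;> ring)
  zu₂ := hι (by simp only [map_mul, hu₂, hz, M_mul]; congr 1 <;> ring)

include hι in
theorem isTwoBlock_of_mats [Finite G] [Fact p.Prime] [IsDomain R] (φ : ZMod p →+* R)
    (hx : ι x = M 0 θ 0 0 0 0) (hv₁ : ι v₁ = M a₁ 0 c₁ 0 0 0)
    (hv₂ : ι v₂ = M a₂ 0 c₂ 0 0 0) (hu₁ : ι u₁ = M 0 0 0 (-(a₁ * θ)) (θ * c₁) (-(a₁ * θ * c₁)))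
    (hu₂ : ι u₂ = M 0 0 0 (-(a₂ * θ)) (θ * c₂) (-(a₂ * θ * c₂))) (hz : ι z = M 0 0 0 0 0 ζ)
    (h11 : θ * (a₁ * c₁ + a₁ * c₁) = ζ) (h12 : θ * (a₁ * c₂ + a₂ * c₁) = 0)
    (h22 : θ * (a₂ * c₂ + a₂ * c₂) = ε * ζ) (hθ : θ ≠ 0) (hζ : ζ ≠ 0)
    (hindep : ∀ i j : ZMod p, φ i * a₁ + φ j * a₂ = 0 → φ i * c₁ + φ j * c₂ = 0 → i = 0 ∧ j = 0)
    (U : Subgroup G) (hU : ¬ p ∣ U.index) (hUp : IsPGroup p U) (hUc : Nat.card U ≤ p ^ 6)
    (hmem : x ∈ U ∧ v₁ ∈ U ∧ v₂ ∈ U ∧ u₁ ∈ U ∧ u₂ ∈ U ∧ z ∈ U) (P : Sylow p G) :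
    IsTwoBlock p ε (P : Subgroup G) := by
  have hT := twoBlock_of_mats (p := p) ι hι hx hv₁ hv₂ hu₁ hu₂ hz h11 h12 h22
  set K := Subgroup.closure {x, v₁, v₂, u₁, u₂, z} with hKdef
  have hKU : K ≤ U := (Subgroup.closure_le _).2 (by
    simp only [Set.insert_subset_iff, Set.singleton_subset_iff, SetLike.mem_coe]
    exact hmem)
  have m : ∀ {g : G}, g ∈ ({x, v₁, v₂, u₁, u₂, z} : Set G) → ∀ i : ZMod p, g ^ i.val ∈ K :=
    fun hg i => pow_mem (Subgroup.subset_closure hg) _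
  let F : (Fin 6 → ZMod p) → K := fun t => ⟨v₁ ^ (t 0).val * v₂ ^ (t 1).val * x ^ (t 2).val * u₁ ^ (t 3).val *
      u₂ ^ (t 4).val * z ^ (t 5).val,
    mul_mem (mul_mem (mul_mem (mul_mem (mul_mem (m (by simp) _) (m (by simp) _)) (m (by simp) _))
      (m (by simp) _)) (m (by simp) _)) (m (by simp) _)⟩
  have hcast : ∀ i : ZMod p, ((i.val : ℕ) : R) = φ i := fun i => by
    rw [← map_natCast φ, ZMod.natCast_zmod_val]
  have hF : Function.Injective F := by
    intro s t hst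
    have h := congrArg (fun g : K => ι (g : G)) hst
    simp only [F, map_mul, map_pow, hx, hv₁, hv₂, hu₁, hu₂, hz, M_pow_inner, M_pow_outer, M_mul, hcast] at h
    obtain ⟨ea, eb, ec, ed, ee, ef⟩ := M_inj h
    obtain ⟨i0, i1⟩ := hindep (s 0 - t 0) (s 1 - t 1) (by rw [map_sub, map_sub]; linear_combination ea)
      (by rw [map_sub, map_sub]; linear_combination ec)
    rw [sub_eq_zero] at i0 i1
    simp only [i0, i1, add_zero, zero_add, mul_zero, zero_mul] at eb ed ee ef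
    have i2 : s 2 = t 2 := φ.injective (mul_right_cancel₀ hθ (by linear_combination eb))
    simp only [i2] at ed ee ef
    obtain ⟨i3, i4⟩ := hindep (s 3 - t 3) (s 4 - t 4)
      (mul_left_cancel₀ hθ (by rw [map_sub, map_sub, mul_zero]; linear_combination -ed))
      (mul_left_cancel₀ hθ (by rw [map_sub, map_sub, mul_zero]; linear_combination ee))
    rw [sub_eq_zero] at i3 i4
    simp only [i3, i4] at ef
    have i5 : s 5 = t 5 := φ.injective (mul_right_cancel₀ hζ (by linear_combination ef))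
    funext i
    fin_cases i
    · exact i0
    · exact i1
    · exact i2
    · exact i3
    · exact i4
    · exact i5
  have hlow := Nat.card_le_card_of_injective F hF
  rw [Nat.card_fun, Nat.card_fin, Nat.card_zmod] at hlow
  have hle : Nat.card K ≤ Nat.card U := Nat.card_le_card_of_injective _ (Subgroup.inclusion_injective hKU)
  have hKeq : K = U := Subgroup.eq_of_le_of_card_ge hKU (hUc.trans hlow)
  have hc : Nat.card U = p ^ 6 := le_antisymm hUc (hlow.trans hle)
  exact isTwoBlock_sylow (hUp.toSylow hU) P (isTwoBlock_subgroup hT hKeq hc)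

end Generic

/-! ### The linear group -/

/-- Every Sylow `p`-subgroup of `SL(4,p)`. -/
theorem sylow_sl_four {p : ℕ} [Fact p.Prime] (hp : Odd p)
    (P : Sylow p (Matrix.SpecialLinearGroup (Fin 4) (ZMod p))) :
    IsTwoBlock p (-1) (P : Subgroup (Matrix.SpecialLinearGroup (Fin 4) (ZMod p))) := by
  have h2 : (2 : ZMod p) ≠ 0 := by
    intro h
    have h' : ((2 : ℕ) : ZMod p) = 0 := by exact_mod_cast h
    rw [ZMod.natCast_eq_zero_iff] at h'
    have := (Nat.prime_two).eq_one_or_self_of_dvd p h'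
    have h1 := (Fact.out : p.Prime).ne_one
    obtain ⟨k, hk⟩ := hp
    omega
  let mk : ZMod p → ZMod p → ZMod p → ZMod p → ZMod p → ZMod p → Matrix.SpecialLinearGroup (Fin 4) (ZMod p) :=
    fun a b c d e f => ⟨M a b c d e f, M_det a b c d e f⟩
  let ι : Matrix.SpecialLinearGroup (Fin 4) (ZMod p) →* Matrix (Fin 4) (Fin 4) (ZMod p) :=
    { toFun := fun A => A.1, map_one' := rfl, map_mul' := fun _ _ => rfl }
  have hmk : ∀ a b c d e f, mk a b c d e f ∈ SLUni.U (ZMod p) 4 := fun a b c d e f => by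
    intro i j hji
    show M a b c d e f i j = _
    fin_cases i <;> fin_cases j <;> simp_all [M]
  refine isTwoBlock_of_mats ι (fun A B h => Subtype.ext h) (θ := 1) (a₁ := 1) (c₁ := 2⁻¹) (a₂ := 1)
    (c₂ := -2⁻¹) (ζ := 1) (ε := -1) (RingHom.id _) (x := mk 0 1 0 0 0 0) (v₁ := mk 1 0 2⁻¹ 0 0 0)
    (v₂ := mk 1 0 (-2⁻¹) 0 0 0) (u₁ := mk _ _ _ _ _ _) (u₂ := mk _ _ _ _ _ _) (z := mk _ _ _ _ _ _)
    rfl rfl rfl rfl rfl rfl (by field_simp; ring) (by ring) (by push_cast; field_simp; ring) one_ne_zero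
    one_ne_zero ?_ (SLUni.U (ZMod p) 4) ?_ (SLUni.isPGroup_U (by norm_num)) ?_
    ⟨hmk _ _ _ _ _ _, hmk _ _ _ _ _ _, hmk _ _ _ _ _ _, hmk _ _ _ _ _ _, hmk _ _ _ _ _ _, hmk _ _ _ _ _ _⟩ P
  · intro i j ha hc
    simp only [RingHom.id_apply, mul_one] at ha hc
    have hj : j = -i := by linear_combination ha
    subst hj
    have hi : i = 0 := by
      field_simp at hc
      rcases mul_eq_zero.1 (show i * 2 = 0 by linear_combination hc) with h | h
      · exact h
      · exact absurd h h2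
    exact ⟨hi, by rw [hi, neg_zero]⟩
  · exact not_dvd_index_of_pElements (SLUni.isPGroup_U (by norm_num))
      fun g hg k hk => SLUni.pElement_mem hg k hk
  · let F : SLUni.U (ZMod p) 4 → (Fin 6 → ZMod p) := fun A =>
      ![A.1.1 0 1, A.1.1 0 2, A.1.1 0 3, A.1.1 1 2, A.1.1 1 3, A.1.1 2 3]
    have hF : Function.Injective F := fun A B h => by
      have e0 := congrFun h 0
      have e1 := congrFun h 1
      have e2 := congrFun h 2
      have e3 := congrFun h 3
      have e4 := congrFun h 4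
      have e5 := congrFun h 5
      refine Subtype.ext (Subtype.ext ?_)
      ext i j
      by_cases hji : j ≤ i
      · rw [A.2 i j hji, B.2 i j hji]
      · fin_cases i <;> fin_cases j <;> simp_all [F]
    refine (Nat.card_le_card_of_injective F hF).trans_eq ?_
    rw [Nat.card_fun, Nat.card_fin, Nat.card_zmod]

/-! ### The unitary group -/

/-- `SU_n` as the isometry group of the antidiagonal form. -/
theorem exists_suEquiv {K : Type*} [Field K] [Fintype K] (p q : ℕ) [Fact p.Prime] [CharP K p]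
    (hK : Fintype.card K = q ^ 2) {n : ℕ} (hn : 3 ≤ n) :
    ∃ σ : K ≃+* K, (FormGroup.suDat σ n).Good ∧ Nonempty (Cfsg.SU n K q ≃* (FormGroup.suDat σ n).group) := by
  obtain ⟨σ, hσq, hσ⟩ := CfsgLib.Classical.SemiUnitary.exists_qFrobEquiv hK
  have hD := FormGroup.suGood hσ hn
  refine ⟨σ, hD, ?_⟩
  set D := FormGroup.suDat σ n with hDd
  have hJJ : D.J * D.J = 1 := by
    rw [hD.J_mul_J]
    exact one_smul K _
  obtain ⟨h, hh⟩ := CfsgLib.KnownC.exists_congr_one σ hσ ⟨D.J, D.J, hJJ, hJJ⟩ (FormGroup.suJ_map σ n)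
  set P : Matrix (Fin n) (Fin n) K := (h : Matrix (Fin n) (Fin n) K)ᵀ with hP
  set Q : Matrix (Fin n) (Fin n) K := ((h⁻¹ : GL (Fin n) K) : Matrix (Fin n) (Fin n) K)ᵀ with hQ
  have hPQ : P * Q = 1 := by rw [hP, hQ, ← Matrix.transpose_mul, Units.inv_mul, Matrix.transpose_one]
  have hQP : Q * P = 1 := by rw [hP, hQ, ← Matrix.transpose_mul, Units.mul_inv, Matrix.transpose_one]
  have hJ : D.J = Pᵀ * P.map σ := by
    rw [hP, Matrix.transpose_transpose]
    exact hh.trans (by rw [Matrix.transpose_map])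
  have hQ' : Qᵀ * D.J * Q.map σ = 1 := by
    rw [hJ, ← mul_assoc, ← Matrix.transpose_mul, hPQ, Matrix.transpose_one, one_mul, ← Matrix.map_mul, hPQ,
      Matrix.map_one _ (map_zero σ) (map_one σ)]
  have hdet : ∀ A : Matrix (Fin n) (Fin n) K, (Q * A * P).det = A.det := fun A => by
    rw [Matrix.det_mul, Matrix.det_mul, mul_right_comm, ← Matrix.det_mul, hQP, Matrix.det_one, one_mul]
  have hmap : ∀ X : Matrix (Fin n) (Fin n) K,
      X.map σ = X.map (CfsgLib.Classical.qFrob hK) := fun X => by ext i j; exact hσq _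
  have hiso : ∀ s : Cfsg.SU n K q, D.IsIsom (Q * s.1.1 * P) := fun s => by
    show (Q * s.1.1 * P)ᵀ * D.J * (Q * s.1.1 * P).map σ = D.J
    have hs := (CfsgLib.Classical.mem_su_iff hK s.1).1 s.2
    rw [← hmap] at hs
    rw [Matrix.transpose_mul, Matrix.transpose_mul, Matrix.map_mul, Matrix.map_mul]
    calc Pᵀ * (s.1.1ᵀ * Qᵀ) * D.J * (Q.map σ * s.1.1.map σ * P.map σ)
        = Pᵀ * (s.1.1ᵀ * (Qᵀ * D.J * Q.map σ) * s.1.1.map σ) * P.map σ := by
          simp only [mul_assoc]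
      _ = _ := by rw [hQ', mul_one, hs, mul_one, hJ]
  let φ : Cfsg.SU n K q →* D.group :=
    { toFun := fun s => ⟨Matrix.GeneralLinearGroup.mkOfDetNeZero (Q * s.1.1 * P)
          (by rw [hdet, s.1.2]; exact one_ne_zero),
        hiso s, by
          show (Q * s.1.1 * P).det = 1
          rw [hdet, s.1.2]⟩
      map_one' := Subtype.ext (Units.ext (by
        show Q * 1 * P = 1
        rw [mul_one, hQP]))
      map_mul' := fun s t => Subtype.ext (Units.ext (by
        show Q * (s.1.1 * t.1.1) * P = Q * s.1.1 * P * (Q * t.1.1 * P)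
        calc Q * (s.1.1 * t.1.1) * P = Q * s.1.1 * 1 * t.1.1 * P := by
              simp only [mul_one, mul_assoc]
          _ = _ := by rw [← hPQ]; simp only [mul_assoc])) }
  have hbij : Function.Bijective φ := by
    refine ⟨fun s t hst => ?_, fun g => ?_⟩
    · have h1 : Q * s.1.1 * P = Q * t.1.1 * P := congrArg (fun g : D.group => FormGroup.mat g) hst
      have h2 := congrArg (fun X => P * X * Q) h1
      simp only [← mul_assoc, hPQ, one_mul] at h2
      simp only [mul_assoc, hPQ, mul_one] at h2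
      exact Subtype.ext (Subtype.ext h2)
    · have hd : (P * FormGroup.mat g * Q).det = 1 := by
        rw [Matrix.det_mul, Matrix.det_mul, mul_right_comm, ← Matrix.det_mul, hPQ, Matrix.det_one, one_mul,
          FormGroup.mat_det]
      refine ⟨⟨⟨P * FormGroup.mat g * Q, hd⟩, (CfsgLib.Classical.mem_su_iff hK _).2 ?_⟩,
        Subtype.ext (Units.ext ?_)⟩
      · show (P * FormGroup.mat g * Q)ᵀ * (P * FormGroup.mat g * Q).map (CfsgLib.Classical.qFrob hK) = 1
        rw [← hmap, Matrix.transpose_mul, Matrix.transpose_mul, Matrix.map_mul, Matrix.map_mul]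
        calc Qᵀ * ((FormGroup.mat g)ᵀ * Pᵀ) * (P.map σ * (FormGroup.mat g).map σ * Q.map σ)
            = Qᵀ * ((FormGroup.mat g)ᵀ * (Pᵀ * P.map σ) * (FormGroup.mat g).map σ) * Q.map σ := by
              simp only [mul_assoc]
          _ = _ := by rw [← hJ, show (FormGroup.mat g)ᵀ * D.J * (FormGroup.mat g).map σ = D.J from
              FormGroup.mat_isom g, hQ']
      · show Q * (P * FormGroup.mat g * Q) * P = FormGroup.mat g
        rw [← mul_assoc, ← mul_assoc, hQP, one_mul, mul_assoc, hQP, mul_one]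
  exact ⟨MulEquiv.ofBijective φ hbij⟩

/-- Every Sylow `p`-subgroup of `SU(4,p)`. -/
theorem sylow_su_four {p : ℕ} [Fact p.Prime] (hp : Odd p) {K : Type*} [Field K] [Fintype K]
    (hK : Fintype.card K = p ^ 2) (P : Sylow p (Cfsg.SU 4 K p)) :
    ∃ ε : ℤ, ¬ IsSquare (-(ε : ZMod p)) ∧ IsTwoBlock p ε (P : Subgroup (Cfsg.SU 4 K p)) := by
  classical
  haveI : CharP K p := charP_of_card_eq_prime_pow hK
  obtain ⟨σ, hD, ⟨e⟩⟩ := exists_suEquiv p p hK (show 3 ≤ 4 by norm_num)
  set D := FormGroup.suDat σ 4 with hDd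
  have hσσ : ∀ y, σ (σ y) = y := hD.hσ
  let φ := ZMod.castHom (dvd_refl p) K
  have hσφ : ∀ i, σ (φ i) = φ i := fun i =>
    RingHom.congr_fun (Subsingleton.elim ((σ : K →+* K).comp φ) φ) i
  have h2 : (2 : K) ≠ 0 := Ring.two_ne_zero (by
    rw [ringChar.eq K p]
    obtain ⟨k, hk⟩ := hp
    omega)
  obtain ⟨θ, hθ, hθ'⟩ := hD.theta
  have hσθ : σ θ = -θ := by
    have h : θ + 1 * σ θ = 0 := hθ'
    linear_combination h
  have hbasis : ∀ y : K, ∃ i j : ZMod p, φ i + φ j * θ = y := by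
    have hinj : Function.Injective fun t : ZMod p × ZMod p => φ t.1 + φ t.2 * θ := by
      intro s t h
      simp only at h
      have h' := congrArg σ h
      simp only [map_add, map_mul, hσφ, hσθ] at h'
      have e1 : φ s.1 = φ t.1 := mul_left_cancel₀ h2 (by linear_combination h + h')
      have e2 : φ s.2 = φ t.2 := mul_right_cancel₀ hθ (by linear_combination h - e1)
      exact Prod.ext (φ.injective e1) (φ.injective e2)
    have hb := (Fintype.bijective_iff_injective_and_card _).2 ⟨hinj, by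
      rw [Fintype.card_prod, ZMod.card, hK, sq]⟩
    exact fun y => ⟨(hb.2 y).choose.1, (hb.2 y).choose.2, (hb.2 y).choose_spec⟩
  choose re im hy using hbasis
  have hre : ∀ y, y + σ y = 2 * φ (re y) := fun y => by
    conv_lhs => rw [← hy y, map_add, map_mul, hσφ, hσφ, hσθ]
    ring
  -- the parameter
  obtain ⟨ε, hε⟩ : ∃ ε : ℤ, (ε : K) = -(θ * θ) := by
    refine ⟨(re (-(θ * θ))).val, ?_⟩
    have h := hre (-(θ * θ))
    rw [map_neg, map_mul, hσθ] at h
    rw [Int.cast_natCast, ← map_natCast φ, ZMod.natCast_zmod_val]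
    exact mul_left_cancel₀ h2 (by linear_combination -h)
  have hsq : ¬ IsSquare (-(ε : ZMod p)) := by
    rintro ⟨s, hs⟩
    have h := congrArg φ hs
    rw [map_neg, map_intCast, hε, neg_neg, map_mul] at h
    have h0 : σ θ = θ := by
      rcases mul_self_eq_mul_self_iff.1 h with h1 | h1
      · rw [h1, hσφ]
      · rw [h1, map_neg, hσφ]
    rw [hσθ] at h0
    exact mul_ne_zero h2 hθ (by linear_combination -h0)
  refine ⟨ε, hsq, ?_⟩
  -- the elements
  haveI : Finite D.group := Finite.of_injective (fun g : D.group => FormGroup.mat g) fun _ _ h => FormGroup.mat_inj h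
  have hel : ∀ a b c d e' f : K, D.IsIsom (M a b c d e' f) →
      ∃ g : D.group, FormGroup.mat g = M a b c d e' f ∧ g ∈ FormGroup.U D := fun a b c d e' f h => by
    refine ⟨⟨Matrix.GeneralLinearGroup.mkOfDetNeZero (M a b c d e' f) (by rw [M_det]; exact one_ne_zero), h,
      M_det a b c d e' f⟩, rfl, ?_⟩
    intro i j hji
    show M a b c d e' f i j = _
    fin_cases i <;> fin_cases j <;> simp_all [M]
  have hiso : ∀ a b d f : K, σ b = -b → f + σ f = a * σ d + d * σ a → (a = 0 ∨ (b = 0 ∧ d = 0)) →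
      D.IsIsom (M a b (-σ a) d (-σ d) f) := by
    intro a b d f hb hf hab
    show (M a b (-σ a) d (-σ d) f)ᵀ * D.J * (M a b (-σ a) d (-σ d) f).map σ = D.J
    rcases hab with rfl | ⟨rfl, rfl⟩
    · simp only [map_zero, zero_mul, mul_zero, add_zero] at hf
      have hf' : σ f = -f := by linear_combination hf
      ext i j
      fin_cases i <;> fin_cases j <;>
        simp [M, hDd, FormGroup.suDat, FormGroup.Dat.J, Matrix.mul_apply, Fin.sum_univ_succ, Fin.rev, hσσ, hb, hf']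
    · simp only [map_zero, zero_mul, mul_zero, add_zero] at hf
      have hf' : σ f = -f := by linear_combination hf
      ext i j
      fin_cases i <;> fin_cases j <;>
        simp [M, hDd, FormGroup.suDat, FormGroup.Dat.J, Matrix.mul_apply, Fin.sum_univ_succ, Fin.rev, hσσ, hf']
  obtain ⟨x, hx, hxU⟩ := hel _ _ _ _ _ _ (hiso 0 θ 0 0 hσθ (by simp) (Or.inl rfl))
  obtain ⟨v₁, hv₁, hv₁U⟩ := hel _ _ _ _ _ _ (hiso 1 0 0 0 (by simp) (by simp) (Or.inr ⟨rfl, rfl⟩))
  obtain ⟨v₂, hv₂, hv₂U⟩ := hel _ _ _ _ _ _ (hiso θ 0 0 0 (by simp) (by simp) (Or.inr ⟨rfl, rfl⟩))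
  obtain ⟨u₁, hu₁, hu₁U⟩ := hel _ _ _ _ _ _ (hiso 0 0 (-(1 * θ)) (-(1 * θ * -σ 1)) (by simp)
    (by simp [hσθ]) (Or.inl rfl))
  obtain ⟨u₂, hu₂, hu₂U⟩ := hel _ _ _ _ _ _ (hiso 0 0 (-(θ * θ)) (-(θ * θ * -σ θ)) (by simp)
    (by simp [hσθ]) (Or.inl rfl))
  obtain ⟨z, hz, hzU⟩ := hel _ _ _ _ _ _ (hiso 0 0 0 (θ * (1 * -σ 1 + 1 * -σ 1)) (by simp)
    (by simp [hσθ]) (Or.inl rfl))
  let ι : D.group →* Matrix (Fin 4) (Fin 4) K :=
    { toFun := fun g => FormGroup.mat g, map_one' := rfl, map_mul' := fun _ _ => rfl }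
  haveI : Finite (Cfsg.SU 4 K p) := Finite.of_equiv _ e.symm.toEquiv
  haveI : NeZero (4 : ℕ) := ⟨by norm_num⟩
  have hUp : IsPGroup p (FormGroup.U D) := FormGroup.isPGroup_U hD
  have hU : ¬ p ∣ (FormGroup.U D).index :=
    not_dvd_index_of_pElements hUp fun g hg k hk => FormGroup.pElement_mem hD hg k hk
  suffices h : IsTwoBlock p ε ((hUp.toSylow hU : Sylow p D.group) : Subgroup D.group) by
    let Q : Sylow p (Cfsg.SU 4 K p) :=
      (hUp.toSylow hU).mapSurjective (f := e.symm.toMonoidHom) e.symm.surjective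
    refine isTwoBlock_sylow Q P (h.of_equiv ?_)
    exact (Subgroup.equivMapOfInjective _ e.symm.toMonoidHom e.symm.injective).trans
      (MulEquiv.subgroupCongr rfl)
  refine isTwoBlock_of_mats ι (fun A B h => FormGroup.mat_inj h) (θ := θ) (a₁ := 1) (c₁ := -σ 1) (a₂ := θ)
    (c₂ := -σ θ) (ζ := θ * (1 * -σ 1 + 1 * -σ 1)) φ
    (hx.trans (by simp)) (hv₁.trans (by simp)) (hv₂.trans (by simp)) (hu₁.trans (by simp [hσθ]))
    (hu₂.trans (by simp [hσθ])) (hz.trans (by simp)) rfl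
    (by rw [map_one, hσθ]; ring) (by rw [map_one, hσθ, hε]; ring) hθ
    (mul_ne_zero hθ (by rw [map_one]; intro h; exact h2 (by linear_combination -h))) ?_
    (FormGroup.U D) hU hUp ?_ ⟨hxU, hv₁U, hv₂U, hu₁U, hu₂U, hzU⟩ _
  · intro i j ha hc
    rw [map_one, hσθ] at hc
    have e1 : φ i = 0 := mul_left_cancel₀ h2 (by rw [mul_zero]; linear_combination ha - hc)
    have e2 : φ j = 0 := mul_right_cancel₀ hθ (by rw [zero_mul]; linear_combination ha - e1)
    exact ⟨φ.injective (by rw [e1, map_zero]), φ.injective (by rw [e2, map_zero])⟩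
  · -- at most `p ^ 6` unitriangular isometries
    let F : FormGroup.U D → K × K × ZMod p × ZMod p := fun A =>
      (FormGroup.mat A.1 0 1, FormGroup.mat A.1 0 2, im (FormGroup.mat A.1 1 2), im (FormGroup.mat A.1 0 3))
    have hrel : ∀ A : FormGroup.U D,
        FormGroup.mat A.1 0 1 + σ (FormGroup.mat A.1 2 3) = 0 ∧
        FormGroup.mat A.1 1 2 + σ (FormGroup.mat A.1 1 2) = 0 ∧
        FormGroup.mat A.1 0 2 + FormGroup.mat A.1 1 2 * σ (FormGroup.mat A.1 2 3) +
          σ (FormGroup.mat A.1 1 3) = 0 ∧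
        FormGroup.mat A.1 0 3 + FormGroup.mat A.1 1 3 * σ (FormGroup.mat A.1 2 3) +
          FormGroup.mat A.1 2 3 * σ (FormGroup.mat A.1 1 3) + σ (FormGroup.mat A.1 0 3) = 0 := by
      intro A
      have hu : ∀ a b : Fin 4, b ≤ a → FormGroup.mat A.1 a b = if a = b then 1 else 0 := A.2
      refine ⟨?_, ?_, ?_, ?_⟩
      · have h := (FormGroup.mat_isom A.1).col_apply 1 3
        simpa [hDd, FormGroup.suDat, Fin.sum_univ_succ, Fin.rev, hu 0 0, hu 1 1, hu 2 1, hu 3 1, hu 3 3, hu 1 0]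
          using h
      · have h := (FormGroup.mat_isom A.1).col_apply 2 2
        simpa [hDd, FormGroup.suDat, Fin.sum_univ_succ, Fin.rev, hu 2 2, hu 3 2] using h
      · have h := (FormGroup.mat_isom A.1).col_apply 2 3
        simpa [hDd, FormGroup.suDat, Fin.sum_univ_succ, Fin.rev, hu 2 2, hu 3 2, hu 3 3, add_assoc] using h
      · have h := (FormGroup.mat_isom A.1).col_apply 3 3
        simpa [hDd, FormGroup.suDat, Fin.sum_univ_succ, Fin.rev, hu 3 3, add_assoc] using h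
    have hF : Function.Injective F := fun A B h => by
      simp only [F, Prod.mk.injEq] at h
      obtain ⟨ha, hd, hb, hf⟩ := h
      obtain ⟨rA1, rA2, rA3, rA4⟩ := hrel A
      obtain ⟨rB1, rB2, rB3, rB4⟩ := hrel B
      have hc : FormGroup.mat A.1 2 3 = FormGroup.mat B.1 2 3 := by
        rw [← hσσ (FormGroup.mat A.1 2 3), ← hσσ (FormGroup.mat B.1 2 3)]
        exact congrArg σ (by linear_combination rA1 - rB1 - ha)
      have hb' : FormGroup.mat A.1 1 2 = FormGroup.mat B.1 1 2 := by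
        rw [← hy (FormGroup.mat A.1 1 2), ← hy (FormGroup.mat B.1 1 2), hb]
        congr 1
        exact mul_left_cancel₀ h2 (by rw [← hre, ← hre, rA2, rB2])
      have he : FormGroup.mat A.1 1 3 = FormGroup.mat B.1 1 3 := by
        rw [← hσσ (FormGroup.mat A.1 1 3), ← hσσ (FormGroup.mat B.1 1 3)]
        refine congrArg σ ?_
        rw [hc, hb'] at rA3
        linear_combination rA3 - rB3 - hd
      have hf' : FormGroup.mat A.1 0 3 = FormGroup.mat B.1 0 3 := by
        rw [← hy (FormGroup.mat A.1 0 3), ← hy (FormGroup.mat B.1 0 3), hf]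
        congr 1
        refine mul_left_cancel₀ h2 ?_
        rw [hc, he] at rA4
        rw [← hre, ← hre]
        linear_combination rA4 - rB4
      refine Subtype.ext (FormGroup.mat_inj ?_)
      ext i j
      by_cases hji : j ≤ i
      · exact (A.2 i j hji).trans (B.2 i j hji).symm
      · fin_cases i <;> fin_cases j <;> first | assumption | simp_all
    refine (Nat.card_le_card_of_injective F hF).trans_eq ?_
    rw [Nat.card_prod, Nat.card_prod, Nat.card_prod, Nat.card_eq_fintype_card, hK, Nat.card_zmod]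
    ring

end CfsgLib.Fusion.ESReduce
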