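import Cfsg.Agent.Lib.Fusion.ESReduce.Frame

/-!
The elements outside `Q`: their action, their powers, and the uniqueness of `Q`.
-/

set_option autoImplicit false
set_option linter.style.haveILetI false
set_option linter.unusedVariables false
set_option linter.unusedSectionVars false

universe u

namespace CfsgLib.Fusion.ESReduce

open Cfsg Cfsg.FusionSystem Subgroup CfsgLib.Fusion.ESIndex Module
open scoped commutatorElement

variable {Ω : Type u} [Group Ω] {S Q : Subgroup Ω} {p : ℕ} {z : Ω}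

namespace Frame

variable [Fact p.Prime] [Finite S] [Module (ZMod p) (Vt Q)] (fr : Frame p S Q z)

include fr

/-- Every element of `S` is in a coset `Q x ^ i`. -/
theorem decompose {x : Ω} (hx : x ∈ S) (hxQ : x ∉ Q) {g : Ω} (hg : g ∈ S) :
    ∃ q ∈ Q, ∃ i : ℕ, g = q * x ^ i := by
  haveI := fr.subgroupOf_normal
  have hcard : Nat.card (S ⧸ Q.subgroupOf S) = p := by rw [← Subgroup.index_eq_card, fr.st.hQi]
  have hne : (QuotientGroup.mk ⟨x, hx⟩ : S ⧸ Q.subgroupOf S) ≠ 1 := fun h =>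
    hxQ ((QuotientGroup.eq_one_iff (N := Q.subgroupOf S) (⟨x, hx⟩ : S)).1 h)
  obtain ⟨i, hi⟩ := mem_powers_of_prime_card hcard hne
    (g' := (QuotientGroup.mk ⟨g, hg⟩ : S ⧸ Q.subgroupOf S))
  refine ⟨g * (x ^ i)⁻¹, ?_, i, (inv_mul_cancel_right _ _).symm⟩
  have h : (⟨g, hg⟩ : S) * (⟨x, hx⟩ ^ i)⁻¹ ∈ Q.subgroupOf S := by
    rw [← QuotientGroup.eq_one_iff (N := Q.subgroupOf S), QuotientGroup.mk_mul, QuotientGroup.mk_inv,
      QuotientGroup.mk_pow, mul_inv_eq_one]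
    exact hi.symm
  exact h

theorem not_dvd_of_notMem {x : Ω} (hx : x ∈ S) {i : ℕ} (h : x ^ i ∉ Q) : ¬ p ∣ i := fun ⟨k, hk⟩ =>
  h (by rw [hk, pow_mul]; exact Q.pow_mem (fr.S_pow_mem hx) k)

/-- A coprime power of an element outside `Q` is outside `Q`. -/
theorem pow_notMem {x : Ω} (hx : x ∈ S) (hxQ : x ∉ Q) {i : ℕ} (h : ¬ p ∣ i) : x ^ i ∉ Q := by
  intro hi
  haveI := fr.subgroupOf_normal
  have hcard : Nat.card (S ⧸ Q.subgroupOf S) = p := by rw [← Subgroup.index_eq_card, fr.st.hQi]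
  have hne : (QuotientGroup.mk ⟨x, hx⟩ : S ⧸ Q.subgroupOf S) ≠ 1 := fun h' =>
    hxQ ((QuotientGroup.eq_one_iff (N := Q.subgroupOf S) (⟨x, hx⟩ : S)).1 h')
  have ho := orderOf_eq_prime (x := (QuotientGroup.mk ⟨x, hx⟩ : S ⧸ Q.subgroupOf S)) (p := p)
    (by rw [← hcard]; exact pow_card_eq_one') hne
  exact h (ho ▸ orderOf_dvd_of_pow_eq_one
    (by rw [← QuotientGroup.mk_pow, QuotientGroup.eq_one_iff]; exact hi))

theorem cj_eq {q x : Ω} (hq : q ∈ Q) (hx : x ∈ S) (i : ℕ)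
    (h : q * x ^ i ∈ S := S.mul_mem (fr.memS hq) (S.pow_mem hx i)) :
    fr.cj (q * x ^ i) h = fr.cj x hx ^ i := by
  rw [fr.cj_mul (fr.memS hq) (S.pow_mem hx i), fr.cj_of_memQ hq, one_mul, fr.cj_pow hx]

/-- The kernel of the action does not depend on the element outside `Q`. -/
theorem N_eq_zero_all {x : Ω} (hx : x ∈ S) (hxQ : x ∉ Q) {v : Vt Q} (h : (fr.symp hx).N v = 0)
    {g : Ω} (hg : g ∈ S) : (fr.symp hg).N v = 0 := by
  obtain ⟨q, hq, i, rfl⟩ := fr.decompose hx hxQ hg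
  have h1 : fr.cj x hx v = v := sub_eq_zero.1 h
  show fr.cj _ hg v - v = 0
  rw [fr.cj_eq hq hx i hg, sub_eq_zero]
  clear hq hg
  induction i with
  | zero => rfl
  | succ i ih => rw [pow_succ, Module.End.mul_apply, h1, ih]

theorem pr_comm_ker {x : Ω} (hx : x ∈ S) (hxQ : x ∉ Q) {k : Ω} (hk : k ∈ Q)
    (h : (fr.symp hx).N (pr Q k) = 0) {g : Ω} (hg : g ∈ S) : g * k * g⁻¹ * k⁻¹ ∈ zQ Q :=
  (fr.N_eq_zero_iff hg hk).1 (fr.N_eq_zero_all hx hxQ h hg)

/-- Conjugation from outside `Q` is not trivial on the space. -/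
theorem N_ne_zero {x : Ω} (hx : x ∈ S) (hxQ : x ∉ Q) : (fr.symp hx).N ≠ 0 := by
  intro h0
  have hN : ∀ a ∈ Q, x * a * x⁻¹ * a⁻¹ ∈ zQ Q := fun a ha =>
    (fr.N_eq_zero_iff hx ha).1 (by rw [h0, LinearMap.zero_apply])
  let c : Ω → ZMod p := fun a => zlog p z (x * a * x⁻¹ * a⁻¹)
  have hc : ∀ a ∈ Q, x * a * x⁻¹ = ez p z (c a) * a := fun a ha => by
    rw [fr.ez_zlog (hN a ha), inv_mul_cancel_right]
  have hmul : ∀ a ∈ Q, ∀ b ∈ Q, c (a * b) = c a + c b := fun a ha b hb => by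
    refine fr.ez_inj (mul_right_cancel (b := a * b) ?_)
    rw [← hc _ (Q.mul_mem ha hb), fr.ez_add,
      show x * (a * b) * x⁻¹ = (x * a * x⁻¹) * (x * b * x⁻¹) by group, hc a ha, hc b hb]
    simp only [mul_assoc]
    rw [← mul_assoc a, fr.ez_comm (fr.memS ha) (c b), mul_assoc]
  have hcongr : ∀ a ∈ Q, ∀ b ∈ Q, pr Q a = pr Q b → c a = c b := fun a ha b hb he => by
    obtain ⟨t, rfl⟩ := fr.pr_eq ha hb he
    rw [hmul a ha _ (fr.ez_memQ t)]
    have : c (ez p z t) = 0 := fr.ez_inj (mul_right_cancel (b := ez p z t) (by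
      rw [← hc _ (fr.ez_memQ t), fr.ez_zero, one_mul, fr.ez_comm hx t, mul_inv_cancel_right]))
    rw [this, add_zero]
  let L : Vt Q →ₗ[ZMod p] ZMod p := AddMonoidHom.toZModLinearMap p (AddMonoidHom.mk'
    (fun v => c (lift v)) fun v w => by
      show c (lift (v + w)) = c (lift v) + c (lift w)
      rw [← hmul _ (lift_mem v) _ (lift_mem w)]
      exact hcongr _ (lift_mem _) _ (Q.mul_mem (lift_mem v) (lift_mem w))
        (by rw [pr_mul (lift_mem v) (lift_mem w), pr_lift, pr_lift, pr_lift]))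
  haveI := fr.finite_Vt
  have hnd : LinearMap.BilinForm.Nondegenerate fr.form := (fr.symp hx).nondeg_iff
  obtain ⟨v, hv⟩ := (LinearMap.injective_iff_surjective_of_finrank_eq_finrank
    Subspace.dual_finrank_eq.symm).1 (LinearMap.ker_eq_bot.1 hnd.ker_eq_bot) L
  obtain ⟨e, he, rfl⟩ := exists_pr v
  have hce : ∀ a ∈ Q, c a = fr.form (pr Q e) (pr Q a) := fun a ha => by
    rw [hv]
    exact hcongr a ha _ (lift_mem _) (pr_lift _).symm
  have hxe : x * e = e * x := by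
    have h1 := hc e he
    rw [hce e he, fr.form_alt, fr.ez_zero, one_mul, mul_inv_eq_iff_eq_mul] at h1
    exact h1
  have hd : x * e⁻¹ ∈ S := S.mul_mem hx (S.inv_mem (fr.memS he))
  have hcent : x * e⁻¹ ∈ zS S := by
    refine ⟨hd, fun g hg => ?_⟩
    have hQc : ∀ a ∈ Q, a * (x * e⁻¹) = x * e⁻¹ * a := fun a ha => by
      have hb : e⁻¹ * a * e ∈ Q := Q.mul_mem (Q.mul_mem (Q.inv_mem he) ha) he
      have h1 : x * (e⁻¹ * a * e) * x⁻¹ = a := by
        rw [hc _ hb, hce _ hb, ← fr.comm_eq he hb, commutatorElement_def]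
        group
      calc a * (x * e⁻¹) = x * (e⁻¹ * a * e) * x⁻¹ * (x * e⁻¹) := by rw [h1]
        _ = x * e⁻¹ * a := by group
    obtain ⟨q, hq, i, rfl⟩ := fr.decompose hx hxQ hg
    have hxx : Commute x (x * e⁻¹) := by
      show x * (x * e⁻¹) = x * e⁻¹ * x
      rw [mul_assoc x e⁻¹, show e⁻¹ * x = x * e⁻¹ by
        rw [inv_mul_eq_iff_eq_mul, ← mul_assoc, ← hxe, mul_inv_cancel_right]]
    exact (Commute.mul_left (hQc q hq : Commute q _) (hxx.pow_left i)).eq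
  rw [fr.hne] at hcent
  have := Q.mul_mem (zQ_le fr.st hcent) he
  rw [inv_mul_cancel_right] at this
  exact hxQ this

/-- When the action has rank at least two, `Q` is the only maximal subgroup of its kind. -/
theorem Q_unique {x : Ω} (hx : x ∈ S) (hxQ : x ∉ Q)
    (hrk : finrank (ZMod p) (LinearMap.ker (fr.symp hx).N) + 2 ≤ finrank (ZMod p) (Vt Q))
    {R : Subgroup Ω} (hR : R ≤ S) (hRc : Nat.card R = Nat.card Q)
    (hcomm : ∀ a ∈ R, ∀ b ∈ R, a * b * a⁻¹ * b⁻¹ ∈ zQ Q) : R = Q := by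
  haveI := fr.finite_Vt
  haveI := fr.finQ
  haveI : Finite R := finite_of_le hR
  by_contra hne
  obtain ⟨y, hy, hyQ⟩ : ∃ y ∈ R, y ∉ Q := by
    by_contra h
    push Not at h
    exact hne (Subgroup.eq_of_le_of_card_ge h hRc.ge)
  have hyS := hR hy
  have hkk : LinearMap.ker (fr.symp hyS).N ≤ LinearMap.ker (fr.symp hx).N := fun v hv =>
    LinearMap.mem_ker.2 (fr.N_eq_zero_all hyS hyQ (LinearMap.mem_ker.1 hv) hx)
  let K : Set Ω := {a | a ∈ R ∧ a ∈ Q}
  have hsub : ∀ a ∈ R ⊓ Q, (fr.symp hyS).N (pr Q a) = 0 := fun a ha =>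
    (fr.N_eq_zero_iff hyS ha.2).2 (hcomm y hy a ha.1)
  let f : ↥(R ⊓ Q) → LinearMap.ker (fr.symp hyS).N × zQ Q := fun a =>
    (⟨pr Q (a : Ω), hsub a a.2⟩,
      ⟨(lift (pr Q (a : Ω)))⁻¹ * a, (fr.pr_eq_zero (Q.mul_mem (Q.inv_mem (lift_mem _)) a.2.2)).1
        (by rw [pr_mul (Q.inv_mem (lift_mem _)) a.2.2, pr_inv (lift_mem _), pr_lift, neg_add_cancel])⟩)
  have hf : Function.Injective f := fun a b h => by
    have h1 : pr Q (a : Ω) = pr Q (b : Ω) := congrArg (fun t => (t.1 : Vt Q)) h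
    have h2 : (lift (pr Q (a : Ω)))⁻¹ * (a : Ω) = (lift (pr Q (b : Ω)))⁻¹ * b :=
      congrArg (fun t => (t.2 : Ω)) h
    rw [h1] at h2
    exact Subtype.ext (mul_left_cancel h2)
  haveI : Finite (zQ Q) := finite_of_le (zQ_le fr.st)
  have hle := Nat.card_le_card_of_injective f hf
  rw [Nat.card_prod, card_zQ fr.st, Module.natCard_eq_pow_finrank (K := ZMod p) (V := LinearMap.ker (fr.symp hyS).N),
    Nat.card_zmod] at hle
  have hidx : Nat.card R ≤ Nat.card ↥(R ⊓ Q) * p := by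
    have h1 := Subgroup.card_mul_index (Q.subgroupOf R)
    have h2 : (Q.subgroupOf R).index ≤ p := by
      rw [← fr.st.hQi]
      haveI := fr.subgroupOf_normal
      have h := Subgroup.relIndex_dvd_index_of_normal (Q.subgroupOf S) (R.subgroupOf S)
      rw [Subgroup.relIndex_subgroupOf hR] at h
      exact Nat.le_of_dvd (by rw [fr.st.hQi]; exact (Fact.out : p.Prime).pos) h
    have h3 : Nat.card (Q.subgroupOf R) = Nat.card ↥(R ⊓ Q) := Nat.card_congr
      ⟨fun a => ⟨a.1.1, a.1.2, a.2⟩, fun a => ⟨⟨a.1, a.2.1⟩, a.2.2⟩, fun a => rfl, fun a => rfl⟩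
    rw [← h1, h3]
    exact Nat.mul_le_mul_left _ h2
  have hk := Submodule.finrank_mono hkk
  rw [hRc, fr.card_Q] at hidx
  have h4 : p ^ (finrank (ZMod p) (Vt Q) + 1) ≤
      p ^ (finrank (ZMod p) (LinearMap.ker (fr.symp hyS).N) + 2) :=
    hidx.trans ((Nat.mul_le_mul_right p hle).trans (le_of_eq (by ring)))
  have := (Nat.pow_le_pow_iff_right (Fact.out : p.Prime).one_lt).1 h4
  omega

omit fr in
theorem geom_sum_eq : ∑ i ∈ Finset.range p, (Polynomial.X : Polynomial (ZMod p)) ^ i =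
    (Polynomial.X - 1) ^ (p - 1) := by
  have hne : (Polynomial.X - 1 : Polynomial (ZMod p)) ≠ 0 := by
    simpa using Polynomial.X_sub_C_ne_zero (R := ZMod p) 1
  refine mul_right_cancel₀ hne ?_
  rw [geom_sum_mul, ← pow_succ, Nat.sub_add_cancel (Fact.out : p.Prime).one_le, sub_pow_char, one_pow]

/-- The `p`th power in a coset, on the space. -/
theorem pr_mul_pow {q x : Ω} (hq : q ∈ Q) (hx : x ∈ S) :
    ∃ q' ∈ Q, (q * x) ^ p = q' * x ^ p ∧ pr Q q' = ((fr.symp hx).N ^ (p - 1)) (pr Q q) := by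
  have key : ∀ n : ℕ, ∃ q' ∈ Q, (q * x) ^ n = q' * x ^ n ∧
      pr Q q' = (∑ i ∈ Finset.range n, fr.cj x hx ^ i) (pr Q q) := by
    intro n
    induction n with
    | zero => exact ⟨1, Q.one_mem, by simp, by simp [pr_one]⟩
    | succ n ih =>
      obtain ⟨q', hq', he, hp'⟩ := ih
      refine ⟨q' * (x ^ n * q * (x ^ n)⁻¹), Q.mul_mem hq' (fr.conj_memQ (S.pow_mem hx n) hq), ?_, ?_⟩
      · rw [pow_succ, he, pow_succ x n]
        group
      · rw [pr_mul hq' (fr.conj_memQ (S.pow_mem hx n) hq), hp', Finset.sum_range_succ,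
          LinearMap.add_apply, ← fr.cj_pr (S.pow_mem hx n) hq, fr.cj_pow hx]
  obtain ⟨q', hq', he, hp'⟩ := key p
  refine ⟨q', hq', he, ?_⟩
  have h := congrArg (Polynomial.aeval (fr.cj x hx)) (geom_sum_eq (p := p))
  simp only [map_sum, map_pow, Polynomial.aeval_X, map_sub, map_one] at h
  rw [hp', h]
  rfl

/-- The `p`th power on `Q`. -/
noncomputable def pw : Vt Q →ₗ[ZMod p] ZMod p :=
  AddMonoidHom.toZModLinearMap p (AddMonoidHom.mk' (fun v => zlog p z (lift v ^ p)) fun v w => by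
    obtain ⟨t, ht⟩ := fr.pr_eq (Q.mul_mem (lift_mem v) (lift_mem w)) (lift_mem (v + w))
      (by rw [pr_mul (lift_mem v) (lift_mem w), pr_lift, pr_lift, pr_lift])
    haveI := fr.finQ
    have hc : ∀ a b : Q, ⁅a, b⁆ ∈ Subgroup.center Q := fun a b =>
      fr.st.hQ.1.2.2 ▸ Subgroup.commutator_mem_commutator (Subgroup.mem_top _) (Subgroup.mem_top _)
    have hpow : (⁅(⟨lift w, lift_mem w⟩ : Q), (⟨lift v, lift_mem v⟩ : Q)⁆ : Q) ^ p = 1 := by
      refine Subtype.ext ?_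
      rw [Subgroup.coe_pow]
      exact pow_p_zQ fr.st ⟨_, hc _ _, rfl⟩
    have h := congrArg Subtype.val
      (CfsgLib.Transfer.mul_pow_prime_class_two hc Fact.out fr.hp ⟨_, lift_mem v⟩ ⟨_, lift_mem w⟩ hpow)
    simp only [Subgroup.coe_pow, Subgroup.coe_mul] at h
    show zlog p z (lift (v + w) ^ p) = zlog p z (lift v ^ p) + zlog p z (lift w ^ p)
    rw [ht, (Commute.mul_pow (fr.ez_comm (fr.memS (Q.mul_mem (lift_mem v) (lift_mem w))) t) p),
      fr.ez_pow, ZMod.natCast_self, zero_mul, fr.ez_zero, mul_one, h]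
    obtain ⟨a, ha⟩ := fr.exists_ez (pow_mem fr.st (lift_mem v))
    obtain ⟨b, hb⟩ := fr.exists_ez (pow_mem fr.st (lift_mem w))
    rw [ha, hb, ← fr.ez_add, fr.zlog_ez, fr.zlog_ez, fr.zlog_ez])

theorem pw_spec {a : Ω} (ha : a ∈ Q) : a ^ p = ez p z (fr.pw (pr Q a)) := by
  show _ = ez p z (zlog p z (lift (pr Q a) ^ p))
  rw [fr.ez_zlog (pow_mem fr.st (lift_mem _))]
  obtain ⟨t, ht⟩ := fr.pr_eq (lift_mem (pr Q a)) ha (pr_lift _)
  conv_lhs => rw [ht, Commute.mul_pow (fr.ez_comm (fr.memS (lift_mem _)) t) p]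
  rw [fr.ez_pow, ZMod.natCast_self, zero_mul, fr.ez_zero, mul_one]

theorem pw_N {x : Ω} (hx : x ∈ S) (v : Vt Q) : fr.pw ((fr.symp hx).N v) = 0 := by
  obtain ⟨a, ha, rfl⟩ := exists_pr v
  have h : fr.pw (fr.cj x hx (pr Q a)) = fr.pw (pr Q a) := by
    refine fr.ez_inj ?_
    rw [fr.cj_pr hx ha, ← fr.pw_spec (fr.conj_memQ hx ha), ← fr.pw_spec ha, conj_pow,
      zQ_central fr.st hx (pow_mem fr.st ha), mul_inv_cancel_right]
  show fr.pw (fr.cj x hx (pr Q a) - pr Q a) = 0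
  rw [map_sub, h, sub_self]

end Frame

end CfsgLib.Fusion.ESReduce
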