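import Cfsg.Agent.Lib.Fusion.ESReduce.PearlTorus

/-!
The pearl case: the torus of `S` forces `|S| = p ^ (p - 1)`, exponent `p` and class `p - 2`.
-/

set_option autoImplicit false
set_option linter.style.haveILetI false
set_option linter.unusedVariables false
set_option linter.unusedSectionVars false

universe u

namespace CfsgLib.Fusion.ESReduce

open Cfsg Cfsg.FusionSystem Subgroup CfsgLib.Fusion CfsgLib.Fusion.ESIndex Module
open scoped commutatorElement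

variable {Ω : Type u} [Group Ω] {S Q : Subgroup Ω} {p : ℕ} {z : Ω}

namespace PearlData

variable [Fact p.Prime] [Finite S] [Module (ZMod p) (Vt Q)] {fr : Frame p S Q z}
  {F : FusionSystem S} {x : Ω} (h : PearlData fr F x)

include h

theorem pow_ker {i : ℕ} (hi : i < h.dim) : ∃ v, ((fr.symp h.hx).N ^ i) v ≠ 0 := by
  haveI := fr.finite_Vt
  by_contra hall
  push Not at hall
  have h1 := (fr.symp h.hx).finrank_ker_pow h.hker i hi.le
  rw [LinearMap.ker_eq_top.2 (LinearMap.ext hall), finrank_top] at h1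
  exact hi.ne' h1

/-- A power of the unipotent map moves a vector like a multiple of `N`. -/
theorem cj_pow_sub (n : ℕ) : ∀ (k : ℕ) (w : Vt Q), ((fr.symp h.hx).N ^ (k + 2)) w = 0 →
    ((fr.symp h.hx).N ^ k) ((fr.cj x h.hx ^ n) w - w) = n • ((fr.symp h.hx).N ^ (k + 1)) w := by
  induction n with
  | zero => intro k w _; simp
  | succ n ih =>
    intro k w hw
    set N := (fr.symp h.hx).N with hN
    have hC : ∀ u, fr.cj x h.hx u = u + N u := fun u => by
      show _ = u + (fr.cj x h.hx u - u)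
      abel
    have h2 : (fr.cj x h.hx ^ (n + 1)) w - w =
        ((fr.cj x h.hx ^ n) w - w) + N ((fr.cj x h.hx ^ n) w - w) + N w := by
      rw [pow_succ', Module.End.mul_apply, hC, map_sub]
      abel
    have hw3 : (N ^ (k + 1 + 2)) w = 0 := by
      rw [pow_succ', Module.End.mul_apply, hw, map_zero]
    rw [h2, map_add, map_add, ih k w hw, ← Module.End.mul_apply (N ^ k) N, ← pow_succ,
      ih (k + 1) w hw3, hw, smul_zero, add_zero, ← Module.End.mul_apply (N ^ k) N, ← pow_succ,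
      succ_nsmul]

/-- The image of a power of `z`. -/
theorem map_ez {s : ℕ} {φ : Ω → Ω} (hφ : IsMap F S φ) (hφz : φ z = z ^ s) (c : ZMod p) :
    φ (ez p z c) = ez p z ((s : ZMod p) * c) := by
  show φ (z ^ c.val) = _
  rw [hφ.map_pow (fr.memS fr.z_mem), hφz, ← fr.ez_natCast s, fr.ez_pow, ZMod.natCast_zmod_val,
    mul_comm]

theorem pr_map_congr {s : ℕ} {φ : Ω → Ω} (hφ : IsMap F S φ) (hφQ : ∀ a ∈ Q, φ a ∈ Q)
    (hφz : φ z = z ^ s) {a b : Ω} (ha : a ∈ Q) (hb : b ∈ Q) (hab : pr Q a = pr Q b) :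
    pr Q (φ a) = pr Q (φ b) := by
  obtain ⟨r, rfl⟩ := fr.pr_eq ha hb hab
  rw [hφ.map_mul (fr.memS ha) (fr.memS (fr.ez_memQ r)), h.map_ez hφ hφz,
    pr_mul (hφQ a ha) (fr.ez_memQ _), fr.pr_ez, add_zero]

/-- The eigenvalues of the torus. -/
theorem weights {s t : ℕ} (hts : (s : ZMod p) * (t : ZMod p) = 1) :
    (t : ZMod p) ^ (h.dim + 2) = 1 ∧ ∃ φ, IsMap F S φ ∧ (∀ a ∈ Q, φ a ∈ Q) ∧ φ z = z ^ s ∧
      φ x * (x ^ t)⁻¹ ∈ h.L (h.dim - 1) ∧
      ∀ a ∈ Q, ((fr.symp h.hx).N ^ (h.dim - 1)) (pr Q (φ a)) =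
        (t : ZMod p) • ((fr.symp h.hx).N ^ (h.dim - 1)) (pr Q a) := by
  haveI := fr.finite_Vt
  have hd4 := h.four_le
  obtain ⟨φ, hφ, hφQ, hφz, hφx⟩ := h.exists_top hts
  have hs0 : (s : ZMod p) ≠ 0 := fun e => one_ne_zero (α := ZMod p) (by rw [← hts, e, zero_mul])
  set N := (fr.symp h.hx).N with hN
  set C := fr.cj x h.hx with hC
  let T : Vt Q →ₗ[ZMod p] Vt Q := AddMonoidHom.toZModLinearMap p
    (AddMonoidHom.mk' (fun v => pr Q (φ (lift v))) fun v w => by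
      show pr Q (φ (lift (v + w))) = pr Q (φ (lift v)) + pr Q (φ (lift w))
      rw [h.pr_map_congr hφ hφQ hφz (lift_mem (v + w)) (Q.mul_mem (lift_mem v) (lift_mem w))
        (by rw [pr_mul (lift_mem v) (lift_mem w), pr_lift, pr_lift, pr_lift]),
        hφ.map_mul (fr.memS (lift_mem v)) (fr.memS (lift_mem w)),
        pr_mul (hφQ _ (lift_mem v)) (hφQ _ (lift_mem w))])
  have hT : ∀ a ∈ Q, T (pr Q a) = pr Q (φ a) := fun a ha =>
    h.pr_map_congr hφ hφQ hφz (lift_mem _) ha (pr_lift _)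
  have hφxS : φ x ∈ S := hφ.mem h.hx
  have hTC : ∀ v, T (C v) = (C ^ t) (T v) := by
    intro v
    obtain ⟨a, ha, rfl⟩ := exists_pr v
    rw [hC, fr.cj_pr h.hx ha, hT _ (fr.conj_memQ h.hx ha), hT a ha, hφ.map_conj h.hx (fr.memS ha),
      ← fr.cj_pr hφxS (hφQ a ha), fr.cj_congr (inv_mul_cancel_right (φ x) (x ^ t)).symm hφxS,
      fr.cj_eq hφx.1 h.hx t]
  have hTN : ∀ v, T (N v) = (C ^ t) (T v) - T v := fun v => by
    show T (C v - v) = _
    rw [map_sub, hTC]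
  -- the top vector and the generator of the kernel
  obtain ⟨v0, hv0⟩ := h.pow_ker (i := h.dim - 1) (by omega)
  set e0 := (N ^ (h.dim - 1)) v0 with he0d
  have hN0 : N ^ h.dim = 0 := (fr.symp h.hx).pow_finrank h.hker
  have hNe0 : N e0 = 0 := by
    rw [he0d, ← Module.End.mul_apply, ← pow_succ', Nat.sub_add_cancel (by omega), hN0]
    rfl
  have hspan : ∀ v, ∃ c : ZMod p, (N ^ (h.dim - 1)) v = c • e0 := fun v => by
    have h1 : (N ^ (h.dim - 1)) v ∈ LinearMap.ker N := by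
      rw [LinearMap.mem_ker, ← Module.End.mul_apply, ← pow_succ', Nat.sub_add_cancel (by omega), hN0]
      rfl
    obtain ⟨c, hc⟩ := (finrank_eq_one_iff_of_nonzero' (⟨e0, hNe0⟩ : LinearMap.ker N)
      (fun e => hv0 (congrArg Subtype.val e))).1 h.hker ⟨_, h1⟩
    exact ⟨c, (congrArg Subtype.val hc).symm⟩
  obtain ⟨σ, hσ⟩ := hspan (T v0)
  -- the image of every iterate of the top vector
  have hiter : ∀ j, j ≤ h.dim - 1 →
      (N ^ (h.dim - 1 - j)) (T ((N ^ j) v0)) = (σ * (t : ZMod p) ^ j) • e0 := by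
    intro j
    induction j with
    | zero => intro _; simpa using hσ
    | succ j ih =>
      intro hj
      have hk : h.dim - 1 - j = h.dim - 1 - (j + 1) + 1 := by omega
      have h1 := ih (by omega)
      rw [hk] at h1
      rw [pow_succ' N j, Module.End.mul_apply, hTN, hC, h.cj_pow_sub t _ _ (by
        rw [pow_succ', Module.End.mul_apply, h1, map_smul, hNe0, smul_zero]), h1,
        ← Nat.cast_smul_eq_nsmul (ZMod p), smul_smul]
      ring_nf
  have hTe : T e0 = (σ * (t : ZMod p) ^ (h.dim - 1)) • e0 := by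
    have h1 := hiter (h.dim - 1) le_rfl
    rwa [Nat.sub_self, pow_zero, Module.End.one_apply] at h1
  -- the form
  have hform : ∀ u v, fr.form (T u) (T v) = (s : ZMod p) * fr.form u v := by
    intro u v
    obtain ⟨a, ha, rfl⟩ := exists_pr u
    obtain ⟨b, hb, rfl⟩ := exists_pr v
    rw [hT a ha, hT b hb]
    refine fr.ez_inj ?_
    rw [← fr.comm_eq (hφQ a ha) (hφQ b hb), ← h.map_ez hφ hφz, ← fr.comm_eq ha hb,
      commutatorElement_def, commutatorElement_def,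
      hφ.map_mul (S.mul_mem (S.mul_mem (fr.memS ha) (fr.memS hb)) (S.inv_mem (fr.memS ha)))
        (S.inv_mem (fr.memS hb)),
      hφ.map_conj (fr.memS ha) (fr.memS hb), hφ.map_inv (fr.memS hb)]
  have hperp : ∀ w, (N ^ (h.dim - 1)) w = 0 → fr.form w e0 = 0 := fun w hw =>
    (fr.symp h.hx).ker_perp h.hker (i := h.dim - 1) (j := 1)
      (by simp only [dim] at hd4 ⊢; omega) hw (by rw [pow_one]; exact hNe0)
  have hsplit : ∀ (v : Vt Q) (c : ZMod p), (N ^ (h.dim - 1)) v = c • e0 →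
      fr.form v e0 = c * fr.form v0 e0 := fun v c hc => by
    have h1 := hperp (v - c • v0) (by rw [map_sub, map_smul, hc, sub_self])
    rw [map_sub, LinearMap.sub_apply, map_smul, LinearMap.smul_apply, sub_eq_zero, smul_eq_mul] at h1
    exact h1
  have hω : fr.form v0 e0 ≠ 0 := fun h0 => hv0 ((fr.symp h.hx).nondeg e0 fun v => by
    obtain ⟨c, hc⟩ := hspan v
    rw [(fr.symp h.hx).skew, neg_eq_zero]
    exact (hsplit v c hc).trans (by rw [h0, mul_zero]))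
  have hA : σ * (σ * (t : ZMod p) ^ (h.dim - 1)) = (s : ZMod p) := by
    have h1 := hform v0 e0
    rw [hTe, map_smul, smul_eq_mul, hsplit _ _ hσ] at h1
    exact mul_right_cancel₀ hω (by rw [← h1]; ring)
  -- the commutator of `x` with the kernel
  have hB : σ * (t : ZMod p) ^ (h.dim - 1) * t = s := by
    set e := lift e0 with he
    have heQ : e ∈ Q := lift_mem e0
    have hek : N (pr Q e) = 0 := by rw [he, pr_lift]; exact hNe0
    obtain ⟨c, hc⟩ := fr.exists_ez (fr.pr_comm_ker h.hx h.hxQ heQ hek h.hx)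
    have hxe : x * e * x⁻¹ = ez p z c * e := mul_inv_eq_iff_eq_mul.1 hc
    have hc0 : c ≠ 0 := by
      rintro rfl
      rw [fr.ez_zero, one_mul, mul_inv_eq_iff_eq_mul] at hxe
      refine hv0 ?_
      have h1 := (fr.pr_eq_zero heQ).2 (h.memz_of_comm heQ h.not_dvd_one (by rw [pow_one]; exact hxe.symm))
      rwa [he, pr_lift] at h1
    have hxt : ∀ r : ℕ, x ^ r * e * (x ^ r)⁻¹ = ez p z (r * c) * e := by
      intro r
      induction r with
      | zero => simp [fr.ez_zero]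
      | succ r ih =>
        rw [pow_succ', show x * x ^ r * e * (x * x ^ r)⁻¹ = x * (x ^ r * e * (x ^ r)⁻¹) * x⁻¹ by group,
          ih, ← mul_assoc x, fr.ez_comm h.hx, mul_assoc (ez p z _) x, mul_assoc (ez p z _), hxe,
          ← mul_assoc, ← fr.ez_add, Nat.cast_succ, add_one_mul]
    set n : ℕ := (σ * (t : ZMod p) ^ (h.dim - 1)).val with hn
    have hpr : pr Q (e ^ n) = pr Q (φ e) := by
      rw [← hT e heQ, pr_pow heQ, he, pr_lift, hTe, hn, ← Nat.cast_smul_eq_nsmul (ZMod p),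
        ZMod.natCast_zmod_val]
    obtain ⟨r, hr⟩ := fr.pr_eq (Q.pow_mem heQ n) (hφQ e heQ) hpr
    have hq : Commute (φ x * (x ^ t)⁻¹) (φ e) := by
      rw [hr]
      exact ((h.e_comm_lay heQ hek hφx).symm.pow_right n).mul_right (fr.ez_comm (fr.memS hφx.1) r)
    have hxe' : x ^ t * φ e * (x ^ t)⁻¹ = ez p z ((n : ZMod p) * (t * c)) * φ e := by
      have hc' : Commute (ez p z ((t : ZMod p) * c)) e := (fr.ez_comm (fr.memS heQ) _).symm
      rw [hr, show x ^ t * (e ^ n * ez p z r) * (x ^ t)⁻¹ =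
          (x ^ t * e * (x ^ t)⁻¹) ^ n * (x ^ t * ez p z r * (x ^ t)⁻¹) by rw [conj_pow]; group,
        hxt, hc'.mul_pow, fr.ez_pow, fr.ez_comm (S.pow_mem h.hx t), mul_inv_cancel_right, mul_assoc]
    have h1 : φ x * φ e * (φ x)⁻¹ = ez p z ((n : ZMod p) * (t * c)) * φ e := by
      have e1 : φ x * φ e * (φ x)⁻¹ =
          (φ x * (x ^ t)⁻¹) * (x ^ t * φ e * (x ^ t)⁻¹) * (φ x * (x ^ t)⁻¹)⁻¹ := by group
      rw [e1, hxe', ← mul_assoc (φ x * (x ^ t)⁻¹), fr.ez_comm (fr.memS hφx.1), mul_assoc (ez p z _),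
        hq.eq, ← mul_assoc (ez p z _), mul_inv_cancel_right]
    rw [← hφ.map_conj h.hx (fr.memS heQ), hxe, hφ.map_mul (fr.memS (fr.ez_memQ c)) (fr.memS heQ),
      h.map_ez hφ hφz, mul_left_inj] at h1
    have h2 := fr.ez_inj h1
    rw [hn, ZMod.natCast_zmod_val, ← mul_assoc] at h2
    exact (mul_right_cancel₀ hc0 h2).symm
  have hσ0 : σ ≠ 0 := fun e => hs0 (by rw [← hA, e, zero_mul])
  have ht0 : (t : ZMod p) ≠ 0 := fun e => one_ne_zero (α := ZMod p) (by rw [← hts, e, mul_zero])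
  have hσt : σ = t := by
    refine mul_right_cancel₀ (mul_ne_zero hσ0 (pow_ne_zero (h.dim - 1) ht0)) ?_
    rw [hA, ← hB]
    ring
  refine ⟨?_, φ, hφ, hφQ, hφz, hφx, fun a ha => ?_⟩
  · rw [← hts, ← hA, hσt, show h.dim + 2 = (h.dim - 1) + 3 by omega]
    ring
  · obtain ⟨c, hc⟩ := hspan (pr Q a)
    have h1 : pr Q a - c • v0 ∈ LinearMap.range N := by
      rw [hN, h.range_eq h.hx h.hxQ, LinearMap.mem_ker, map_sub, map_smul, ← hN, hc, sub_self]
    obtain ⟨u, hu⟩ := h1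
    have h2 : (N ^ (h.dim - 1)) (T (N u)) = 0 := by
      rw [hTN]
      have h3 : (fr.cj (x ^ t) (S.pow_mem h.hx t) (T u) - T u) = (C ^ t) (T u) - T u := by
        rw [fr.cj_pow h.hx]
      rw [← h3]
      refine fr.ker_cj_sub h.hx h.hxQ _ ?_
      rw [Nat.sub_add_cancel (by omega), ← hN, hN0]
      rfl
    have h4 : pr Q a = c • v0 + N u := by rw [hu, add_sub_cancel]
    rw [← hT a ha, h4, map_add T, map_smul T, map_add, map_smul, hσ, h2, add_zero, hσt, ← h4, hc,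
      smul_smul, smul_smul, mul_comm]

theorem dim_eq : 7 ≤ p ∧ h.dim = p - 3 := by
  have hd := h.four_le
  have hle := h.dim_le
  have hp : p.Prime := Fact.out
  have h1 : p - 1 ∣ h.dim + 2 := by
    suffices hu : ∀ u : (ZMod p)ˣ, u ^ (h.dim + 2) = 1 by
      have h3 := (FiniteField.forall_pow_eq_one_iff (ZMod p) _).1 hu
      simpa using h3
    refine fun u => Units.ext ?_
    have h2 := (h.weights (s := ((u⁻¹ : (ZMod p)ˣ) : ZMod p).val) (t := (u : ZMod p).val)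
      (by rw [ZMod.natCast_zmod_val, ZMod.natCast_zmod_val, Units.inv_mul])).1
    rw [ZMod.natCast_zmod_val] at h2
    rw [Units.val_pow_eq_pow_val, h2, Units.val_one]
  obtain ⟨k, hk⟩ := h1
  rcases k with _ | _ | k
  · omega
  · refine ⟨?_, by omega⟩
    omega
  · exfalso
    have : (p - 1) * 2 ≤ (p - 1) * (k + 1 + 1) := Nat.mul_le_mul_left _ (by omega)
    have h4 : p ≠ 4 := by
      rintro rfl
      norm_num at hp
    omega

theorem card_eq : Nat.card S = p ^ (p - 1) := by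
  obtain ⟨h7, hd⟩ := h.dim_eq
  rw [h.card_S, hd]
  congr 1
  omega

theorem exists_two_torus : ∃ s : ℕ, (s : ZMod p) * ((2 : ℕ) : ZMod p) = 1 ∧
    ((2 : ℕ) : ZMod p) ≠ (s : ZMod p) := by
  obtain ⟨h7, -⟩ := h.dim_eq
  have h2 : ((2 : ℕ) : ZMod p) ≠ 0 := fun e => by
    have := Nat.le_of_dvd (by norm_num) ((ZMod.natCast_eq_zero_iff _ _).1 e)
    omega
  refine ⟨(((2 : ℕ) : ZMod p)⁻¹).val, by rw [ZMod.natCast_zmod_val, inv_mul_cancel₀ h2], fun e => ?_⟩
  rw [ZMod.natCast_zmod_val] at e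
  have h3 : ((3 : ℕ) : ZMod p) = 0 := by
    have h4 : ((2 : ℕ) : ZMod p) * ((2 : ℕ) : ZMod p) = 1 := by
      nth_rewrite 2 [e]
      exact mul_inv_cancel₀ h2
    push_cast at h4 ⊢
    linear_combination h4
  have := Nat.le_of_dvd (by norm_num) ((ZMod.natCast_eq_zero_iff _ _).1 h3)
  omega

theorem pow_eq_one_Q {a : Ω} (ha : a ∈ Q) : a ^ p = 1 := by
  haveI := fr.finite_Vt
  obtain ⟨s, hts, hne⟩ := h.exists_two_torus
  obtain ⟨-, φ, hφ, hφQ, hφz, -, hφN⟩ := h.weights hts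
  have h1 : fr.pw (pr Q (φ a)) = (s : ZMod p) * fr.pw (pr Q a) := by
    refine fr.ez_inj ?_
    rw [← fr.pw_spec (hφQ a ha), ← h.map_ez hφ hφz, ← fr.pw_spec ha, hφ.map_pow (fr.memS ha)]
  have h2 : fr.pw (pr Q (φ a)) = ((2 : ℕ) : ZMod p) * fr.pw (pr Q a) := by
    have hm : pr Q (φ a) - ((2 : ℕ) : ZMod p) • pr Q a ∈ LinearMap.range (fr.symp h.hx).N := by
      rw [h.range_eq h.hx h.hxQ, LinearMap.mem_ker, map_sub, map_smul, hφN a ha, sub_self]
    obtain ⟨u, hu⟩ := hm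
    have := fr.pw_N h.hx u
    rw [hu, map_sub, sub_eq_zero, map_smul, smul_eq_mul] at this
    exact this
  have h3 : fr.pw (pr Q a) = 0 := by
    by_contra h0
    exact hne (mul_right_cancel₀ h0 (h2.symm.trans h1))
  rw [fr.pw_spec ha, h3, fr.ez_zero]

theorem pow_mod {q g : Ω} (hq : q ∈ Q) (hg : g ∈ S) (n : ℕ) : ∃ q' ∈ Q, (q * g) ^ n = q' * g ^ n ∧
    ((fr.symp h.hx).N ^ (h.dim - 1)) (pr Q q') =
      n • ((fr.symp h.hx).N ^ (h.dim - 1)) (pr Q q) := by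
  haveI := fr.finite_Vt
  induction n with
  | zero => exact ⟨1, Q.one_mem, by simp, by simp [pr_one]⟩
  | succ n ih =>
    obtain ⟨q', hq', he, hN⟩ := ih
    have hgn := S.pow_mem hg n
    refine ⟨q' * (g ^ n * q * (g ^ n)⁻¹), Q.mul_mem hq' (fr.conj_memQ hgn hq), ?_, ?_⟩
    · rw [pow_succ, he, pow_succ g n]
      group
    · rw [pr_mul hq' (fr.conj_memQ hgn hq), map_add, hN, succ_nsmul, ← fr.cj_pr hgn hq,
        ← sub_add_cancel (fr.cj (g ^ n) hgn (pr Q q)) (pr Q q), map_add,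
        fr.ker_cj_sub h.hx h.hxQ hgn ?_, zero_add]
      rw [Nat.sub_add_cancel (by have := h.four_le; omega),
        show h.dim = finrank (ZMod p) (Vt Q) from rfl, (fr.symp h.hx).pow_finrank h.hker]
      rfl

theorem pow_eq_one {y : Ω} (hy : y ∈ S) : y ^ p = 1 := by
  by_cases hyQ : y ∈ Q
  · exact h.pow_eq_one_Q hyQ
  haveI := fr.finite_Vt
  obtain ⟨h7, hd⟩ := h.dim_eq
  obtain ⟨s, hts, hne⟩ := h.exists_two_torus
  obtain ⟨-, φ, hφ, hφQ, hφz, hφx, hφN⟩ := h.weights hts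
  obtain ⟨q, hq, k, rfl⟩ := fr.decompose h.hx h.hxQ hy
  have hk : x ^ k ∉ Q := fun hk => hyQ (Q.mul_mem hq hk)
  have hxk := S.pow_mem h.hx k
  -- the power lies in the centre
  obtain ⟨q', hq', he, hpr⟩ := fr.pr_mul_pow hq hxk
  have hN0 : (fr.symp hxk).N ^ (p - 1) = 0 := by
    rw [← Nat.sub_add_cancel (show finrank (ZMod p) (Vt Q) ≤ p - 1 by simp only [dim] at hd; omega),
      pow_add, (fr.symp hxk).pow_finrank (h.hker_of hxk hk), mul_zero]
  rw [hN0, LinearMap.zero_apply] at hpr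
  rw [← pow_mul x k p, mul_comm k p, pow_mul, h.hxp, one_pow, mul_one] at he
  obtain ⟨c, hc⟩ := fr.exists_ez ((fr.pr_eq_zero hq').1 hpr)
  rw [hc] at he
  -- the torus
  obtain ⟨q4, hq4, he4, hN4⟩ := h.pow_mod hq hxk 2
  obtain ⟨q3, hq3, he3, hN3⟩ := h.pow_mod hφx.1 (S.pow_mem h.hx 2) k
  rw [inv_mul_cancel_right] at he3
  set y := q * x ^ k with hy'
  have hφy : φ y = φ q * q3 * (x ^ 2) ^ k := by
    rw [hy', hφ.map_mul (fr.memS hq) hxk, hφ.map_pow h.hx, he3, mul_assoc]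
  have hq1 : φ y * (y ^ 2)⁻¹ ∈ h.L (h.dim - 1) := by
    rw [hφy, he4, show (x ^ k) ^ 2 = (x ^ 2) ^ k by rw [← pow_mul, ← pow_mul, mul_comm],
      show φ q * q3 * (x ^ 2) ^ k * (q4 * (x ^ 2) ^ k)⁻¹ = φ q * q3 * q4⁻¹ by group]
    refine ⟨Q.mul_mem (Q.mul_mem (hφQ q hq) hq3) (Q.inv_mem hq4), ?_⟩
    rw [pr_mul (Q.mul_mem (hφQ q hq) hq3) (Q.inv_mem hq4), pr_mul (hφQ q hq) hq3, pr_inv hq4,
      map_add, map_add, map_neg, hN3, hN4, hφx.2, smul_zero, add_zero, hφN q hq,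
      Nat.cast_smul_eq_nsmul (ZMod p), add_neg_cancel]
  have hy2Q : y ^ 2 ∉ Q := fr.pow_notMem hy hyQ fun hd2 => by
    have := Nat.le_of_dvd (by norm_num) hd2
    omega
  obtain ⟨a, ha, r, hr⟩ := h.exists_conj (S.pow_mem hy 2) hy2Q hq1
  have hφy' : φ y = ez p z (-r) * (a * y ^ 2 * a⁻¹) := by
    rw [hr, fr.ez_comm (hφ.mem hy |> fun hm => S.mul_mem hm (S.inv_mem (S.pow_mem hy 2))) r,
      mul_assoc, ← mul_assoc (ez p z (-r)), ← fr.ez_add, neg_add_cancel, fr.ez_zero, one_mul,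
      inv_mul_cancel_right]
  have hm : a * y ^ 2 * a⁻¹ ∈ S :=
    S.mul_mem (S.mul_mem (fr.memS ha) (S.pow_mem hy 2)) (S.inv_mem (fr.memS ha))
  have hcm : Commute (ez p z (-r)) (a * y ^ 2 * a⁻¹) := (fr.ez_comm hm (-r)).symm
  have h1 : φ (y ^ p) = ez p z ((2 : ℕ) * c) := by
    rw [hφ.map_pow hy, hφy', hcm.mul_pow, fr.ez_pow, ZMod.natCast_self, zero_mul, fr.ez_zero,
      one_mul, conj_pow, ← pow_mul, mul_comm, pow_mul, he, fr.ez_pow, fr.ez_comm (fr.memS ha),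
      mul_inv_cancel_right]
  rw [he, h.map_ez hφ hφz] at h1
  have hc0 : c = 0 := by
    by_contra hc0
    exact hne (mul_right_cancel₀ hc0 (fr.ez_inj h1)).symm
  rw [he, hc0, fr.ez_zero]

theorem comm_mem_top {a b : Ω} (ha : a ∈ S) (hb : b ∈ S) :
    a * b * a⁻¹ * b⁻¹ ∈ h.L (h.dim - 1) := by
  obtain ⟨q, hq, i, rfl⟩ := fr.decompose h.hx h.hxQ ha
  obtain ⟨q', hq', k, rfl⟩ := fr.decompose h.hx h.hxQ hb
  have hd : h.dim - 1 + 1 = h.dim := by have := h.four_le; omega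
  have hqt : q ∈ h.L (h.dim - 1 + 1) := by rw [hd, h.L_top]; exact hq
  have hqt' : q' ∈ h.L (h.dim - 1 + 1) := by rw [hd, h.L_top]; exact hq'
  have h1 := fr.lay_comm h.hx h.hxQ (S.pow_mem h.hx i) hqt'
  have h2 := fr.lay_comm' h.hx h.hxQ hb hqt
  have hcm : x ^ i * x ^ k = x ^ k * x ^ i := by rw [← pow_add, ← pow_add, add_comm]
  have e : q * x ^ i * (q' * x ^ k) * (q * x ^ i)⁻¹ * (q' * x ^ k)⁻¹ =
      q * (x ^ i * q' * (x ^ i)⁻¹ * q'⁻¹) * q⁻¹ * (q * (q' * x ^ k) * q⁻¹ * (q' * x ^ k)⁻¹) := by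
    have e1 : x ^ i * (q' * x ^ k) * (x ^ i)⁻¹ = x ^ i * q' * (x ^ i)⁻¹ * x ^ k := by
      calc x ^ i * (q' * x ^ k) * (x ^ i)⁻¹ = x ^ i * q' * (x ^ k * (x ^ i)⁻¹) := by group
        _ = x ^ i * q' * ((x ^ i)⁻¹ * x ^ k) := by
          rw [show x ^ k * (x ^ i)⁻¹ = (x ^ i)⁻¹ * x ^ k by
            rw [eq_inv_mul_iff_mul_eq, ← mul_assoc, hcm, mul_inv_cancel_right]]
        _ = _ := by group
    calc q * x ^ i * (q' * x ^ k) * (q * x ^ i)⁻¹ * (q' * x ^ k)⁻¹ =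
        q * (x ^ i * (q' * x ^ k) * (x ^ i)⁻¹) * q⁻¹ * (q' * x ^ k)⁻¹ := by group
      _ = _ := by rw [e1]; group
  rw [e]
  exact mul_mem (fr.lay_conj h.hx h.hxQ (fr.memS hq) h1) h2

/-- The terms of the lower central series, in `Ω`. -/
theorem lcs_le : ∀ n, 1 ≤ n → n ≤ h.dim → ∀ a : S,
    a ∈ (⊤ : Subgroup S).lowerCentralSeries n → (a : Ω) ∈ h.L (h.dim - n) := by
  intro n hn
  induction n, hn using Nat.le_induction with
  | base =>
    intro _ a ha
    have hle : (⊤ : Subgroup S).lowerCentralSeries 1 ≤ (h.L (h.dim - 1)).subgroupOf S := by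
      rw [Subgroup.lowerCentralSeries_succ, Subgroup.lowerCentralSeries_zero, Subgroup.commutator_le]
      exact fun a _ b _ => h.comm_mem_top a.2 b.2
    exact hle ha
  | succ n hn ih =>
    intro hnd a ha
    have hle : (⊤ : Subgroup S).lowerCentralSeries (n + 1) ≤ (h.L (h.dim - (n + 1))).subgroupOf S := by
      rw [Subgroup.lowerCentralSeries_succ, Subgroup.commutator_le]
      intro a ha b _
      have h1 := ih (by omega) a ha
      rw [show h.dim - n = h.dim - (n + 1) + 1 by omega] at h1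
      exact fr.lay_comm' h.hx h.hxQ b.2 h1
    exact hle ha

theorem exists_lcs : ∃ a : S, a ∈ (⊤ : Subgroup S).lowerCentralSeries h.dim ∧ a ≠ 1 := by
  haveI := fr.finite_Vt
  have hd := h.four_le
  obtain ⟨v, hv⟩ := h.pow_ker (i := h.dim - 1) (by omega)
  have key : ∀ n, ∃ a : S, a ∈ (⊤ : Subgroup S).lowerCentralSeries n ∧ (a : Ω) ∈ Q ∧
      pr Q (a : Ω) = ((-1 : ZMod p) ^ n) • ((fr.symp h.hx).N ^ n) v := by
    intro n
    induction n with
    | zero => exact ⟨⟨lift v, fr.memS (lift_mem v)⟩, trivial, lift_mem v, by simp [pr_lift]⟩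
    | succ n ih =>
      obtain ⟨a, ha, haQ, hp⟩ := ih
      refine ⟨⁅a, (⟨x, h.hx⟩ : S)⁆, ?_, ?_, ?_⟩
      · rw [Subgroup.lowerCentralSeries_succ]
        exact Subgroup.commutator_mem_commutator ha (Subgroup.mem_top _)
      · show (a : Ω) * x * (a : Ω)⁻¹ * x⁻¹ ∈ Q
        exact fr.comm_memQ' a.2 h.hx
      · show pr Q ((a : Ω) * x * (a : Ω)⁻¹ * x⁻¹) = _
        rw [show (a : Ω) * x * (a : Ω)⁻¹ * x⁻¹ = (x * a * x⁻¹ * (a : Ω)⁻¹)⁻¹ by group,
          pr_inv (fr.comm_memQ h.hx haQ), ← fr.N_pr h.hx haQ, hp, map_smul, ← neg_smul,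
          pow_succ' (-1 : ZMod p), neg_one_mul, pow_succ' (fr.symp h.hx).N, Module.End.mul_apply]
  obtain ⟨a, ha, haQ, hp⟩ := key (h.dim - 1)
  refine ⟨⁅a, (⟨x, h.hx⟩ : S)⁆, ?_, fun e => ?_⟩
  · conv => congr; arg 2; rw [← Nat.sub_add_cancel (show 1 ≤ h.dim by omega)]
    rw [Subgroup.lowerCentralSeries_succ]
    exact Subgroup.commutator_mem_commutator ha (Subgroup.mem_top _)
  · have hc := congrArg Subtype.val (commutatorElement_eq_one_iff_mul_comm.1 e)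
    have h1 := (fr.pr_eq_zero haQ).2
      (h.memz_of_comm haQ h.not_dvd_one (by rw [pow_one]; exact hc))
    rw [hp, smul_eq_zero] at h1
    exact h1.elim (fun h0 => neg_ne_zero.2 one_ne_zero (pow_eq_zero_iff'.1 h0).1) hv

theorem class_eq : Group.nilpotencyClass S = p - 2 := by
  obtain ⟨h7, hd⟩ := h.dim_eq
  haveI := fr.st.hS.isNilpotent
  have h1 : (⊤ : Subgroup S).lowerCentralSeries (h.dim + 1) = ⊥ := by
    rw [Subgroup.lowerCentralSeries_succ, eq_bot_iff, Subgroup.commutator_le]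
    intro a ha b _
    have h2 := h.lcs_le h.dim (by omega) le_rfl a ha
    rw [Nat.sub_self, h.L_zero] at h2
    exact Subgroup.mem_bot.2 (commutatorElement_eq_one_iff_mul_comm.2
      (Subtype.ext (zQ_central fr.st b.2 h2).symm))
  refine le_antisymm ?_ ?_
  · rw [show p - 2 = h.dim + 1 by omega]
    exact Subgroup.lowerCentralSeries_eq_bot_iff_nilpotencyClass_le.1 h1
  · by_contra hlt
    obtain ⟨a, ha, ha1⟩ := h.exists_lcs
    rw [Subgroup.lowerCentralSeries_eq_bot_iff_nilpotencyClass_le.2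
      (show Group.nilpotencyClass S ≤ h.dim by omega), Subgroup.mem_bot] at ha
    exact ha1 ha

/-- The pearl case. -/
theorem pearl : 7 ≤ p ∧ Nat.card S = p ^ (p - 1) ∧ (∀ a ∈ S, a ^ p = 1) ∧
    (∃ k ∈ Q, (fr.symp h.hx).N (pr Q k) = 0 ∧ x * k ≠ k * x) ∧
    Group.nilpotencyClass S = p - 2 := by
  refine ⟨h.dim_eq.1, h.card_eq, fun a ha => h.pow_eq_one ha, ?_, h.class_eq⟩
  obtain ⟨e, he, hek, he0, -⟩ := h.exists_kerElt
  exact ⟨e, he, hek, fun hc => he0 ((fr.pr_eq_zero he).2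
    (h.memz_of_comm he h.not_dvd_one (by rw [pow_one]; exact hc.symm)))⟩

end PearlData

end CfsgLib.Fusion.ESReduce
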