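import Cfsg.Agent.Lib.Fusion.ESReduce.PearlDef

/-!
The pearl case: the layers `lay i` of `Q` (preimages of the kernels of the powers of `N`), the
centralizer of `x`, the conjugates of the powers of `x` and the normalizers of `⟨x⟩ lay i`.
-/

set_option autoImplicit false
set_option linter.style.haveILetI false
set_option linter.unusedVariables false
set_option linter.unusedSectionVars false

universe u

namespace CfsgLib.Fusion.ESReduce

open Cfsg Cfsg.FusionSystem Subgroup CfsgLib.Fusion.ESIndex Module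

variable {Ω : Type u} [Group Ω] {S Q : Subgroup Ω} {p : ℕ} {z : Ω}

namespace Frame

variable [Fact p.Prime] [Finite S] [Module (ZMod p) (Vt Q)] (fr : Frame p S Q z)

include fr

/-- The vectors of the elements of `R` lying in `Q`. -/
noncomputable def prSub (fr : Frame p S Q z) (R : Subgroup Ω) : Submodule (ZMod p) (Vt Q) :=
  AddSubgroup.toZModSubmodule p
    { carrier := {v | ∃ a ∈ R, a ∈ Q ∧ pr Q a = v}
      zero_mem' := ⟨1, R.one_mem, Q.one_mem, pr_one⟩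
      add_mem' := by
        rintro _ _ ⟨a, ha, haQ, rfl⟩ ⟨b, hb, hbQ, rfl⟩
        exact ⟨a * b, R.mul_mem ha hb, Q.mul_mem haQ hbQ, pr_mul haQ hbQ⟩
      neg_mem' := by
        rintro _ ⟨a, ha, haQ, rfl⟩
        exact ⟨a⁻¹, R.inv_mem ha, Q.inv_mem haQ, pr_inv haQ⟩ }

theorem mem_prSub {R : Subgroup Ω} {v : Vt Q} :
    v ∈ fr.prSub R ↔ ∃ a ∈ R, a ∈ Q ∧ pr Q a = v := Iff.rfl

theorem zQ_le_Q : zQ Q ≤ Q := zQ_le fr.st

theorem mem_of_pr {R : Subgroup Ω} (hzR : zQ Q ≤ R) {a : Ω} (ha : a ∈ Q)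
    (h : pr Q a ∈ fr.prSub R) : a ∈ R := by
  obtain ⟨b, hb, hbQ, hbe⟩ := fr.mem_prSub.1 h
  obtain ⟨t, rfl⟩ := fr.pr_eq hbQ ha hbe
  exact R.mul_mem hb (hzR (fr.ez_mem t))

theorem card_inf_Q {R : Subgroup Ω} (hzR : zQ Q ≤ R) :
    Nat.card (R ⊓ Q : Subgroup Ω) = p ^ (finrank (ZMod p) (fr.prSub R) + 1) := by
  haveI := fr.finite_Vt
  let f : (R ⊓ Q : Subgroup Ω) → (fr.prSub R) × zQ Q := fun a =>
    (⟨pr Q (a : Ω), fr.mem_prSub.2 ⟨a, a.2.1, a.2.2, rfl⟩⟩,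
      ⟨(lift (pr Q (a : Ω)))⁻¹ * a, (fr.pr_eq_zero (Q.mul_mem (Q.inv_mem (lift_mem _)) a.2.2)).1
        (by rw [pr_mul (Q.inv_mem (lift_mem _)) a.2.2, pr_inv (lift_mem _), pr_lift, neg_add_cancel])⟩)
  have hinj : Function.Injective f := fun a b h => by
    have h1 : pr Q (a : Ω) = pr Q (b : Ω) := congrArg (fun t => (t.1 : Vt Q)) h
    have h2 : (lift (pr Q (a : Ω)))⁻¹ * (a : Ω) = (lift (pr Q (b : Ω)))⁻¹ * b :=
      congrArg (fun t => (t.2 : Ω)) h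
    rw [h1] at h2
    exact Subtype.ext (mul_left_cancel h2)
  have hsur : Function.Surjective f := by
    rintro ⟨⟨v, hv⟩, ⟨w, hw⟩⟩
    have hm : lift v * w ∈ R ⊓ Q :=
      ⟨R.mul_mem (fr.mem_of_pr hzR (lift_mem v) (by rw [pr_lift]; exact hv)) (hzR hw),
        Q.mul_mem (lift_mem v) (fr.zQ_le_Q hw)⟩
    have hp' : pr Q (lift v * w) = v := by
      rw [pr_mul (lift_mem v) (fr.zQ_le_Q hw), pr_lift, (fr.pr_eq_zero (fr.zQ_le_Q hw)).2 hw, add_zero]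
    refine ⟨⟨lift v * w, hm⟩, ?_⟩
    simp only [f, hp', inv_mul_cancel_left]
  rw [Nat.card_congr (Equiv.ofBijective f ⟨hinj, hsur⟩), Nat.card_prod, card_zQ fr.st,
    Module.natCard_eq_pow_finrank (K := ZMod p) (V := fr.prSub R), Nat.card_zmod, pow_succ]

/-- A subgroup reaching outside `Q` has `p` times the order of its part in `Q`. -/
theorem card_mul_p {R : Subgroup Ω} (hR : R ≤ S) {y : Ω} (hy : y ∈ R) (hyQ : y ∉ Q) :
    Nat.card R = Nat.card (R ⊓ Q : Subgroup Ω) * p := by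
  haveI := fr.subgroupOf_normal
  have h1 := Subgroup.card_mul_index (Q.subgroupOf R)
  have h2 : (Q.subgroupOf R).index ∣ p := by
    have h := Subgroup.relIndex_dvd_index_of_normal (Q.subgroupOf S) (R.subgroupOf S)
    rw [Subgroup.relIndex_subgroupOf hR, fr.st.hQi] at h
    exact h
  have h3 : (Q.subgroupOf R).index ≠ 1 := fun h => hyQ
    (Subgroup.mem_subgroupOf.1 (Subgroup.index_eq_one.1 h ▸ Subgroup.mem_top (⟨y, hy⟩ : R)))
  rw [((Nat.dvd_prime (Fact.out : p.Prime)).1 h2).resolve_left h3,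
    show Nat.card (Q.subgroupOf R) = Nat.card (R ⊓ Q : Subgroup Ω) from Nat.card_congr
      ⟨fun a => ⟨a.1.1, a.1.2, a.2⟩, fun a => ⟨⟨a.1, a.2.1⟩, a.2.2⟩, fun a => rfl, fun a => rfl⟩] at h1
  exact h1.symm

theorem comm_memQ' {g h : Ω} (hg : g ∈ S) (hh : h ∈ S) : g * h * g⁻¹ * h⁻¹ ∈ Q := by
  haveI := fr.subgroupOf_normal
  haveI hc : IsCyclic (S ⧸ Q.subgroupOf S) :=
    isCyclic_of_prime_card (p := p) (by rw [← Subgroup.index_eq_card, fr.st.hQi])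
  have h1 : ((⟨g, hg⟩ * ⟨h, hh⟩ * ⟨g, hg⟩⁻¹ * ⟨h, hh⟩⁻¹ : S) : S ⧸ Q.subgroupOf S) = 1 := by
    letI : CommGroup (S ⧸ Q.subgroupOf S) := hc.commGroup
    simp only [QuotientGroup.mk_mul, QuotientGroup.mk_inv]
    rw [mul_comm (QuotientGroup.mk (⟨g, hg⟩ : S)), mul_inv_cancel_right, mul_inv_cancel]
  exact (QuotientGroup.eq_one_iff (N := Q.subgroupOf S) _).1 h1

variable {x : Ω} (hx : x ∈ S) (hxQ : x ∉ Q)

include hx hxQ

/-- Conjugation by an element of `S` on the space is a power of that by `x`. -/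
theorem cj_eq_pow {g : Ω} (hg : g ∈ S) : ∃ j : ℕ, fr.cj g hg = fr.cj x hx ^ j := by
  obtain ⟨q, hq, j, rfl⟩ := fr.decompose hx hxQ hg
  exact ⟨j, fr.cj_eq hq hx j hg⟩

theorem cj_commute {g : Ω} (hg : g ∈ S) : Commute (fr.cj g hg) (fr.symp hx).N := by
  obtain ⟨j, hj⟩ := fr.cj_eq_pow hx hxQ hg
  rw [hj]
  exact ((Commute.refl _).sub_right (Commute.one_right _)).pow_left j

theorem ker_cj {g : Ω} (hg : g ∈ S) {i : ℕ} {v : Vt Q} (hv : ((fr.symp hx).N ^ i) v = 0) :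
    ((fr.symp hx).N ^ i) (fr.cj g hg v) = 0 := by
  rw [← Module.End.mul_apply, ← ((fr.cj_commute hx hxQ hg).pow_right i).eq, Module.End.mul_apply, hv,
    map_zero]

theorem ker_cj_sub {g : Ω} (hg : g ∈ S) {i : ℕ} {v : Vt Q}
    (hv : ((fr.symp hx).N ^ (i + 1)) v = 0) : ((fr.symp hx).N ^ i) (fr.cj g hg v - v) = 0 := by
  obtain ⟨j, hj⟩ := fr.cj_eq_pow hx hxQ hg
  have h1 : fr.cj g hg v - v = ((∑ l ∈ Finset.range j, fr.cj x hx ^ l) * (fr.symp hx).N) v := by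
    show _ = ((∑ l ∈ Finset.range j, fr.cj x hx ^ l) * (fr.cj x hx - 1)) v
    rw [geom_sum_mul, hj]
    rfl
  rw [h1, ← Module.End.mul_apply, ← mul_assoc]
  have hc : Commute ((fr.symp hx).N ^ i) (∑ l ∈ Finset.range j, fr.cj x hx ^ l) :=
    Commute.sum_right _ _ _ fun l _ =>
      ((fr.cj_commute hx hxQ hx).pow_left l).symm.pow_left i
  rw [hc.eq, mul_assoc, ← pow_succ, Module.End.mul_apply, hv, map_zero]

/-- The preimage in `Q` of the kernel of `N ^ i`. -/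
def lay (fr : Frame p S Q z) {x : Ω} (hx : x ∈ S) (hxQ : x ∉ Q) (i : ℕ) : Subgroup Ω where
  carrier := {a | a ∈ Q ∧ ((fr.symp hx).N ^ i) (pr Q a) = 0}
  one_mem' := ⟨Q.one_mem, by rw [pr_one, map_zero]⟩
  mul_mem' := by
    rintro a b ⟨ha, ha'⟩ ⟨hb, hb'⟩
    exact ⟨Q.mul_mem ha hb, by rw [pr_mul ha hb, map_add, ha', hb', add_zero]⟩
  inv_mem' := by
    rintro a ⟨ha, ha'⟩
    exact ⟨Q.inv_mem ha, by rw [pr_inv ha, map_neg, ha', neg_zero]⟩

theorem mem_lay {i : ℕ} {a : Ω} :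
    a ∈ fr.lay hx hxQ i ↔ a ∈ Q ∧ ((fr.symp hx).N ^ i) (pr Q a) = 0 := Iff.rfl

theorem lay_le (i : ℕ) : fr.lay hx hxQ i ≤ Q := fun _ ha => ha.1

theorem lay_mono {i j : ℕ} (hij : i ≤ j) : fr.lay hx hxQ i ≤ fr.lay hx hxQ j := by
  intro a ha
  refine ⟨ha.1, ?_⟩
  rw [← Nat.sub_add_cancel hij, pow_add, Module.End.mul_apply, ha.2, map_zero]

theorem lay_zero : fr.lay hx hxQ 0 = zQ Q := by
  ext a
  rw [fr.mem_lay hx hxQ, pow_zero, Module.End.one_apply]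
  exact ⟨fun h => (fr.pr_eq_zero h.1).1 h.2, fun h => ⟨fr.zQ_le_Q h, (fr.pr_eq_zero (fr.zQ_le_Q h)).2 h⟩⟩

theorem zQ_le_lay (i : ℕ) : zQ Q ≤ fr.lay hx hxQ i :=
  (fr.lay_zero hx hxQ).ge.trans (fr.lay_mono hx hxQ (Nat.zero_le i))

theorem prSub_lay (i : ℕ) : fr.prSub (fr.lay hx hxQ i) = LinearMap.ker ((fr.symp hx).N ^ i) := by
  ext v
  rw [fr.mem_prSub, LinearMap.mem_ker]
  refine ⟨?_, fun hv => ⟨lift v, ⟨lift_mem v, by rw [pr_lift]; exact hv⟩, lift_mem v, pr_lift v⟩⟩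
  rintro ⟨a, ha, -, rfl⟩
  exact ha.2

theorem lay_conj {g a : Ω} (hg : g ∈ S) {i : ℕ} (ha : a ∈ fr.lay hx hxQ i) :
    g * a * g⁻¹ ∈ fr.lay hx hxQ i :=
  ⟨fr.conj_memQ hg ha.1, by rw [← fr.cj_pr hg ha.1]; exact fr.ker_cj hx hxQ hg ha.2⟩

theorem lay_normal {g : Ω} (hg : g ∈ S) (i : ℕ) :
    g ∈ Subgroup.normalizer (fr.lay hx hxQ i : Set Ω) := fun a =>
  ⟨fun ha => fr.lay_conj hx hxQ hg ha, fun ha => by
    have := fr.lay_conj hx hxQ (S.inv_mem hg) ha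
    simpa [mul_assoc] using this⟩

theorem lay_comm {g a : Ω} (hg : g ∈ S) {i : ℕ} (ha : a ∈ fr.lay hx hxQ (i + 1)) :
    g * a * g⁻¹ * a⁻¹ ∈ fr.lay hx hxQ i := by
  refine ⟨fr.comm_memQ hg ha.1, ?_⟩
  rw [pr_mul (fr.conj_memQ hg ha.1) (Q.inv_mem ha.1), pr_inv ha.1, ← fr.cj_pr hg ha.1, ← sub_eq_add_neg]
  exact fr.ker_cj_sub hx hxQ hg ha.2

theorem lay_comm' {g a : Ω} (hg : g ∈ S) {i : ℕ} (ha : a ∈ fr.lay hx hxQ (i + 1)) :
    a * g * a⁻¹ * g⁻¹ ∈ fr.lay hx hxQ i := by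
  rw [show a * g * a⁻¹ * g⁻¹ = (g * a * g⁻¹ * a⁻¹)⁻¹ by group]
  exact _root_.InvMemClass.inv_mem (fr.lay_comm hx hxQ hg ha)

end Frame

namespace PearlData

variable [Fact p.Prime] [Finite S] [Module (ZMod p) (Vt Q)] {fr : Frame p S Q z}
  {F : FusionSystem S} {x : Ω} (h : PearlData fr F x)

include h

/-- The dimension of the space. -/
noncomputable def dim (h : PearlData fr F x) : ℕ := finrank (ZMod p) (Vt Q)

/-- The layers. -/
noncomputable def L (h : PearlData fr F x) (i : ℕ) : Subgroup Ω := fr.lay h.hx h.hxQ i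

/-- The subgroups `⟨x⟩ (lay i)`. -/
noncomputable def Ei (h : PearlData fr F x) (i : ℕ) : Subgroup Ω := Subgroup.zpowers x ⊔ h.L i

theorem four_le : 4 ≤ h.dim := fr.four_le

theorem dim_le : h.dim ≤ p := by
  haveI := fr.finite_Vt
  by_contra hlt
  push Not at hlt
  have h1 := (fr.symp h.hx).finrank_ker_pow h.hker p hlt.le
  rw [show (fr.symp h.hx).N ^ p = 0 from fr.cj_sub_pow h.hx, LinearMap.ker_zero, finrank_top] at h1
  exact hlt.ne' h1

theorem L_top : h.L h.dim = Q := by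
  haveI := fr.finite_Vt
  refine le_antisymm (fr.lay_le h.hx h.hxQ _) fun a ha => ⟨ha, ?_⟩
  rw [show h.dim = finrank (ZMod p) (Vt Q) from rfl, (fr.symp h.hx).pow_finrank h.hker]
  rfl

theorem L_zero : h.L 0 = zQ Q := fr.lay_zero h.hx h.hxQ

theorem card_L {i : ℕ} (hi : i ≤ h.dim) : Nat.card (h.L i) = p ^ (i + 1) := by
  haveI := fr.finite_Vt
  have h1 := fr.card_inf_Q (fr.zQ_le_lay h.hx h.hxQ i)
  rw [inf_eq_left.2 (fr.lay_le h.hx h.hxQ i), fr.prSub_lay h.hx h.hxQ,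
    (fr.symp h.hx).finrank_ker_pow h.hker i hi] at h1
  exact h1

theorem card_S : Nat.card S = p ^ (h.dim + 2) := by
  rw [fr.card_S, fr.card_Q, ← pow_succ]
  rfl

theorem Ei_le (i : ℕ) : h.Ei i ≤ S :=
  sup_le (Subgroup.zpowers_le.2 h.hx) ((fr.lay_le h.hx h.hxQ i).trans fr.st.hQS)

theorem x_mem (i : ℕ) : x ∈ h.Ei i := mem_sup_left (mem_zpowers x)

theorem L_le_Ei (i : ℕ) : h.L i ≤ h.Ei i := le_sup_right

theorem mem_Ei {i : ℕ} {a : Ω} : a ∈ h.Ei i ↔ ∃ l ∈ h.L i, ∃ k : ℤ, a = l * x ^ k := by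
  refine ⟨fun ha => ?_, ?_⟩
  · let H : Subgroup Ω :=
      { carrier := {a | ∃ l ∈ h.L i, ∃ k : ℤ, a = l * x ^ k}
        one_mem' := ⟨1, one_mem _, 0, by simp⟩
        mul_mem' := by
          rintro _ _ ⟨l, hl, k, rfl⟩ ⟨l', hl', k', rfl⟩
          refine ⟨l * (x ^ k * l' * (x ^ k)⁻¹),
            mul_mem hl (fr.lay_conj h.hx h.hxQ (S.zpow_mem h.hx k) hl'), k + k', ?_⟩
          rw [zpow_add]
          group
        inv_mem' := by
          rintro _ ⟨l, hl, k, rfl⟩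
          refine ⟨(x ^ k)⁻¹ * l⁻¹ * (x ^ k)⁻¹⁻¹,
            fr.lay_conj h.hx h.hxQ (S.inv_mem (S.zpow_mem h.hx k)) (_root_.InvMemClass.inv_mem hl), -k, ?_⟩
          rw [inv_inv, zpow_neg, mul_inv_cancel_right, mul_inv_rev] }
    have hle : h.Ei i ≤ H := sup_le (Subgroup.zpowers_le.2 ⟨1, one_mem _, 1, by simp⟩)
      fun l hl => ⟨l, hl, 0, by simp⟩
    exact hle ha
  · rintro ⟨l, hl, k, rfl⟩
    exact mul_mem (h.L_le_Ei i hl) (zpow_mem (h.x_mem i) k)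

theorem zpow_x_memQ {k : ℤ} (hk : x ^ k ∈ Q) : x ^ k = 1 := by
  have hd : (p : ℤ) ∣ k := by
    by_contra hn
    have hco : IsCoprime (p : ℤ) k :=
      (Nat.prime_iff_prime_int.1 (Fact.out : p.Prime)).coprime_iff_not_dvd.2 hn
    obtain ⟨a, b, hab⟩ := hco
    refine h.hxQ ?_
    rw [← zpow_one x, ← hab, zpow_add, mul_comm a, mul_comm b, zpow_mul, zpow_mul, zpow_natCast,
      h.hxp, one_zpow, one_mul]
    exact Q.zpow_mem hk b
  obtain ⟨e, rfl⟩ := hd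
  rw [zpow_mul, zpow_natCast, h.hxp, one_zpow]

theorem Ei_inf_Q (i : ℕ) : h.Ei i ⊓ Q = h.L i := by
  refine le_antisymm (fun a ha => ?_) (le_inf (h.L_le_Ei i) (fr.lay_le h.hx h.hxQ i))
  obtain ⟨l, hl, k, rfl⟩ := h.mem_Ei.1 ha.1
  have hk : x ^ k ∈ Q := by
    have := Q.mul_mem (Q.inv_mem (fr.lay_le h.hx h.hxQ i hl)) ha.2
    rwa [inv_mul_cancel_left] at this
  rw [h.zpow_x_memQ hk, mul_one]
  exact hl

theorem card_Ei {i : ℕ} (hi : i ≤ h.dim) : Nat.card (h.Ei i) = p ^ (i + 2) := by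
  rw [fr.card_mul_p (h.Ei_le i) (h.x_mem i) h.hxQ, h.Ei_inf_Q, h.card_L hi, ← pow_succ]

theorem Ei_top : h.Ei h.dim = S :=
  Subgroup.eq_of_le_of_card_ge (h.Ei_le _) (by rw [h.card_S, h.card_Ei le_rfl])

theorem E_eq : Subgroup.zpowers x ⊔ zQ Q = h.Ei 0 := by
  rw [Ei, h.L_zero]

theorem centric : F.IsCentric (h.Ei 0) := h.E_eq ▸ h.hess.1

/-- An element of `S` commuting with a power of `x` outside `Q` lies in `⟨x⟩ Z(Q)`. -/
theorem mem_of_comm {c : Ω} (hc : c ∈ S) {k : ℕ} (hk : ¬ p ∣ k) (hcx : c * x ^ k = x ^ k * c) :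
    c ∈ h.Ei 0 := by
  have hcx' : Commute c x := by
    have hco : IsCoprime (p : ℤ) (k : ℤ) :=
      Int.isCoprime_iff_nat_coprime.2 ((Fact.out : p.Prime).coprime_iff_not_dvd.2 hk)
    obtain ⟨a, b, hab⟩ := hco
    rw [← zpow_one x, ← hab, zpow_add, mul_comm a, mul_comm b, zpow_mul, zpow_mul, zpow_natCast,
      h.hxp, one_zpow, one_mul, zpow_natCast]
    exact (show Commute c (x ^ k) from hcx).zpow_right b
  refine h.centric.2 _ (isConj_refl (h.Ei_le 0)) ⟨hc, Subgroup.mem_centralizer_iff.2 fun e he => ?_⟩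
  obtain ⟨l, hl, j, rfl⟩ := h.mem_Ei.1 he
  have h1 : Commute c l := zQ_central fr.st hc (h.L_zero ▸ hl)
  exact ((h1.mul_right (hcx'.zpow_right j)).eq).symm

/-- The only elements of `Q` commuting with a power of `x` outside `Q` are central. -/
theorem memz_of_comm {c : Ω} (hc : c ∈ Q) {k : ℕ} (hk : ¬ p ∣ k) (hcx : c * x ^ k = x ^ k * c) :
    c ∈ zQ Q := by
  have h1 : c ∈ h.Ei 0 ⊓ Q := ⟨h.mem_of_comm (fr.memS hc) hk hcx, hc⟩
  rwa [h.Ei_inf_Q, h.L_zero] at h1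

theorem not_dvd_one : ¬ p ∣ 1 := fun hd => (Fact.out : p.Prime).not_dvd_one hd

/-- An element spanning the kernel of `N`, with its commutator with `x`. -/
theorem exists_kerElt : ∃ e ∈ Q, (fr.symp h.hx).N (pr Q e) = 0 ∧ pr Q e ≠ 0 ∧
    ∃ d : ZMod p, d ≠ 0 ∧ e * x * e⁻¹ = ez p z d * x := by
  haveI := fr.finite_Vt
  obtain ⟨v, hv, hv0⟩ := (Submodule.ne_bot_iff (LinearMap.ker (fr.symp h.hx).N)).1 (fun hb => by
    have := h.hker; rw [hb, finrank_bot] at this; omega)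
  refine ⟨lift v, lift_mem v, by rw [pr_lift]; exact hv, by rw [pr_lift]; exact hv0, ?_⟩
  have h1 := fr.pr_comm_ker h.hx h.hxQ (lift_mem v) (by rw [pr_lift]; exact hv) h.hx
  obtain ⟨c, hc⟩ := fr.exists_ez h1
  have hc0 : c ≠ 0 := by
    rintro rfl
    rw [fr.ez_zero, mul_inv_eq_one, mul_inv_eq_iff_eq_mul] at hc
    have := h.memz_of_comm (lift_mem v) h.not_dvd_one (by rw [pow_one]; exact hc.symm)
    exact hv0 (by rw [← pr_lift v]; exact (fr.pr_eq_zero (lift_mem v)).2 this)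
  refine ⟨-c, neg_ne_zero.2 hc0, ?_⟩
  rw [fr.ez_neg, ← hc]
  group

theorem ker_eq {y : Ω} (hy : y ∈ S) (hyQ : y ∉ Q) :
    LinearMap.ker (fr.symp hy).N = LinearMap.ker (fr.symp h.hx).N :=
  le_antisymm (fun v hv => fr.N_eq_zero_all hy hyQ hv h.hx)
    fun v hv => fr.N_eq_zero_all h.hx h.hxQ hv hy

theorem hker_of {y : Ω} (hy : y ∈ S) (hyQ : y ∉ Q) :
    finrank (ZMod p) (LinearMap.ker (fr.symp hy).N) = 1 := by rw [h.ker_eq hy hyQ]; exact h.hker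

theorem range_eq {y : Ω} (hy : y ∈ S) (hyQ : y ∉ Q) :
    LinearMap.range (fr.symp hy).N = LinearMap.ker ((fr.symp h.hx).N ^ (h.dim - 1)) := by
  haveI := fr.finite_Vt
  have hd := h.four_le
  refine Submodule.eq_of_le_of_finrank_le ?_ ?_
  · rintro _ ⟨v, rfl⟩
    refine LinearMap.mem_ker.2 (fr.ker_cj_sub h.hx h.hxQ hy ?_)
    rw [Nat.sub_add_cancel (by omega), show h.dim = finrank (ZMod p) (Vt Q) from rfl,
      (fr.symp h.hx).pow_finrank h.hker]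
    rfl
  · have h1 := LinearMap.finrank_range_add_finrank_ker (fr.symp hy).N
    rw [h.hker_of hy hyQ] at h1
    rw [(fr.symp h.hx).finrank_ker_pow h.hker (h.dim - 1) (Nat.sub_le _ _)]
    simp only [dim] at hd ⊢
    omega

/-- Modulo `Z(Q)`, every coset `(lay (m-1)) y` is one conjugacy class. -/
theorem exists_conj {y q : Ω} (hy : y ∈ S) (hyQ : y ∉ Q) (hq : q ∈ h.L (h.dim - 1)) :
    ∃ a ∈ Q, ∃ s : ZMod p, a * y * a⁻¹ = q * ez p z s * y := by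
  have h1 : -pr Q q ∈ LinearMap.range (fr.symp hy).N := by
    rw [h.range_eq hy hyQ, neg_mem_iff]
    exact hq.2
  obtain ⟨v, hv⟩ := h1
  obtain ⟨a, ha, rfl⟩ := exists_pr v
  rw [fr.N_pr hy ha] at hv
  have hm : a * y * a⁻¹ * y⁻¹ ∈ Q := fr.comm_memQ' (fr.memS ha) hy
  have hp' : pr Q (a * y * a⁻¹ * y⁻¹) = pr Q q := by
    rw [show a * y * a⁻¹ * y⁻¹ = (y * a * y⁻¹ * a⁻¹)⁻¹ by group, pr_inv (fr.comm_memQ hy ha), hv, neg_neg]
  obtain ⟨s, hs⟩ := fr.pr_eq hq.1 hm hp'.symm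
  exact ⟨a, ha, s, by rw [← hs]; group⟩

theorem e_conj {e : Ω} {d : ZMod p} (he : e ∈ Q) (hd : e * x * e⁻¹ = ez p z d * x) (r k : ℕ) :
    e ^ r * x ^ k * (e ^ r)⁻¹ = ez p z (r * k * d) * x ^ k := by
  have h1 : e ^ r * x * (e ^ r)⁻¹ = ez p z (r * d) * x := by
    induction r with
    | zero => simp [fr.ez_zero]
    | succ r ih =>
      rw [pow_succ', mul_inv_rev, show e * e ^ r * x * ((e ^ r)⁻¹ * e⁻¹) = e * (e ^ r * x * (e ^ r)⁻¹) * e⁻¹ by group,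
        ih, ← mul_assoc e, fr.ez_comm (fr.memS he), mul_assoc _ e, mul_assoc _ (e * x), hd, ← mul_assoc,
        ← fr.ez_add, Nat.cast_succ, add_one_mul]
  have h2 : Commute (ez p z (r * d)) x := (fr.ez_comm h.hx _).symm
  rw [← conj_pow, h1, h2.mul_pow, fr.ez_pow]
  ring_nf

theorem e_comm_lay {e q : Ω} (he : e ∈ Q) (hek : (fr.symp h.hx).N (pr Q e) = 0)
    (hq : q ∈ h.L (h.dim - 1)) : Commute e q := by
  haveI := fr.finite_Vt
  refine (fr.comm_iff he hq.1).2 ((fr.symp h.hx).ker_perp h.hker (i := 1) (j := h.dim - 1)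
    (by have := h.four_le; simp only [dim] at this ⊢; omega) ?_ hq.2)
  rwa [pow_one]

/-- Elements of `(lay (m-1)) x ^ k` are conjugate to `x ^ k`. -/
theorem exists_conj_x {q : Ω} {k : ℕ} (hk : ¬ p ∣ k) (hq : q ∈ h.L (h.dim - 1)) :
    ∃ g ∈ S, g * x ^ k * g⁻¹ = q * x ^ k := by
  have hkS := S.pow_mem h.hx k
  obtain ⟨a, ha, s, hs⟩ := h.exists_conj hkS (fr.pow_notMem h.hx h.hxQ hk) hq
  obtain ⟨e, he, hek, he0, d, hd0, hd⟩ := h.exists_kerElt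
  have hk0 : (k : ZMod p) ≠ 0 := fun h0 => hk ((ZMod.natCast_eq_zero_iff k p).1 h0)
  set r : ℕ := (-s / ((k : ZMod p) * d)).val with hr
  refine ⟨e ^ r * a, S.mul_mem (fr.memS (Q.pow_mem he r)) (fr.memS ha), ?_⟩
  have hcomm : Commute (e ^ r) (q * ez p z s) :=
    ((h.e_comm_lay he hek hq).pow_left r).mul_right (fr.ez_comm (fr.memS (Q.pow_mem he r)) s)
  calc e ^ r * a * x ^ k * (e ^ r * a)⁻¹ = e ^ r * (a * x ^ k * a⁻¹) * (e ^ r)⁻¹ := by group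
    _ = e ^ r * (q * ez p z s) * x ^ k * (e ^ r)⁻¹ := by rw [hs]; group
    _ = q * ez p z s * (e ^ r * x ^ k * (e ^ r)⁻¹) := by rw [hcomm.eq]; group
    _ = q * x ^ k := by
      rw [h.e_conj he hd, mul_assoc q, ← mul_assoc (ez p z s), ← fr.ez_add]
      have h0 : s + (r : ZMod p) * k * d = 0 := by
        rw [hr, ZMod.natCast_zmod_val, mul_assoc, div_mul_cancel₀ _ (mul_ne_zero hk0 hd0), add_neg_cancel]
      rw [h0, fr.ez_zero, one_mul]

theorem card_cent_le {q : Ω} {k : ℕ} (hk : ¬ p ∣ k) (hq : q ∈ h.L (h.dim - 1)) {C : Subgroup Ω}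
    (hC : C ≤ S) (hc : ∀ c ∈ C, c * (q * x ^ k) = q * x ^ k * c) : Nat.card C ≤ p ^ 2 := by
  obtain ⟨g, hg, hge⟩ := h.exists_conj_x hk hq
  haveI := finite_of_le (h.Ei_le 0)
  rw [← h.card_Ei (Nat.zero_le h.dim)]
  refine Nat.card_le_card_of_injective (fun c => (⟨g⁻¹ * c * g, h.mem_of_comm
    (S.mul_mem (S.mul_mem (S.inv_mem hg) (hC c.2)) hg) hk ?_⟩ : h.Ei 0)) ?_
  · calc g⁻¹ * c * g * x ^ k = g⁻¹ * (c * (g * x ^ k * g⁻¹)) * g := by group
      _ = g⁻¹ * (g * x ^ k * g⁻¹ * c) * g := by rw [hge, hc c c.2]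
      _ = x ^ k * (g⁻¹ * c * g) := by group
  · intro a b hab
    exact Subtype.ext (mul_left_cancel (mul_right_cancel (congrArg Subtype.val hab)))

theorem normalizer_Ei_le {i : ℕ} (hi : i < h.dim) :
    normalizerIn S (h.Ei i) = h.Ei (i + 1) := by
  refine le_antisymm (fun n hn => ?_) (fun n hn => ⟨h.Ei_le _ hn, ?_⟩)
  · obtain ⟨q, hq, k, rfl⟩ := fr.decompose h.hx h.hxQ hn.1
    have hqn : q ∈ Subgroup.normalizer (h.Ei i : Set Ω) := by
      rw [← mul_inv_cancel_right q (x ^ k)]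
      exact mul_mem hn.2 (_root_.InvMemClass.inv_mem (Subgroup.le_normalizer (pow_mem (h.x_mem i) k)))
    have h1 : q * x * q⁻¹ * x⁻¹ ∈ h.L i := by
      rw [← h.Ei_inf_Q]
      exact ⟨(h.Ei i).mul_mem ((hqn x).1 (h.x_mem i)) ((h.Ei i).inv_mem (h.x_mem i)), fr.comm_memQ' (fr.memS hq) h.hx⟩
    refine h.mem_Ei.2 ⟨q, ⟨hq, ?_⟩, k, by rw [zpow_natCast]⟩
    have h2 := (_root_.InvMemClass.inv_mem h1).2
    rw [show (q * x * q⁻¹ * x⁻¹)⁻¹ = x * q * x⁻¹ * q⁻¹ by group, ← fr.N_pr h.hx hq] at h2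
    rw [pow_succ, Module.End.mul_apply]
    exact h2
  · obtain ⟨l, hl, k, rfl⟩ := h.mem_Ei.1 hn
    refine mul_mem ?_ (Subgroup.le_normalizer (zpow_mem (h.x_mem i) k))
    have key : ∀ {w : Ω}, w ∈ h.L (i + 1) → ∀ a ∈ h.Ei i, w * a * w⁻¹ ∈ h.Ei i := by
      intro w hw a ha
      have := fr.lay_comm' h.hx h.hxQ (h.Ei_le i ha) hw
      simpa [mul_assoc] using mul_mem (h.L_le_Ei i this) ha
    exact fun a => ⟨key hl a, fun ha => by simpa [mul_assoc] using key (_root_.InvMemClass.inv_mem hl) _ ha⟩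

/-- The subgroups conjugate to `⟨x⟩ Z(Q)` reach outside `Q`. -/
theorem exists_notMem {E' : Subgroup Ω} (hconj : F.IsConj (h.Ei 0) E') :
    zQ Q ≤ E' ∧ ∃ y ∈ E', y ∉ Q := by
  haveI := fr.finite_Vt
  have hE'S : E' ≤ S := isConj_le_right hconj
  have hc := h.centric.2 E' hconj
  have hz : zQ Q ≤ E' := fun w hw => hc ⟨fr.memS (fr.zQ_le_Q hw),
    Subgroup.mem_centralizer_iff.2 fun e he => zQ_central fr.st (hE'S he) hw⟩
  refine ⟨hz, ?_⟩
  by_contra hall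
  push Not at hall
  have hcard : Nat.card (E' ⊓ Q : Subgroup Ω) = p ^ 2 := by
    rw [inf_eq_left.2 hall, isConj_card hconj, h.card_Ei (Nat.zero_le _)]
  rw [fr.card_inf_Q hz] at hcard
  have hf : finrank (ZMod p) (fr.prSub E') = 1 := by
    have := Nat.pow_right_injective (Fact.out : p.Prime).two_le hcard
    omega
  obtain ⟨u, hu, hu'⟩ := finrank_eq_one_iff'.1 hf
  have hK : LinearMap.ker (fr.form (u : Vt Q)) ≤ fr.prSub E' := by
    intro v hv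
    have hm : lift v ∈ E' := hc ⟨fr.memS (lift_mem v), Subgroup.mem_centralizer_iff.2 fun e he => by
      obtain ⟨c, hc'⟩ := hu' ⟨pr Q e, fr.mem_prSub.2 ⟨e, he, hall e he, rfl⟩⟩
      have hce : c • (u : Vt Q) = pr Q e := congrArg Subtype.val hc'
      refine (fr.comm_iff (hall e he) (lift_mem v)).2 ?_
      rw [← hce, map_smul, LinearMap.smul_apply, pr_lift, LinearMap.mem_ker.1 hv, smul_zero]⟩
    exact fr.mem_prSub.2 ⟨lift v, hm, lift_mem v, pr_lift v⟩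
  have h1 := Submodule.finrank_mono hK
  have h2 := LinearMap.finrank_range_add_finrank_ker (fr.form (u : Vt Q))
  have h3 := (Submodule.finrank_le (LinearMap.range (fr.form (u : Vt Q)))).trans
    (Module.finrank_self (ZMod p)).le
  have := h.four_le
  simp only [dim] at this
  omega

/-- A subgroup of `S` with the order of `Ei i` that contains a conjugate of `⟨x⟩ Z(Q)` meets `Q`
in the layer `i`. -/
theorem inf_eq_L {i : ℕ} (hi : i ≤ h.dim) {R : Subgroup Ω} (hR : R ≤ S) (hzR : zQ Q ≤ R) {y : Ω}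
    (hy : y ∈ R) (hyQ : y ∉ Q) (hcard : Nat.card R = p ^ (i + 2)) : R ⊓ Q = h.L i := by
  haveI := fr.finite_Vt
  have hcj : ∀ v ∈ fr.prSub R, fr.cj y (hR hy) v ∈ fr.prSub R := by
    intro v hv
    obtain ⟨a, ha, haQ, rfl⟩ := fr.mem_prSub.1 hv
    rw [fr.cj_pr (hR hy) haQ]
    exact fr.mem_prSub.2 ⟨_, mul_mem (mul_mem hy ha) (_root_.InvMemClass.inv_mem hy), fr.conj_memQ (hR hy) haQ, rfl⟩
  obtain ⟨j, hj⟩ := fr.cj_eq_pow (hR hy) hyQ h.hx
  have hpow : ∀ n : ℕ, ∀ v ∈ fr.prSub R, (fr.cj y (hR hy) ^ n) v ∈ fr.prSub R := by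
    intro n
    induction n with
    | zero => intro v hv; simpa using hv
    | succ n ih => intro v hv; rw [pow_succ', Module.End.mul_apply]; exact hcj _ (ih v hv)
  have hinv : ∀ v ∈ fr.prSub R, (fr.symp h.hx).N v ∈ fr.prSub R := fun v hv => by
    show fr.cj x h.hx v - v ∈ _
    rw [hj]
    exact sub_mem (hpow j v hv) hv
  have hc : Nat.card (R ⊓ Q : Subgroup Ω) = p ^ (i + 1) := by
    have h1 := fr.card_mul_p hR hy hyQ
    rw [hcard, pow_succ] at h1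
    exact (Nat.eq_of_mul_eq_mul_right (Fact.out : p.Prime).pos h1).symm
  have hfr : finrank (ZMod p) (fr.prSub R) = i := by
    rw [fr.card_inf_Q hzR] at hc
    have := Nat.pow_right_injective (Fact.out : p.Prime).two_le hc
    omega
  have heq := (fr.symp h.hx).invariant_eq h.hker hinv hfr
  ext a
  refine ⟨fun ha => ⟨ha.2, ?_⟩, fun ha => ⟨fr.mem_of_pr hzR ha.1 ?_, ha.1⟩⟩
  · exact LinearMap.mem_ker.1 (heq.le (fr.mem_prSub.2 ⟨a, ha.1, ha.2, rfl⟩))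
  · exact heq.ge (LinearMap.mem_ker.2 ha.2)

theorem fullyNormalized_Ei {i : ℕ} (hi : i < h.dim) : F.IsFullyNormalized (h.Ei i) := by
  haveI := fr.finite_Vt
  refine ⟨h.Ei_le i, fun R hconj => ?_⟩
  have hR : R ≤ S := isConj_le_right hconj
  obtain ⟨f, hf, hfi⟩ := isConj_iff.1 hconj
  have h0 : h.Ei 0 ≤ h.Ei i := sup_le_sup_left (fr.lay_mono h.hx h.hxQ (Nat.zero_le i)) _
  obtain ⟨hz, y, hy, hyQ⟩ := h.exists_notMem (hf.mono h0).isConj
  have hsub : img (h.Ei 0) f ≤ R := hfi ▸ img_mono h0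
  have hcard : Nat.card R = p ^ (i + 2) := by rw [isConj_card hconj, h.card_Ei hi.le]
  have hinf := h.inf_eq_L hi.le hR (hz.trans hsub) (hsub hy) hyQ hcard
  have hyS := hR (hsub hy)
  rw [h.normalizer_Ei_le hi, h.card_Ei (by omega)]
  have hN : normalizerIn S R ≤ S := inf_le_left
  rw [fr.card_mul_p hN ⟨hyS, Subgroup.le_normalizer (hsub hy)⟩ hyQ,
    show i + 1 + 2 = (i + 1 + 1) + 1 by ring, pow_succ]
  refine Nat.mul_le_mul_right p ?_
  rw [← h.card_L (by omega : i + 1 ≤ h.dim)]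
  haveI : Finite (h.L (i + 1)) := finite_of_le ((fr.lay_le h.hx h.hxQ _).trans fr.st.hQS)
  refine Subgroup.card_le_of_le fun q hq => ⟨hq.2, ?_⟩
  have h1 : y * q * y⁻¹ * q⁻¹ ∈ h.L i := by
    rw [← hinf]
    refine ⟨?_, fr.comm_memQ hyS hq.2⟩
    rw [show y * q * y⁻¹ * q⁻¹ = y * (q * y⁻¹ * q⁻¹) by group]
    exact mul_mem (hsub hy) ((hq.1.2 y⁻¹).1 (_root_.InvMemClass.inv_mem (hsub hy)))
  have h2 := h1.2
  rw [← fr.N_pr hyS hq.2] at h2
  have h2' : fr.cj y hyS (pr Q q) - pr Q q ∈ LinearMap.ker ((fr.symp h.hx).N ^ i) := h2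
  obtain ⟨j, hj⟩ := fr.cj_eq_pow hyS hyQ h.hx
  have hpow : ∀ n : ℕ, (fr.cj y hyS ^ n) (pr Q q) - pr Q q ∈
      LinearMap.ker ((fr.symp h.hx).N ^ i) := by
    intro n
    induction n with
    | zero => simp
    | succ n ih =>
      have h3 : fr.cj y hyS ((fr.cj y hyS ^ n) (pr Q q) - pr Q q) ∈
          LinearMap.ker ((fr.symp h.hx).N ^ i) :=
        LinearMap.mem_ker.2 (fr.ker_cj h.hx h.hxQ hyS (LinearMap.mem_ker.1 ih))
      rw [map_sub, ← Module.End.mul_apply, ← pow_succ'] at h3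
      simpa using add_mem h3 h2'
  have h4 := LinearMap.mem_ker.1 (hpow j)
  rw [← hj] at h4
  rw [pow_succ, Module.End.mul_apply]
  exact h4

end PearlData

end CfsgLib.Fusion.ESReduce
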