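import Cfsg.Agent.Lib.Fusion.ESReduce.PearlLayers
import Cfsg.Agent.Lib.Invol.PearlExponent
import Cfsg.Agent.Lib.Invol.PlanePairs

/-!
The pearl case: a torus element of `Aut(⟨x⟩ Z(Q))` with eigenvectors `x` and `z`, and its extension
to `S` through the chain `⟨x⟩ lay i`.
-/

set_option autoImplicit false
set_option linter.style.haveILetI false
set_option linter.unusedVariables false
set_option linter.unusedSectionVars false

universe u

namespace CfsgLib.Fusion.ESReduce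

open Cfsg Cfsg.FusionSystem Subgroup CfsgLib.Fusion CfsgLib.Fusion.ESIndex Module

variable {Ω : Type u} [Group Ω] {S Q : Subgroup Ω} {p : ℕ} {z : Ω}

namespace PearlData

variable [Fact p.Prime] [Finite S] [Module (ZMod p) (Vt Q)] {fr : Frame p S Q z}
  {F : FusionSystem S} {x : Ω} (h : PearlData fr F x)

include h

theorem z_mem_Ei (i : ℕ) : z ∈ h.Ei i := h.L_le_Ei i (fr.zQ_le_lay h.hx h.hxQ i fr.hz)

/-- The torus on `⟨x⟩ Z(Q)`. -/
theorem exists_torus {s t : ℕ} (hts : (s : ZMod p) * (t : ZMod p) = 1) :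
    ∃ φ ∈ F.autGroup (h.Ei 0), φ ⟨x, h.x_mem 0⟩ = (⟨x, h.x_mem 0⟩ : h.Ei 0) ^ t ∧
      φ ⟨z, h.z_mem_Ei 0⟩ = (⟨z, h.z_mem_Ei 0⟩ : h.Ei 0) ^ s := by
  have hS := fr.st.hS
  haveI := finite_of_le (h.Ei_le 0)
  have hcard : Nat.card (h.Ei 0) = p ^ 2 := h.card_Ei (Nat.zero_le _)
  have hess : F.IsEssential p (h.Ei 0) := h.E_eq ▸ h.hess
  have hel := CfsgLib.Invol.EssentialSmall.card_sq hS h.hF hess hcard
  letI : CommGroup (h.Ei 0) :=
    { (inferInstance : Group (h.Ei 0)) with mul_comm := hel.1.is_comm.comm }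
  have hexp : ∀ a : h.Ei 0, a ^ p = 1 := fun a => Subtype.ext (by simpa using hel.2 (a : Ω) a.2)
  obtain ⟨e, he, hek, -, d, hd0, hd⟩ := h.exists_kerElt
  have heN : ∀ r : ℕ, e ^ r ∈ Subgroup.normalizer (h.Ei 0 : Set Ω) := by
    intro r
    refine pow_mem ?_ r
    have h1 : e ∈ h.L 1 := ⟨he, by rw [pow_one]; exact hek⟩
    exact ((h.normalizer_Ei_le (by have := h.four_le; omega)).ge (h.L_le_Ei 1 h1)).2
  set l : h.Ei 0 := ⟨z, h.z_mem_Ei 0⟩ with hl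
  have hl1 : l ≠ 1 := fun e' => fr.hz1 (congrArg Subtype.val e')
  let c : ℕ → MulAut (h.Ei 0) := fun r => (h.Ei 0).normalizerMonoidHom ⟨e ^ r, heN r⟩
  have hc : ∀ r, c r ∈ F.autGroup (h.Ei 0) := fun r => autInducedBy_le_autGroup (h.Ei_le 0)
    (mem_autInducedBy_iff.2 ⟨e ^ r, fr.memS (Q.pow_mem he r), fun a => rfl⟩)
  have hcl : ∀ r, c r l = l := fun r => Subtype.ext (by
    show e ^ r * z * (e ^ r)⁻¹ = z
    rw [fr.z_comm (fr.memS (Q.pow_mem he r)), mul_inv_cancel_right])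
  have hfp : ∃ k : ℕ, c 1 ^ p ^ k = 1 := by
    obtain ⟨k, hk⟩ := isPGroup_autInducedBy hS (h.Ei 0) ⟨c 1, mem_autInducedBy_iff.2
      ⟨e ^ 1, fr.memS (Q.pow_mem he 1), fun a => rfl⟩⟩
    exact ⟨k, congrArg Subtype.val hk⟩
  have hf1 : c 1 ≠ 1 := fun e' => hd0 (by
    have h1 := congrArg (fun α : MulAut (h.Ei 0) => ((α ⟨x, h.x_mem 0⟩ : h.Ei 0) : Ω)) e'
    simp only [c, Subgroup.normalizerMonoidHom_apply_apply_coe, MulAut.one_apply, pow_one] at h1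
    rw [hd] at h1
    refine fr.ez_inj ?_
    rw [fr.ez_zero]
    exact mul_eq_right.1 h1)
  have hlc : Nat.card (zpowers l) = p := by
    rw [Nat.card_zpowers]; exact orderOf_eq_prime (hexp l) hl1
  obtain ⟨g, hg, w, hw, hgw⟩ :=
    CfsgLib.Invol.PearlExponent.exists_move hS h.hF hess hcard (zpowers l) hlc
  have hmove : g l ∉ zpowers l := fun hmem => by
    obtain ⟨i, rfl⟩ := Subgroup.mem_zpowers_iff.1 hw
    exact hgw (by rw [_root_.map_zpow]; exact zpow_mem hmem i)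
  obtain ⟨τ, hτ, hτl, hτw⟩ := CfsgLib.Invol.PlanePairs.torus_of_move hexp hcard
    (G := F.autGroup (h.Ei 0)) (hc 1) hg hfp hf1 hl1 (hcl 1) hmove
    (t := (s : ℤ)) (s := (t : ℤ)) (by
      rw [← ZMod.intCast_zmod_eq_zero_iff_dvd]; push_cast; rw [hts, sub_self])
  rw [zpow_natCast] at hτl hτw
  -- the second eigenvector
  obtain ⟨w₀, hw₀, k, hk⟩ := h.mem_Ei.1 (g l).2
  obtain ⟨a, ha⟩ := fr.exists_ez (h.L_zero ▸ hw₀)
  set k' : ℕ := ((k : ZMod p)).val with hk'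
  have hxk : x ^ k = x ^ k' := by
    rw [← zpow_natCast x k', zpow_eq_zpow_iff_modEq]
    refine Int.ModEq.of_dvd (Int.natCast_dvd_natCast.2 (orderOf_dvd_of_pow_eq_one h.hxp)) ?_
    rw [← ZMod.intCast_eq_intCast_iff, hk', Int.cast_natCast, ZMod.natCast_zmod_val]
  have hk0 : ¬ p ∣ k' := by
    rintro ⟨j, hj⟩
    refine hmove ?_
    obtain ⟨n, hn⟩ := exists_pow fr.st fr.hz fr.hz1 (fr.ez_mem a)
    refine Subgroup.mem_zpowers_iff.2 ⟨(n : ℤ), Subtype.ext ?_⟩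
    rw [zpow_natCast, SubgroupClass.coe_pow]
    show z ^ n = _
    rw [hk, hxk, hj, pow_mul, h.hxp, one_pow, mul_one, ha, hn]
  have hkd : ((k' : ZMod p) * d) ≠ 0 :=
    mul_ne_zero (fun h0 => hk0 ((ZMod.natCast_eq_zero_iff _ _).1 h0)) hd0
  set r : ℕ := (a / ((k' : ZMod p) * d)).val with hr
  set X : h.Ei 0 := ⟨x, h.x_mem 0⟩ with hX
  have hσ : c r (X ^ k') = g l := Subtype.ext (by
    show e ^ r * ((X ^ k' : h.Ei 0) : Ω) * (e ^ r)⁻¹ = _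
    rw [SubgroupClass.coe_pow, hX, h.e_conj he hd, hk, hxk, ha, hr, ZMod.natCast_zmod_val,
      mul_assoc, div_mul_cancel₀ _ hkd])
  refine ⟨(c r)⁻¹ * τ * c r, mul_mem (mul_mem (inv_mem' _ (hc r)) hτ) (hc r), ?_, ?_⟩
  · have h1 : ((c r)⁻¹ * τ * c r) (X ^ k') = (X ^ k') ^ t := by
      rw [MulAut.mul_apply, MulAut.mul_apply, hσ, hτw, ← hσ, _root_.map_pow (c r)⁻¹,
        MulAut.inv_apply_self]
    have hx1 : (X ^ k') ^ ((k' : ZMod p)⁻¹).val = X := by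
      rw [← pow_mul]
      conv_rhs => rw [← pow_one X]
      rw [pow_eq_pow_iff_modEq]
      refine Nat.ModEq.of_dvd (orderOf_dvd_of_pow_eq_one (hexp X)) ?_
      rw [← ZMod.natCast_eq_natCast_iff, Nat.cast_mul, ZMod.natCast_zmod_val ((k' : ZMod p)⁻¹), Nat.cast_one,
        mul_inv_cancel₀ fun h0 => hk0 ((ZMod.natCast_eq_zero_iff _ _).1 h0)]
    rw [← hx1, _root_.map_pow, h1, ← pow_mul, mul_comm t, pow_mul]
  · rw [MulAut.mul_apply, MulAut.mul_apply, hcl, hτl, _root_.map_pow]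
    congr 1
    conv_lhs => rw [← hcl r]
    exact MulAut.inv_apply_self _ _ _

/-- A map on `⟨x⟩ (lay i)` with the eigenvalues `t` on `x` and `s` on `z`. -/
def Good (h : PearlData fr F x) (s t i : ℕ) : Prop :=
  ∃ φ, IsMap F (h.Ei i) φ ∧ (∀ a ∈ h.Ei i, φ a ∈ h.Ei i) ∧ (∀ a ∈ h.L i, φ a ∈ h.L i) ∧
    φ z = z ^ s ∧ φ x * (x ^ t)⁻¹ ∈ h.L i

theorem good_zero {s t : ℕ} (hts : (s : ZMod p) * (t : ZMod p) = 1) : h.Good s t 0 := by
  obtain ⟨φ, hφ, hφx, hφz⟩ := h.exists_torus hts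
  have hz' : toFun ((h.Ei 0).subtype.comp φ.toMonoidHom) z = z ^ s := by
    rw [toFun_aut_apply _ (h.z_mem_Ei 0), hφz]; rfl
  refine ⟨_, isMap_of_autGroup (h.Ei_le 0) hφ, fun a ha => ?_, fun a ha => ?_, hz', ?_⟩
  · rw [toFun_aut_apply _ ha]; exact (φ _).2
  · rw [h.L_zero] at ha ⊢
    obtain ⟨n, rfl⟩ := exists_pow fr.st fr.hz fr.hz1 ha
    rw [(isMap_of_autGroup (h.Ei_le 0) hφ).map_pow (h.z_mem_Ei 0), hz']
    exact (zQ Q).pow_mem ((zQ Q).pow_mem fr.hz s) n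
  · rw [toFun_aut_apply _ (h.x_mem 0), hφx, SubgroupClass.coe_pow, mul_inv_cancel]
    exact one_mem _

/-- A layer of index at least two is invariant under maps of `⟨x⟩ (lay j)`. -/
theorem invariant_layer {j : ℕ} (hj : 2 ≤ j) (hjm : j + 1 ≤ h.dim) {ψ : Ω → Ω}
    (hψ : IsMap F (h.Ei j) ψ) (hψE : ∀ a ∈ h.Ei j, ψ a ∈ h.Ei j) {a : Ω} (ha : a ∈ h.L j) :
    ψ a ∈ h.L j := by
  haveI := fr.finite_Vt
  by_contra hna
  obtain ⟨l, hl, k, hk⟩ := h.mem_Ei.1 (hψE a (h.L_le_Ei j ha))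
  set k' : ℕ := ((k : ZMod p)).val with hk'
  have hxk : x ^ k = x ^ k' := by
    rw [← zpow_natCast x k', zpow_eq_zpow_iff_modEq]
    refine Int.ModEq.of_dvd (Int.natCast_dvd_natCast.2 (orderOf_dvd_of_pow_eq_one h.hxp)) ?_
    rw [← ZMod.intCast_eq_intCast_iff, hk', Int.cast_natCast, ZMod.natCast_zmod_val]
  have hk0 : ¬ p ∣ k' := by
    rintro ⟨i, hi⟩
    exact hna (by rw [hk, hxk, hi, pow_mul, h.hxp, one_pow, mul_one]; exact hl)
  -- a large subgroup of `lay j` centralising `a`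
  let C : Subgroup Ω := h.L j ⊓ Subgroup.centralizer ({a} : Set Ω)
  have hCS : C ≤ S := inf_le_left.trans ((fr.lay_le h.hx h.hxQ j).trans fr.st.hQS)
  haveI := finite_of_le hCS
  have hzC : zQ Q ≤ C := fun w hw => ⟨fr.zQ_le_lay h.hx h.hxQ j hw,
    Subgroup.mem_centralizer_singleton_iff.2 (zQ_central fr.st (fr.memS ha.1) hw).symm⟩
  set W : Submodule (ZMod p) (Vt Q) :=
    LinearMap.ker ((fr.symp h.hx).N ^ j) ⊓ LinearMap.ker (fr.form (pr Q a)) with hW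
  have hWC : W ≤ fr.prSub C := fun v hv => by
    have hm : lift v ∈ C := ⟨⟨lift_mem v, by rw [pr_lift]; exact hv.1⟩,
      Subgroup.mem_centralizer_singleton_iff.2 ((fr.comm_iff ha.1 (lift_mem v)).2
        (by rw [pr_lift]; exact hv.2)).symm⟩
    exact fr.mem_prSub.2 ⟨lift v, hm, lift_mem v, pr_lift v⟩
  have hWd : 2 ≤ finrank (ZMod p) W := by
    by_cases h2 : j + j ≤ h.dim
    · have hle : LinearMap.ker ((fr.symp h.hx).N ^ j) ≤ W := fun v hv =>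
        ⟨hv, (fr.symp h.hx).ker_perp h.hker h2 ha.2 hv⟩
      have := Submodule.finrank_mono hle
      rw [(fr.symp h.hx).finrank_ker_pow h.hker j (by simp only [dim] at hjm; omega)] at this
      omega
    · have h1 := Submodule.finrank_sup_add_finrank_inf_eq (LinearMap.ker ((fr.symp h.hx).N ^ j))
        (LinearMap.ker (fr.form (pr Q a)))
      rw [← hW, (fr.symp h.hx).finrank_ker_pow h.hker j (by simp only [dim] at hjm; omega)] at h1
      have h3 := LinearMap.finrank_range_add_finrank_ker (fr.form (pr Q a))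
      have h4 := (Submodule.finrank_le (LinearMap.range (fr.form (pr Q a)))).trans
        (Module.finrank_self (ZMod p)).le
      have h5 := Submodule.finrank_le (LinearMap.ker ((fr.symp h.hx).N ^ j) ⊔
        LinearMap.ker (fr.form (pr Q a)))
      have := h.four_le
      simp only [dim] at this h2
      omega
  have hCc : p ^ 3 ≤ Nat.card C := by
    rw [← (inf_eq_left.2 ((inf_le_left : C ≤ h.L j).trans (fr.lay_le h.hx h.hxQ j)) : C ⊓ Q = C),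
      fr.card_inf_Q hzC]
    refine Nat.pow_le_pow_right (Fact.out : p.Prime).pos ?_
    have := Submodule.finrank_mono hWC
    omega
  have hCE : C ≤ h.Ei j := inf_le_left.trans (h.L_le_Ei j)
  have h2 := h.card_cent_le hk0 (fr.lay_mono h.hx h.hxQ (by omega : j ≤ h.dim - 1) hl)
    ((hψ.mono hCE).img_le) fun y hy => by
      obtain ⟨b, hb, rfl⟩ := (hψ.mono hCE).mem_img.1 hy
      rw [← hxk, ← hk, ← hψ.map_mul (hCE hb) (h.L_le_Ei j ha), ← hψ.map_mul (h.L_le_Ei j ha) (hCE hb),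
        Subgroup.mem_centralizer_singleton_iff.1 hb.2]
  rw [(hψ.mono hCE).card_img] at h2
  have := (Nat.pow_lt_pow_iff_right (Fact.out : p.Prime).one_lt).2 (show 2 < 3 by norm_num)
  omega

/-- The first layer is invariant as well, since no element of it outside `Z(Q)` is conjugate into
the centre. -/
theorem invariant_one {ψ : Ω → Ω} (hψ : IsMap F (h.Ei 1) ψ) (hψE : ∀ a ∈ h.Ei 1, ψ a ∈ h.Ei 1)
    {s : ℕ} (hψz : ψ z = z ^ s) {a : Ω} (ha : a ∈ h.L 1) : ψ a ∈ h.L 1 := by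
  by_contra hna
  obtain ⟨l, hl, k, hk⟩ := h.mem_Ei.1 (hψE a (h.L_le_Ei 1 ha))
  set k' : ℕ := ((k : ZMod p)).val with hk'
  have hxk : x ^ k = x ^ k' := by
    rw [← zpow_natCast x k', zpow_eq_zpow_iff_modEq]
    refine Int.ModEq.of_dvd (Int.natCast_dvd_natCast.2 (orderOf_dvd_of_pow_eq_one h.hxp)) ?_
    rw [← ZMod.intCast_eq_intCast_iff, hk', Int.cast_natCast, ZMod.natCast_zmod_val]
  have hk0 : ¬ p ∣ k' := by
    rintro ⟨i, hi⟩
    exact hna (by rw [hk, hxk, hi, pow_mul, h.hxp, one_pow, mul_one]; exact hl)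
  obtain ⟨g, hg, hge⟩ := h.exists_conj_x hk0
    (fr.lay_mono h.hx h.hxQ (by have := h.four_le; omega : 1 ≤ h.dim - 1) hl)
  have haz : a ∉ zQ Q := fun haz => hna (by
    obtain ⟨n, rfl⟩ := exists_pow fr.st fr.hz fr.hz1 haz
    rw [hψ.map_pow (h.z_mem_Ei 1), hψz]
    exact fr.zQ_le_lay h.hx h.hxQ 1 ((zQ Q).pow_mem ((zQ Q).pow_mem fr.hz s) n))
  obtain ⟨f, hf, hfx⟩ := h.hconj
  refine h.hnB ⟨a, ha.1, haz, ⟨x, h.hx, h.hxQ, by simpa using ha.2⟩,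
    fun b => f (g⁻¹ * ψ b * g⁻¹⁻¹), ?_, ?_⟩
  · have hm1 : IsMap F (Subgroup.zpowers a) ψ :=
      hψ.mono (Subgroup.zpowers_le.2 (h.L_le_Ei 1 ha))
    have hm2 : IsMap F (Subgroup.zpowers a) (fun b => g⁻¹ * ψ b * g⁻¹⁻¹) :=
      hm1.comp (isMap_conj F le_rfl (S.inv_mem hg)) fun b hb => hm1.mem hb
    refine hm2.comp hf fun b hb => ?_
    obtain ⟨n, rfl⟩ := Subgroup.mem_zpowers_iff.1 hb
    have hn : g⁻¹ * ψ (a ^ n) * g⁻¹⁻¹ = (g⁻¹ * ψ a * g⁻¹⁻¹) ^ n :=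
      map_zpow hm2.toHom ⟨a, Subgroup.mem_zpowers a⟩ n
    rw [hn, hk, hxk, ← hge, show g⁻¹ * (g * x ^ k' * g⁻¹) * g⁻¹⁻¹ = x ^ k' by group]
    exact zpow_mem (pow_mem (Subgroup.mem_zpowers x) k') n
  · show f (g⁻¹ * ψ a * g⁻¹⁻¹) ∈ zQ Q
    rw [hk, hxk, ← hge, show g⁻¹ * (g * x ^ k' * g⁻¹) * g⁻¹⁻¹ = x ^ k' by group,
      hf.map_pow (Subgroup.mem_zpowers x)]
    exact (zQ Q).pow_mem hfx k'

/-- One step along the chain; the coset of the image of `x` keeps its layer. -/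
theorem step {s t i : ℕ} (hts : (s : ZMod p) * (t : ZMod p) = 1) (hi : i < h.dim)
    (hg : h.Good s t i) : ∃ φ, IsMap F (h.Ei (i + 1)) φ ∧ (∀ a ∈ h.Ei (i + 1), φ a ∈ h.Ei (i + 1)) ∧
      φ z = z ^ s ∧ φ x * (x ^ t)⁻¹ ∈ h.L i := by
  haveI := finite_of_le (h.Ei_le i)
  obtain ⟨φ, hφ, hφE, hφL, hφz, hφx⟩ := hg
  have himg : img (h.Ei i) φ = h.Ei i := by
    refine Subgroup.eq_of_le_of_card_ge ?_ (by rw [hφ.card_img])
    intro y hy
    obtain ⟨a, ha, rfl⟩ := hφ.mem_img.1 hy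
    exact hφE a ha
  set δ : MulAut (h.Ei i) := hφ.toAut himg with hδ
  have hδmem : δ ∈ F.autGroup (h.Ei i) := hφ.toAut_mem himg
  let R : Subgroup (MulAut (h.Ei i)) :=
    { carrier := {r | ((r ⟨z, h.z_mem_Ei i⟩ : h.Ei i) : Ω) = z ∧
        ∀ a : h.Ei i, (a : Ω)⁻¹ * ((r a : h.Ei i) : Ω) ∈ h.L i}
      one_mem' := ⟨rfl, fun a => by simp⟩
      mul_mem' := fun {r r'} hr hr' => ⟨by
          rw [MulAut.mul_apply, show r' ⟨z, h.z_mem_Ei i⟩ = ⟨z, h.z_mem_Ei i⟩ from Subtype.ext hr'.1,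
            hr.1],
        fun a => by
          rw [MulAut.mul_apply]
          have := mul_mem (hr'.2 a) (hr.2 (r' a))
          simpa [mul_assoc] using this⟩
      inv_mem' := fun {r} hr => ⟨by
          conv_lhs => rw [← show r ⟨z, h.z_mem_Ei i⟩ = ⟨z, h.z_mem_Ei i⟩ from Subtype.ext hr.1]
          rw [MulAut.inv_apply_self],
        fun a => by
          have := (h.L i).inv_mem (hr.2 (r⁻¹ a))
          rw [MulAut.apply_inv_self] at this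
          simpa using this⟩ }
  have hT : autInducedBy S (h.Ei i) ≤ R := by
    intro r hr
    obtain ⟨g, hgS, hgr⟩ := mem_autInducedBy_iff.1 hr
    refine ⟨?_, fun a => ?_⟩
    · rw [hgr]
      show g * z * g⁻¹ = z
      rw [fr.z_comm hgS, mul_inv_cancel_right]
    · rw [← h.Ei_inf_Q]
      refine ⟨(h.Ei i).mul_mem ((h.Ei i).inv_mem a.2) (r a).2, ?_⟩
      rw [hgr, show (a : Ω)⁻¹ * (g * a * g⁻¹) = (a : Ω)⁻¹ * g * ((a : Ω)⁻¹)⁻¹ * g⁻¹ by group]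
      exact fr.comm_memQ' (S.inv_mem (h.Ei_le i a.2)) hgS
  have hzt : ((δ⁻¹ ⟨z, h.z_mem_Ei i⟩ : h.Ei i) : Ω) = z ^ t := by
    have h1 : δ ((⟨z, h.z_mem_Ei i⟩ : h.Ei i) ^ t) = ⟨z, h.z_mem_Ei i⟩ := by
      refine Subtype.ext ?_
      rw [_root_.map_pow, SubgroupClass.coe_pow, hφ.toAut_apply himg]
      show φ z ^ t = z
      rw [hφz, ← pow_mul]
      conv_rhs => rw [← pow_one z]
      rw [pow_eq_pow_iff_modEq, fr.orderOf_z, ← ZMod.natCast_eq_natCast_iff, Nat.cast_mul, hts,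
        Nat.cast_one]
    rw [← h1, MulAut.inv_apply_self]
    rfl
  have hn : ∀ r ∈ R, δ * r * δ⁻¹ ∈ R := fun r hr => ⟨by
      rw [MulAut.mul_apply, MulAut.mul_apply]
      have hw : δ⁻¹ ⟨z, h.z_mem_Ei i⟩ = (⟨z, h.z_mem_Ei i⟩ : h.Ei i) ^ t := Subtype.ext hzt
      rw [hw, _root_.map_pow, show r ⟨z, h.z_mem_Ei i⟩ = ⟨z, h.z_mem_Ei i⟩ from Subtype.ext hr.1, ← hw,
        MulAut.apply_inv_self],
    fun a => by
      rw [MulAut.mul_apply, MulAut.mul_apply]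
      have h1 := hφL _ (hr.2 (δ⁻¹ a))
      rw [hφ.map_mul ((h.Ei i).inv_mem (δ⁻¹ a).2) (r (δ⁻¹ a)).2, hφ.map_inv (δ⁻¹ a).2,
        ← hφ.toAut_apply himg, ← hφ.toAut_apply himg, ← hδ, MulAut.apply_inv_self] at h1
      exact h1⟩
  obtain ⟨r, hrR, -, ψ, hψ, hψN, hψx⟩ :=
    exists_adjust fr.st.hS h.hF (h.fullyNormalized_Ei hi) hδmem R hT hn
  rw [h.normalizer_Ei_le hi] at hψ hψN
  refine ⟨ψ, hψ, hψN, ?_, ?_⟩
  · have h1 := hψx ⟨z, h.z_mem_Ei i⟩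
    have h2 : δ ⟨z, h.z_mem_Ei i⟩ = (⟨z, h.z_mem_Ei i⟩ : h.Ei i) ^ s := Subtype.ext (by
      rw [hφ.toAut_apply himg, SubgroupClass.coe_pow]; exact hφz)
    rw [MulAut.mul_apply, h2, _root_.map_pow, SubgroupClass.coe_pow, hrR.1] at h1
    exact h1
  · have h1 := hψx ⟨x, h.x_mem i⟩
    rw [MulAut.mul_apply] at h1
    have h2 : ((δ ⟨x, h.x_mem i⟩ : h.Ei i) : Ω) = φ x := hφ.toAut_apply himg _
    have h3 : φ x * ((φ x)⁻¹ * ψ x) * (φ x)⁻¹ ∈ h.L i := by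
      refine fr.lay_conj h.hx h.hxQ (hφ.mem (h.x_mem i)) ?_
      have h4 := hrR.2 (δ ⟨x, h.x_mem i⟩)
      rw [h2, ← h1] at h4
      exact h4
    have h5 := mul_mem h3 hφx
    rwa [show φ x * ((φ x)⁻¹ * ψ x) * (φ x)⁻¹ * (φ x * (x ^ t)⁻¹) = ψ x * (x ^ t)⁻¹ by group] at h5

theorem good {s t : ℕ} (hts : (s : ZMod p) * (t : ZMod p) = 1) : ∀ i, i < h.dim → h.Good s t i
  | 0, _ => h.good_zero hts
  | i + 1, hi => by
    obtain ⟨ψ, hψ, hψE, hψz, hψx⟩ := h.step hts (by omega) (good hts i (by omega))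
    refine ⟨ψ, hψ, hψE, fun a ha => ?_, hψz, fr.lay_mono h.hx h.hxQ (Nat.le_succ i) hψx⟩
    rcases i with _ | j
    · exact h.invariant_one hψ hψE hψz ha
    · exact h.invariant_layer (by omega) (by omega) hψ hψE ha

/-- A torus element of `S`. -/
theorem exists_top {s t : ℕ} (hts : (s : ZMod p) * (t : ZMod p) = 1) :
    ∃ φ, IsMap F S φ ∧ (∀ a ∈ Q, φ a ∈ Q) ∧ φ z = z ^ s ∧ φ x * (x ^ t)⁻¹ ∈ h.L (h.dim - 1) := by
  haveI := fr.finite_Vt
  have hd := h.four_le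
  obtain ⟨ψ, hψ, hψE, hψz, hψx⟩ := h.step hts (i := h.dim - 1) (by omega)
    (h.good hts (h.dim - 1) (by omega))
  rw [Nat.sub_add_cancel (by omega), h.Ei_top] at hψ hψE
  have hQ : Q ≤ S := fr.st.hQS
  refine ⟨ψ, hψ, fun a ha => ?_, hψz, hψx⟩
  have huniq := fr.Q_unique h.hx h.hxQ (by rw [h.hker]; simp only [dim] at hd; omega)
    (hψ.mono hQ).img_le (hψ.mono hQ).card_img fun u hu v hv => by
      obtain ⟨u', hu', rfl⟩ := (hψ.mono hQ).mem_img.1 hu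
      obtain ⟨v', hv', rfl⟩ := (hψ.mono hQ).mem_img.1 hv
      obtain ⟨n, hn⟩ := exists_pow fr.st fr.hz fr.hz1 (commutator_mem fr.st hu' hv')
      have h1 : ψ (u' * v' * u'⁻¹ * v'⁻¹) = ψ u' * ψ v' * (ψ u')⁻¹ * (ψ v')⁻¹ := by
        rw [(hψ.mono hQ).map_mul (Q.mul_mem (Q.mul_mem hu' hv') (Q.inv_mem hu')) (Q.inv_mem hv'),
          (hψ.mono hQ).map_conj hu' hv', (hψ.mono hQ).map_inv hv']
      rw [← h1, hn, hψ.map_pow (fr.memS fr.z_mem), hψz]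
      exact (zQ Q).pow_mem ((zQ Q).pow_mem fr.hz s) n
  exact huniq.le ((hψ.mono hQ).apply_mem_img ha)

end PearlData

end CfsgLib.Fusion.ESReduce
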