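import Cfsg.Agent.Lib.Fusion.ESReduce.Maps

/-!
Small tools: the character of `S` with kernel `Q`, powers of an element of order `p`, functionals.
-/

set_option autoImplicit false
set_option linter.style.haveILetI false
set_option linter.unusedVariables false
set_option linter.unusedSectionVars false

universe u

namespace CfsgLib.Fusion.ESReduce

open Cfsg Cfsg.FusionSystem Subgroup CfsgLib.Fusion.ESIndex Module
open scoped commutatorElement

variable {Ω : Type u} [Group Ω] {S Q : Subgroup Ω} {p : ℕ} {z : Ω} {F : FusionSystem S}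

theorem ez_add_of {u : Ω} [NeZero p] (hu : u ^ p = 1) (s t : ZMod p) :
    ez p u (s + t) = ez p u s * ez p u t := by
  rw [ez, ez, ez, ZMod.val_add, ← pow_add]
  conv_rhs => rw [← Nat.mod_add_div (s.val + t.val) p, pow_add, pow_mul, hu, one_pow, mul_one]

theorem ez_one_of {u : Ω} [Fact p.Prime] : ez p u (1 : ZMod p) = u := by
  rw [ez, ZMod.val_one, pow_one]

theorem map_ez {P : Subgroup Ω} {f : Ω → Ω} (h : IsMap F P f) {u : Ω} (hu : u ∈ P)
    (t : ZMod p) : f (ez p u t) = ez p (f u) t := h.map_pow hu _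

theorem comm_mem_Q_of [Fact p.Prime] [Finite S] {a b : Ω} (fr : Frame p S Q z)
    [Module (ZMod p) (Vt Q)] (ha : a ∈ S) (hb : b ∈ S) : a * b * a⁻¹ * b⁻¹ ∈ Q := by
  haveI := fr.subgroupOf_normal
  have hcard : Nat.card (S ⧸ Q.subgroupOf S) = p := by rw [← Subgroup.index_eq_card, fr.st.hQi]
  haveI := isCyclic_of_prime_card hcard
  letI := IsCyclic.commGroup (α := S ⧸ Q.subgroupOf S)
  have h : (⟨a, ha⟩ : S) * ⟨b, hb⟩ * ⟨a, ha⟩⁻¹ * ⟨b, hb⟩⁻¹ ∈ Q.subgroupOf S := by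
    rw [← QuotientGroup.eq_one_iff (N := Q.subgroupOf S)]
    simp only [QuotientGroup.mk_mul, QuotientGroup.mk_inv]
    rw [mul_comm (QuotientGroup.mk (⟨a, ha⟩ : S)), mul_inv_cancel_right, mul_inv_cancel]
  exact h

namespace Frame

variable [Fact p.Prime] [Finite S] [Module (ZMod p) (Vt Q)] (fr : Frame p S Q z)

include fr

/-- The exponent of an element of `S` modulo `Q`, with respect to `x`. -/
theorem exists_theta {x : Ω} (hx : x ∈ S) (hxQ : x ∉ Q) : ∃ θ : Ω → ZMod p,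
    (∀ a ∈ S, ∀ b ∈ S, θ (a * b) = θ a + θ b) ∧ (∀ a ∈ S, θ a = 0 ↔ a ∈ Q) ∧ θ x = 1 ∧
      ∀ a ∈ S, ∃ q ∈ Q, a = q * x ^ (θ a).val := by
  classical
  let θ : Ω → ZMod p := fun a =>
    if h : a ∈ S then (((fr.decompose hx hxQ h).choose_spec.2.choose : ℕ) : ZMod p) else 0
  have hspec : ∀ a ∈ S, ∀ i : ℕ, (∃ q ∈ Q, a = q * x ^ i) → θ a = (i : ZMod p) := by
    intro a ha i ⟨q, hq, he⟩
    obtain ⟨q', hq', j, hj, rfl⟩ : ∃ q' ∈ Q, ∃ j : ℕ, (j : ZMod p) = θ a ∧ a = q' * x ^ j :=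
      ⟨_, (fr.decompose hx hxQ ha).choose_spec.1, (fr.decompose hx hxQ ha).choose_spec.2.choose,
        by simp only [θ, dif_pos ha],
        (fr.decompose hx hxQ ha).choose_spec.2.choose_spec⟩
    rw [← hj]
    clear hj ha
    wlog hle : i ≤ j generalizing i j q q'
    · exact (this j q' hq' q hq i he.symm (le_of_not_ge hle)).symm
    obtain ⟨k, rfl⟩ := Nat.exists_eq_add_of_le hle
    rw [add_comm i k, pow_add, ← mul_assoc, mul_left_inj, ← eq_inv_mul_iff_mul_eq] at he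
    have hk : p ∣ k := by
      by_contra h
      exact fr.pow_notMem hx hxQ h (he ▸ Q.mul_mem (Q.inv_mem hq') hq)
    rw [Nat.cast_add, (ZMod.natCast_eq_zero_iff k p).2 hk, add_zero]
  have hdec : ∀ a ∈ S, ∃ q ∈ Q, a = q * x ^ (θ a).val := by
    intro a ha
    obtain ⟨q, hq, i, rfl⟩ := fr.decompose hx hxQ ha
    rw [hspec _ ha i ⟨q, hq, rfl⟩, ZMod.val_natCast]
    refine ⟨q * (x ^ p) ^ (i / p), Q.mul_mem hq (Q.pow_mem (fr.S_pow_mem hx) _), ?_⟩
    rw [mul_assoc, ← pow_mul, ← pow_add, Nat.div_add_mod]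
  refine ⟨θ, fun a ha b hb => ?_, fun a ha => ?_, ?_, hdec⟩
  · obtain ⟨q₁, hq₁, i, rfl⟩ := fr.decompose hx hxQ ha
    obtain ⟨q₂, hq₂, j, rfl⟩ := fr.decompose hx hxQ hb
    rw [hspec _ (S.mul_mem ha hb) (i + j)
      ⟨q₁ * (x ^ i * q₂ * (x ^ i)⁻¹), Q.mul_mem hq₁ (fr.conj_memQ (S.pow_mem hx i) hq₂), by
        rw [pow_add]; group⟩,
      hspec _ ha i ⟨q₁, hq₁, rfl⟩, hspec _ hb j ⟨q₂, hq₂, rfl⟩, Nat.cast_add]
  · refine ⟨fun h => ?_, fun h => by rw [hspec a ha 0 ⟨a, h, by simp⟩, Nat.cast_zero]⟩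
    obtain ⟨q, hq, he⟩ := hdec a ha
    rw [he, h, ZMod.val_zero, pow_zero, mul_one]
    exact hq
  · rw [hspec x hx 1 ⟨1, Q.one_mem, by simp⟩, Nat.cast_one]

theorem theta_pow {θ : Ω → ZMod p} (hθ : ∀ a ∈ S, ∀ b ∈ S, θ (a * b) = θ a + θ b) {a : Ω}
    (ha : a ∈ S) (n : ℕ) : θ (a ^ n) = n * θ a := by
  induction n with
  | zero =>
    rw [pow_zero, Nat.cast_zero, zero_mul]
    have h := hθ 1 S.one_mem 1 S.one_mem
    rw [one_mul] at h
    exact left_eq_add.1 h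
  | succ n ih => rw [pow_succ, hθ _ (S.pow_mem ha n) _ ha, ih]; push_cast; ring

/-- The power of the action vanishes for all elements once it does for one outside `Q`. -/
theorem N_pow_eq_zero_all {x : Ω} (hx : x ∈ S) (hxQ : x ∉ Q) {k : ℕ}
    (h : (fr.symp hx).N ^ k = 0) {g : Ω} (hg : g ∈ S) : (fr.symp hg).N ^ k = 0 := by
  obtain ⟨q, hq, i, rfl⟩ := fr.decompose hx hxQ hg
  show (fr.cj _ hg - 1) ^ k = 0
  rw [fr.cj_eq hq hx i hg, ← geom_sum_mul]
  have hcomm : Commute (∑ j ∈ Finset.range i, fr.cj x hx ^ j) (fr.cj x hx - 1) :=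
    Commute.sum_left _ _ _ fun j _ =>
      ((Commute.refl (fr.cj x hx)).sub_right (Commute.one_right _)).pow_left j
  rw [hcomm.mul_pow]
  show _ * ((fr.symp hx).N) ^ k = 0
  rw [h, mul_zero]

/-- Every functional on a subspace is given by the form. -/
theorem exists_repr (W : Submodule (ZMod p) (Vt Q)) (f : W →ₗ[ZMod p] ZMod p) :
    ∃ a ∈ Q, ∀ w : W, fr.form (pr Q a) w = f w := by
  haveI := fr.finite_Vt
  obtain ⟨L, hL⟩ := LinearMap.exists_extend f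
  have hnd : LinearMap.BilinForm.Nondegenerate fr.form :=
    ⟨fr.form_nondeg, fun a h => fr.form_nondeg a fun b => by
      have h1 := fr.form_alt (a + b)
      simp only [map_add, LinearMap.add_apply, fr.form_alt, h b, zero_add, add_zero] at h1
      exact h1⟩
  obtain ⟨v, hv⟩ := (LinearMap.injective_iff_surjective_of_finrank_eq_finrank
    Subspace.dual_finrank_eq.symm).1 (LinearMap.ker_eq_bot.1 hnd.ker_eq_bot) L
  obtain ⟨a, ha, rfl⟩ := exists_pr v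
  exact ⟨a, ha, fun w => by rw [hv, ← hL]; rfl⟩

/-- Adjusting an element by `Q` so that it commutes with the lifts of the kernel. -/
theorem exists_commuting {x : Ω} (hx : x ∈ S) (hxQ : x ∉ Q) :
    ∃ q ∈ Q, (∀ k ∈ Q, (fr.symp hx).N (pr Q k) = 0 → q * x * k = k * (q * x)) ∧
      ∀ k ∈ Q, (fr.symp hx).N (pr Q k) = 0 → x * k = k * x → fr.form (pr Q q) (pr Q k) = 0 := by
  set W := LinearMap.ker (fr.symp hx).N with hW
  have hc : ∀ k ∈ Q, (fr.symp hx).N (pr Q k) = 0 →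
      x * k * x⁻¹ = ez p z (zlog p z (x * k * x⁻¹ * k⁻¹)) * k := fun k hk h => by
    rw [fr.ez_zlog ((fr.N_eq_zero_iff hx hk).1 h), inv_mul_cancel_right]
  have hcm : ∀ a ∈ Q, (fr.symp hx).N (pr Q a) = 0 → ∀ b ∈ Q, (fr.symp hx).N (pr Q b) = 0 →
      zlog p z (x * (a * b) * x⁻¹ * (a * b)⁻¹) =
        zlog p z (x * a * x⁻¹ * a⁻¹) + zlog p z (x * b * x⁻¹ * b⁻¹) := by
    intro a ha h1 b hb h2
    refine fr.ez_inj ?_
    rw [fr.ez_zlog ((fr.N_eq_zero_iff hx (Q.mul_mem ha hb)).1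
      (by rw [pr_mul ha hb, map_add, h1, h2, add_zero])), fr.ez_add,
      fr.ez_zlog ((fr.N_eq_zero_iff hx ha).1 h1), fr.ez_zlog ((fr.N_eq_zero_iff hx hb).1 h2)]
    have h3 := zQ_central fr.st (fr.memS ha) ((fr.N_eq_zero_iff hx hb).1 h2)
    calc x * (a * b) * x⁻¹ * (a * b)⁻¹ = (x * a * x⁻¹) * (x * b * x⁻¹ * b⁻¹) * a⁻¹ := by group
      _ = (x * a * x⁻¹) * (a⁻¹ * (a * (x * b * x⁻¹ * b⁻¹))) * a⁻¹ := by group
      _ = x * a * x⁻¹ * a⁻¹ * (x * b * x⁻¹ * b⁻¹) := by rw [h3]; group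
  have hcongr : ∀ a ∈ Q, ∀ b ∈ Q, pr Q a = pr Q b → (fr.symp hx).N (pr Q a) = 0 →
      zlog p z (x * a * x⁻¹ * a⁻¹) = zlog p z (x * b * x⁻¹ * b⁻¹) := by
    intro a ha b hb he hN
    obtain ⟨t, rfl⟩ := fr.pr_eq ha hb he
    congr 1
    calc x * a * x⁻¹ * a⁻¹ = x * a * (x⁻¹ * (x * ez p z t)) * x⁻¹ * (a * ez p z t)⁻¹ := by
          rw [fr.ez_comm hx t]; group
      _ = _ := by group
  let f : W →ₗ[ZMod p] ZMod p := AddMonoidHom.toZModLinearMap p (AddMonoidHom.mk'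
    (fun w => -zlog p z (x * lift (w : Vt Q) * x⁻¹ * (lift (w : Vt Q))⁻¹)) fun a b => by
      rw [← neg_add, neg_inj, ← hcm _ (lift_mem _) (by rw [pr_lift]; exact a.2) _ (lift_mem _)
        (by rw [pr_lift]; exact b.2)]
      exact hcongr _ (lift_mem _) _ (Q.mul_mem (lift_mem _) (lift_mem _))
        (by rw [pr_mul (lift_mem _) (lift_mem _), pr_lift, pr_lift, pr_lift]; rfl)
        (by rw [pr_lift]; exact (a + b).2))
  obtain ⟨q, hq, hf⟩ := fr.exists_repr W f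
  have hform : ∀ k ∈ Q, (fr.symp hx).N (pr Q k) = 0 →
      fr.form (pr Q q) (pr Q k) = -zlog p z (x * k * x⁻¹ * k⁻¹) := fun k hk h => by
    rw [hf ⟨pr Q k, h⟩]
    exact congrArg Neg.neg (hcongr _ (lift_mem _) _ hk (pr_lift _) (by rw [pr_lift]; exact h))
  refine ⟨q, hq, fun k hk h => ?_, fun k hk h hcom => ?_⟩
  · have h1 := hc k hk h
    have h2 := fr.mul_swap hq hk
    rw [hform k hk h, fr.ez_neg] at h2
    set e := ez p z (zlog p z (x * k * x⁻¹ * k⁻¹)) with he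
    calc q * x * k = q * (x * k * x⁻¹) * x := by group
      _ = e * (q * k) * x := by rw [h1, ← mul_assoc q, fr.ez_comm (fr.memS hq), mul_assoc e]
      _ = k * (q * x) := by rw [h2]; group
  · rw [hform k hk h, hcom, mul_inv_cancel_right, mul_inv_cancel, ← fr.ez_zero, fr.zlog_ez, neg_zero]

end Frame

end CfsgLib.Fusion.ESReduce
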